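import Mathlib

set_option autoImplicit false

/-!
Automorphisms of a finite group generated by an element `a` of prime order `p`, where `p ^ 2` does
not divide the order of the group, and one more element `b`: up to inner automorphisms, an
automorphism maps `a` to one of a few powers of `a`, and then it is determined by the image of `b`.
-/

namespace Cfsg.Agent.Helper9.OutL

/-- the value of a word in two letters. -/
def evalW {G : Type*} [Monoid G] (w : List Bool) (x y : G) : G :=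
  (w.map (fun c => if c then x else y)).prod

theorem map_evalW {G : Type*} [Group G] (β : MulAut G) (w : List Bool) (x y : G) :
    β (evalW w x y) = evalW w (β x) (β y) := by
  unfold evalW
  rw [map_list_prod, List.map_map]
  congr 1
  apply List.map_congr_left
  intro c _
  simp only [Function.comp_apply]
  split_ifs <;> rfl

theorem conj_pow_eq {G : Type*} [Group G] (n a : G) (r : ℕ) (hn : n * a * n⁻¹ = a ^ r) (m : ℕ) :
    n * a ^ m * n⁻¹ = a ^ (m * r) := by
  have h : n * a ^ m * n⁻¹ = (n * a * n⁻¹) ^ m := by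
    rw [conj_pow]
  rw [h, hn, ← pow_mul, mul_comm]

theorem conj_pow_pow {G : Type*} [Group G] (n a : G) (r : ℕ) (hn : n * a * n⁻¹ = a ^ r) (m : ℕ) :
    ∀ j : ℕ, n ^ j * a ^ m * (n ^ j)⁻¹ = a ^ (m * r ^ j) := by
  intro j
  induction j with
  | zero => simp
  | succ j ih =>
    have e : n ^ (j + 1) * a ^ m * (n ^ (j + 1))⁻¹ = n * (n ^ j * a ^ m * (n ^ j)⁻¹) * n⁻¹ := by
      rw [pow_succ']
      group
    rw [e, ih, conj_pow_eq n a r hn, pow_succ, mul_assoc]

/-- an automorphism which agrees with an inner automorphism on two generators is inner. -/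
theorem eq_conj_of_agree {G : Type*} [Group G] (a b : G)
    (hgen : Subgroup.closure ({a, b} : Set G) = ⊤) (β : MulAut G) (d : G)
    (h1 : β a = d * a * d⁻¹) (h2 : β b = d * b * d⁻¹) : β = MulAut.conj d := by
  have key : (β : G ≃* G).toMonoidHom = (MulAut.conj d : G ≃* G).toMonoidHom := by
    apply MonoidHom.eq_of_eqOn_dense hgen
    intro x hx
    rcases hx with rfl | rfl
    · exact h1
    · exact h2
  apply MulEquiv.ext
  intro x
  exact congrArg (fun f : G →* G => f x) key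

/-- the normal form of an automorphism. -/
theorem aut_normal_form {G : Type*} [Group G] [Finite G] (p : ℕ) [hp : Fact p.Prime] (a b n : G)
    (r : ℕ) (ha : orderOf a = p) (hp2 : ¬ p ^ 2 ∣ Nat.card G)
    (hn : n * a * n⁻¹ = a ^ r)
    (K0 : List ℕ)
    (hK0 : ∀ k, 0 < k → k < p → ∃ j : ℕ, ∃ k0 ∈ K0, (k * r ^ j) % p = k0 % p)
    (Cand : Set G) (hCand : ∀ β : MulAut G, β b ∈ Cand)
    (rels : List (List Bool × ℕ)) (hrels : ∀ e ∈ rels, evalW e.1 a b ^ e.2 = 1)
    (α : MulAut G) :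
    ∃ (c : G) (k0 : ℕ) (b' : G), k0 ∈ K0 ∧ b' ∈ Cand ∧
      (∀ e ∈ rels, evalW e.1 (a ^ k0) b' ^ e.2 = 1) ∧
      (MulAut.conj c * α) a = a ^ k0 ∧ (MulAut.conj c * α) b = b' := by
  classical
  have hcard_ne : Nat.card G ≠ 0 := Nat.card_pos.ne'
  have hpdvd : p ∣ Nat.card G := by
    rw [← ha]
    exact orderOf_dvd_natCard a
  have hfac : (Nat.card G).factorization p = 1 := by
    have h1 : 1 ≤ (Nat.card G).factorization p := by
      rw [← hp.out.pow_dvd_iff_le_factorization hcard_ne, pow_one]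
      exact hpdvd
    have h2 : ¬ 2 ≤ (Nat.card G).factorization p := by
      rw [← hp.out.pow_dvd_iff_le_factorization hcard_ne]
      exact hp2
    omega
  -- the Sylow subgroups
  have ha' : orderOf (α a) = p := by
    rw [MulEquiv.orderOf_eq, ha]
  have hPa : IsPGroup p ↥(Subgroup.zpowers a) := by
    apply IsPGroup.of_card (n := 1)
    rw [Nat.card_zpowers, ha, pow_one]
  have hPa' : IsPGroup p ↥(Subgroup.zpowers (α a)) := by
    apply IsPGroup.of_card (n := 1)
    rw [Nat.card_zpowers, ha', pow_one]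
  obtain ⟨P, hP⟩ := hPa.exists_le_sylow
  obtain ⟨Q, hQ⟩ := hPa'.exists_le_sylow
  have hcP : Nat.card ↥(P : Subgroup G) = p := by
    rw [Sylow.card_eq_multiplicity, hfac, pow_one]
  have hPeq : Subgroup.zpowers a = (P : Subgroup G) := by
    apply Subgroup.eq_of_le_of_card_ge hP
    rw [hcP, Nat.card_zpowers, ha]
  obtain ⟨g, hg⟩ := MulAction.exists_smul_eq G Q P
  have hmem : g * α a * g⁻¹ ∈ Subgroup.zpowers a := by
    rw [hPeq, ← hg, Sylow.coe_subgroup_smul]
    have h1 : α a ∈ (Q : Subgroup G) := hQ (Subgroup.mem_zpowers _)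
    have h2 := Subgroup.smul_mem_pointwise_smul (α a) (MulAut.conj g) (Q : Subgroup G) h1
    rwa [MulAut.smul_def, MulAut.conj_apply] at h2
  rw [← mem_powers_iff_mem_zpowers] at hmem
  obtain ⟨k, hk⟩ := hmem
  have hk' : a ^ (k % p) = g * α a * g⁻¹ := by
    rw [← hk, ← ha, pow_mod_orderOf]
  have hkpos : 0 < k % p := by
    rw [Nat.pos_iff_ne_zero]
    intro h0
    rw [h0, pow_zero] at hk'
    have h1 : α a = 1 := by
      have := congrArg (fun z => g⁻¹ * z * g) hk'
      simp only [mul_one, inv_mul_cancel] at this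
      have e : g⁻¹ * (g * α a * g⁻¹) * g = α a := by group
      rw [e] at this
      exact this.symm
    rw [h1, orderOf_one] at ha'
    exact hp.out.one_lt.ne ha'
  have hklt : k % p < p := Nat.mod_lt _ hp.out.pos
  obtain ⟨j, k0, hk0, hmod⟩ := hK0 (k % p) hkpos hklt
  refine ⟨n ^ j * g, k0, (MulAut.conj (n ^ j * g) * α) b, hk0, hCand _, ?_, ?_, rfl⟩
  · have hβa : (MulAut.conj (n ^ j * g) * α) a = a ^ k0 := by
      rw [MulAut.mul_apply, MulAut.conj_apply]
      have e : n ^ j * g * α a * (n ^ j * g)⁻¹ = n ^ j * (g * α a * g⁻¹) * (n ^ j)⁻¹ := by group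
      rw [e, ← hk', conj_pow_pow n a r hn, ← pow_mod_orderOf, ha, hmod, ← ha, pow_mod_orderOf]
    intro e he
    rw [← hβa, ← map_evalW, ← map_pow, hrels e he, map_one]
  · rw [MulAut.mul_apply, MulAut.conj_apply]
    have e : n ^ j * g * α a * (n ^ j * g)⁻¹ = n ^ j * (g * α a * g⁻¹) * (n ^ j)⁻¹ := by group
    rw [e, ← hk', conj_pow_pow n a r hn, ← pow_mod_orderOf, ha, hmod, ← ha, pow_mod_orderOf]

/-- if the only normal forms are the conjugations by powers of `a`, all automorphisms are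
inner. -/
theorem all_inner {G : Type*} [Group G] [Finite G] (p : ℕ) [hp : Fact p.Prime] (a b n : G)
    (r : ℕ) (hgen : Subgroup.closure ({a, b} : Set G) = ⊤)
    (ha : orderOf a = p) (hp2 : ¬ p ^ 2 ∣ Nat.card G)
    (hn : n * a * n⁻¹ = a ^ r)
    (K0 : List ℕ)
    (hK0 : ∀ k, 0 < k → k < p → ∃ j : ℕ, ∃ k0 ∈ K0, (k * r ^ j) % p = k0 % p)
    (Cand : Set G) (hCand : ∀ β : MulAut G, β b ∈ Cand)
    (rels : List (List Bool × ℕ)) (hrels : ∀ e ∈ rels, evalW e.1 a b ^ e.2 = 1)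
    (htest : ∀ k0 ∈ K0, ∀ b' ∈ Cand, (∀ e ∈ rels, evalW e.1 (a ^ k0) b' ^ e.2 = 1) →
      a ^ k0 = a ∧ ∃ i : ℕ, b' = a ^ i * b * (a ^ i)⁻¹)
    (α : MulAut G) : ∃ d : G, α = MulAut.conj d := by
  obtain ⟨c, k0, b', hk0, hb', hr, h1, h2⟩ :=
    aut_normal_form p a b n r ha hp2 hn K0 hK0 Cand hCand rels hrels α
  obtain ⟨hak, i, hi⟩ := htest k0 hk0 b' hb' hr
  have hβ : MulAut.conj c * α = MulAut.conj (a ^ i) := by
    apply eq_conj_of_agree a b hgen
    · rw [h1, hak]
      group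
    · rw [h2, hi]
  refine ⟨c⁻¹ * a ^ i, ?_⟩
  rw [map_mul, ← hβ, map_inv, ← mul_assoc, inv_mul_cancel, one_mul]

/-- a variant: the image of `b` is only needed up to conjugation by powers of `a`. -/
theorem all_inner_mod {G : Type*} [Group G] [Finite G] (p : ℕ) [hp : Fact p.Prime] (a b n : G)
    (r : ℕ) (hgen : Subgroup.closure ({a, b} : Set G) = ⊤)
    (ha : orderOf a = p) (hp2 : ¬ p ^ 2 ∣ Nat.card G)
    (hn : n * a * n⁻¹ = a ^ r)
    (K0 : List ℕ)
    (hK0 : ∀ k, 0 < k → k < p → ∃ j : ℕ, ∃ k0 ∈ K0, (k * r ^ j) % p = k0 % p)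
    (Cand : Set G) (hCand : ∀ β : MulAut G, ∃ i : ℕ, a ^ i * β b * (a ^ i)⁻¹ ∈ Cand)
    (rels : List (List Bool × ℕ)) (hrels : ∀ e ∈ rels, evalW e.1 a b ^ e.2 = 1)
    (htest : ∀ k0 ∈ K0, ∀ b' ∈ Cand, (∀ e ∈ rels, evalW e.1 (a ^ k0) b' ^ e.2 = 1) →
      a ^ k0 = a ∧ ∃ i : ℕ, b' = a ^ i * b * (a ^ i)⁻¹)
    (α : MulAut G) : ∃ d : G, α = MulAut.conj d := by
  obtain ⟨c, k0, b', hk0, -, -, h1, -⟩ :=
    aut_normal_form p a b n r ha hp2 hn K0 hK0 Set.univ (fun _ => Set.mem_univ _) rels hrels α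
  obtain ⟨i, hi⟩ := hCand (MulAut.conj c * α)
  have hβa : (MulAut.conj (a ^ i) * (MulAut.conj c * α)) a = a ^ k0 := by
    rw [MulAut.mul_apply, h1, MulAut.conj_apply, (Commute.pow_pow_self a i k0).eq,
      mul_inv_cancel_right]
  have hβb : (MulAut.conj (a ^ i) * (MulAut.conj c * α)) b =
      a ^ i * (MulAut.conj c * α) b * (a ^ i)⁻¹ := by
    rw [MulAut.mul_apply, MulAut.conj_apply]
  have hrβ : ∀ e ∈ rels,
      evalW e.1 (a ^ k0) ((MulAut.conj (a ^ i) * (MulAut.conj c * α)) b) ^ e.2 = 1 := by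
    intro e he
    rw [← hβa, ← map_evalW, ← map_pow, hrels e he, map_one]
  obtain ⟨hak, j, hj⟩ := htest k0 hk0 _ (by rw [hβb]; exact hi) hrβ
  have hβ' : MulAut.conj (a ^ i) * (MulAut.conj c * α) = MulAut.conj (a ^ j) := by
    apply eq_conj_of_agree a b hgen
    · rw [hβa, hak]
      group
    · rw [hj]
  refine ⟨c⁻¹ * (a ^ i)⁻¹ * a ^ j, ?_⟩
  have e : α = (MulAut.conj c)⁻¹ * ((MulAut.conj (a ^ i))⁻¹ *
      (MulAut.conj (a ^ i) * (MulAut.conj c * α))) := by
    group
  rw [e, hβ', map_mul, map_mul, map_inv, map_inv, mul_assoc]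

/-- a quotient by a subgroup containing everything has one element. -/
theorem card_quot_eq_one {A : Type*} [Group A] (N : Subgroup A) (h : ∀ x : A, x ∈ N) :
    Nat.card (A ⧸ N) = 1 := by
  have : N.index = 1 := Subgroup.index_eq_one.mpr ((Subgroup.eq_top_iff' N).mpr h)
  exact this

end Cfsg.Agent.Helper9.OutL
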