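import Mathlib
import Cfsg.Agent.Helper9.Out.OutLemma

set_option autoImplicit false

/-!
Automorphisms of a finite group generated by an element `a` of prime order `p` (with `p ^ 2` not
dividing the order of the group) and one more element `b`, in the presence of a known outer
automorphism `τ` which maps `a` to a power of `a`: every automorphism is inner or inner times `τ`.
-/

namespace Cfsg.Agent.Helper9.OutL

/-- an automorphism fixing `a` is inner, if the images of `b` under such automorphisms are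
recognized. -/
theorem inner_of_fix {G : Type*} [Group G] (a b : G)
    (hgen : Subgroup.closure ({a, b} : Set G) = ⊤)
    (Cand : Set G) (hCand : ∀ β : MulAut G, ∃ i : ℕ, a ^ i * β b * (a ^ i)⁻¹ ∈ Cand)
    (rels : List (List Bool × ℕ)) (hrels : ∀ e ∈ rels, evalW e.1 a b ^ e.2 = 1)
    (htest : ∀ b' ∈ Cand, (∀ e ∈ rels, evalW e.1 a b' ^ e.2 = 1) →
      ∃ i : ℕ, b' = a ^ i * b * (a ^ i)⁻¹)
    (β : MulAut G) (hβ : β a = a) : ∃ d : G, β = MulAut.conj d := by
  obtain ⟨i, hi⟩ := hCand β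
  have hβa : (MulAut.conj (a ^ i) * β) a = a := by
    rw [MulAut.mul_apply, hβ, MulAut.conj_apply]
    have : a ^ i * a = a * a ^ i := (Commute.pow_self a i).eq
    rw [this, mul_inv_cancel_right]
  have hβb : (MulAut.conj (a ^ i) * β) b = a ^ i * β b * (a ^ i)⁻¹ := by
    rw [MulAut.mul_apply, MulAut.conj_apply]
  have hrβ : ∀ e ∈ rels, evalW e.1 a ((MulAut.conj (a ^ i) * β) b) ^ e.2 = 1 := by
    intro e he
    nth_rewrite 1 [← hβa]
    rw [← map_evalW, ← map_pow, hrels e he, map_one]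
  obtain ⟨j, hj⟩ := htest _ (by rw [hβb]; exact hi) hrβ
  have hβ' : MulAut.conj (a ^ i) * β = MulAut.conj (a ^ j) := by
    apply eq_conj_of_agree a b hgen
    · rw [hβa]
      have : a ^ j * a = a * a ^ j := (Commute.pow_self a j).eq
      rw [this, mul_inv_cancel_right]
    · rw [hj]
  refine ⟨(a ^ i)⁻¹ * a ^ j, ?_⟩
  have e : β = (MulAut.conj (a ^ i))⁻¹ * (MulAut.conj (a ^ i) * β) := by group
  rw [e, hβ', map_mul, map_inv]

theorem conj_aut {G : Type*} [Group G] (τ : MulAut G) (x : G) :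
    τ * MulAut.conj x * τ⁻¹ = MulAut.conj (τ x) := by
  apply MulEquiv.ext
  intro y
  simp only [MulAut.mul_apply, MulAut.conj_apply, map_mul, map_inv, MulAut.apply_inv_self]

/-- every automorphism is inner, or becomes inner after multiplication with `τ`. -/
theorem inner_or_tau {G : Type*} [Group G] [Finite G] (p : ℕ) [hp : Fact p.Prime] (a b n : G)
    (r : ℕ) (hgen : Subgroup.closure ({a, b} : Set G) = ⊤)
    (ha : orderOf a = p) (hp2 : ¬ p ^ 2 ∣ Nat.card G)
    (hn : n * a * n⁻¹ = a ^ r)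
    (τ : MulAut G) (s t : ℕ) (hτ : τ a = a ^ s) (hst : (s * t) % p = 1)
    (hK0 : ∀ k, 0 < k → k < p → ∃ j : ℕ, ∃ k0 ∈ [1, t], (k * r ^ j) % p = k0 % p)
    (Cand : Set G) (hCand : ∀ β : MulAut G, ∃ i : ℕ, a ^ i * β b * (a ^ i)⁻¹ ∈ Cand)
    (rels : List (List Bool × ℕ)) (hrels : ∀ e ∈ rels, evalW e.1 a b ^ e.2 = 1)
    (htest : ∀ b' ∈ Cand, (∀ e ∈ rels, evalW e.1 a b' ^ e.2 = 1) →
      ∃ i : ℕ, b' = a ^ i * b * (a ^ i)⁻¹)
    (α : MulAut G) : (∃ d : G, α = MulAut.conj d) ∨ ∃ d : G, τ * α = MulAut.conj d := by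
  obtain ⟨c, k0, b', hk0, -, -, h1, -⟩ :=
    aut_normal_form p a b n r ha hp2 hn [1, t] hK0 Set.univ (fun _ => Set.mem_univ _) rels hrels α
  have hk0' : k0 = 1 ∨ k0 = t := by simpa using hk0
  rcases hk0' with rfl | rfl
  · left
    rw [pow_one] at h1
    obtain ⟨d, hd⟩ := inner_of_fix a b hgen Cand hCand rels hrels htest _ h1
    refine ⟨c⁻¹ * d, ?_⟩
    have e : α = (MulAut.conj c)⁻¹ * (MulAut.conj c * α) := by group
    rw [e, hd, map_mul, map_inv]
  · right
    have h2 : (τ * (MulAut.conj c * α)) a = a := by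
      rw [MulAut.mul_apply, h1, map_pow, hτ, ← pow_mul, ← pow_mod_orderOf, ha, hst, pow_one]
    obtain ⟨d, hd⟩ := inner_of_fix a b hgen Cand hCand rels hrels htest _ h2
    refine ⟨(τ c)⁻¹ * d, ?_⟩
    have e : τ * α = (τ * MulAut.conj c * τ⁻¹)⁻¹ * (τ * (MulAut.conj c * α)) := by group
    rw [e, hd, conj_aut, map_mul, map_inv]

/-- the outer automorphism group has two elements. -/
theorem card_out_eq_two {G : Type*} [Group G] (τ : MulAut G)
    (hτ : ¬ ∃ d : G, τ = MulAut.conj d)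
    (h : ∀ α : MulAut G, (∃ d : G, α = MulAut.conj d) ∨ ∃ d : G, τ * α = MulAut.conj d) :
    Nat.card (MulAut G ⧸ (MulAut.conj : G →* MulAut G).range) = 2 := by
  have hN : ((MulAut.conj : G →* MulAut G).range).Normal := by
    constructor
    rintro _ ⟨g, rfl⟩ φ
    exact ⟨φ g, (conj_aut φ g).symm⟩
  have key : ((MulAut.conj : G →* MulAut G).range).index = 2 := by
    rw [Subgroup.index_eq_two_iff]
    refine ⟨τ, fun α => ?_⟩
    by_cases hα : α ∈ (MulAut.conj : G →* MulAut G).range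
    · right
      refine ⟨hα, fun hατ => hτ ?_⟩
      have : τ ∈ (MulAut.conj : G →* MulAut G).range := by
        have := Subgroup.mul_mem _ (Subgroup.inv_mem _ hα) hατ
        rwa [inv_mul_cancel_left] at this
      obtain ⟨d, hd⟩ := this
      exact ⟨d, hd.symm⟩
    · left
      refine ⟨?_, hα⟩
      rcases h α with ⟨d, hd⟩ | ⟨d, hd⟩
      · exact absurd ⟨d, hd.symm⟩ hα
      · apply hN.mem_comm
        exact ⟨d, hd.symm⟩
  exact key

end Cfsg.Agent.Helper9.OutL
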