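import Mathlib
import Cfsg.Prelude.Def_Sporadic_a
import Cfsg.Agent.Helper9.Golay.SimpleCert

set_option autoImplicit false

/-!
Data for the automorphism group of the Mathieu group on 24 points: the translation `a` of order 23,
an involution `b` fixing an octad pointwise, the multiplier `n`, an element `s` of order 7
commuting with `b`, and elements carrying the standard octad to representatives of the orbits of
the powers of `a` on the octads.
-/

namespace Cfsg.Agent.Helper9.OutM24

open Cfsg Cfsg.Agent.Helper9.Golay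

def o24Prog : List (ℕ × ℕ) := [(0, 0), (0, 3), (0, 4), (0, 5), (0, 6), (0, 7), (0, 8), (0, 9), (0, 10), (0, 11), (0, 12), (0, 13), (3, 3), (3, 15), (15, 15), (17, 17), (16, 18), (14, 14), (20, 20), (20, 21), (21, 21), (23, 23), (22, 24), (0, 1), (0, 26), (1, 26), (0, 27), (0, 29), (1, 29), (1, 30), (0, 31), (1, 1), (32, 32), (35, 35), (35, 36), (36, 36), (38, 38), (37, 39), (0, 33), (40, 41), (25, 42), (43, 43), (43, 44), (43, 45), (43, 46), (43, 47), (43, 3), (0, 49), (43, 50), (44, 44), (52, 52), (53, 53), (52, 54), (48, 48), (56, 56), (57, 57), (56, 58), (2, 26), (2, 27), (0, 60), (2, 60), (0, 61), (59, 2), (65, 65), (65, 44), (43, 67), (65, 3), (43, 69), (0, 70), (66, 66), (72, 72), (65, 0), (19, 74), (65, 75), (65, 76), (75, 44), (55, 78), (65, 79), (79, 80), (65, 81), (79, 79), (80, 80), (80, 84), (73, 83), (86, 86), (86, 87), (86, 88), (87, 87), (90, 90), (79, 66), (85, 92), (91, 93), (94, 94), (94, 86), (94, 87), (86, 96), (94, 96), (94, 88), (86, 97), (100, 100),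 (102, 102), (101, 101), (104, 104), (86, 98), (103, 106), (94, 89), (105, 108), (109, 107), (109, 110), (2, 1), (2, 63), (2, 64), (28, 51), (115, 68), (116, 99), (117, 111), (62, 71), (119, 77), (120, 82), (121, 98), (122, 109), (123, 95), (2, 2), (125, 125), (19, 19), (1, 0), (19, 1), (2, 0), (19, 126), (1, 19), (1, 126), (0, 2), (126, 19), (126, 126), (127, 19), (1, 3), (127, 1), (2, 3), (127, 126), (2, 128), (129, 126), (0, 130), (131, 19), (2, 130), (131, 126), (132, 19), (132, 126), (2, 112), (133, 126), (0, 134), (135, 19), (1, 134), (135, 1), (2, 134), (135, 126), (0, 125), (136, 19), (2, 125), (136, 126), (2, 4), (137, 126), (2, 138), (139, 126), (2, 140), (141, 126), (0, 144), (145, 19), (1, 144), (145, 1), (2, 146), (147, 126), (148, 19), (148, 126), (149, 126), (2, 150), (151, 126), (1, 152), (153, 1), (2, 154), (155, 126), (0, 156), (157, 19), (2, 156), (157, 126), (2, 158), (159, 126), (0, 160), (161, 19), (2, 160), (161, 126), (2, 164), (165, 126), (2, 166), (167,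 126), (1, 168), (169, 1), (2, 172), (173, 126), (174, 1), (175, 19), (176, 126), (2, 177), (178, 126), (1, 183), (184, 1), (1, 189), (190, 1), (202, 126)]

def o24B : ℕ := 118

def o24N : ℕ := 43

def o24S : ℕ := 124

def o24H : List (ℕ × ℕ) := [(34, 34), (2, 126), (142, 143), (179, 180), (181, 182), (191, 192), (199, 200), (164, 165), (130, 131), (138, 139), (154, 155), (170, 171), (162, 163), (172, 173), (193, 194), (31, 201), (195, 196), (208, 209), (140, 141), (185, 186), (128, 129), (187, 188), (1, 1), (150, 151), (204, 205), (177, 178), (206, 207), (63, 176), (114, 210), (197, 198), (60, 149), (113, 203), (61, 175)]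

def o24GenProg : List (ℕ × ℕ) := [(0, 0), (0, 2), (2, 2), (2, 4), (4, 4), (6, 6), (5, 7), (3, 3), (9, 9), (9, 10), (10, 10), (12, 12), (11, 13), (0, 1), (0, 15), (0, 16), (17, 17), (18, 18), (18, 19), (19, 19), (21, 21), (20, 22), (1, 16), (23, 24), (14, 25), (26, 0), (26, 27), (26, 2), (8, 29), (30, 26), (26, 30), (30, 30), (26, 31), (33, 33), (33, 35), (32, 32), (32, 37), (34, 34), (39, 39), (30, 31), (40, 41), (42, 42), (42, 43), (43, 43), (44, 44), (46, 46), (26, 32), (36, 48), (42, 49), (49, 43), (42, 50), (42, 51), (42, 52), (49, 42), (45, 55), (49, 44), (47, 57), (58, 56), (59, 59), (59, 60), (54, 54), (54, 62), (49, 53), (63, 64), (61, 65), (66, 66), (66, 56), (56, 68), (30, 32), (38, 70), (42, 71), (72, 72), (73, 73), (49, 71), (74, 75), (58, 76), (76, 59), (76, 58), (56, 79), (80, 80), (78, 78), (82, 69), (80, 83), (15, 28), (85, 52), (86, 77), (87, 67), (32, 53), (89, 84), (90, 81)]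

def o24GenG : ℕ := 88

def o24GenD : ℕ := 91

def o24BT : List ℕ := [4, 2, 1, 3, 0, 19, 6, 7, 8, 18, 10, 15, 12, 16, 14, 11, 13, 21, 9, 5, 20, 17, 23, 22]

def o24AT : List ℕ := [1, 2, 3, 4, 5, 6, 7, 8, 9, 10, 11, 12, 13, 14, 15, 16, 17, 18, 19, 20, 21, 22, 0, 23]

def o24NT : List ℕ := [0, 2, 4, 6, 8, 10, 12, 14, 16, 18, 20, 22, 1, 3, 5, 7, 9, 11, 13, 15, 17, 19, 21, 23]

def o24ST : List ℕ := [22, 9, 18, 20, 23, 1, 12, 14, 8, 17, 7, 4, 10, 13, 3, 0, 16, 15, 21, 2, 6, 11, 5, 19]

/-- for each octad, in increasing order, the representative and the power of `a` giving it. -/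
def o24Idx : List (ℕ × ℕ) := [(0, 0), (0, 22), (1, 18), (2, 5), (0, 21), (1, 17), (2, 4), (3, 5), (0, 20), (4, 9), (5, 18), (6, 3), (1, 16), (7, 11), (2, 3), (8, 16), (3, 4), (0, 19), (4, 8), (9, 5), (10, 13), (5, 17), (6, 2), (11, 1), (1, 15), (12, 21), (7, 10), (13, 1), (2, 2), (8, 15), (14, 8), (3, 3), (0, 18), (12, 15), (4, 7), (10, 5), (9, 4), (10, 12), (15, 6), (5, 16), (4, 21), (16, 10), (6, 1), (11, 0), (1, 14), (1, 0), (12, 20), (17, 11), (7, 9), (13, 0), (18, 17), (2, 1), (19, 3), (8, 14), (20, 7), (14, 7), (3, 2), (17, 6), (0, 17), (11, 13), (12, 14), (19, 13), (4, 6), (10, 4), (9, 3), (10, 11), (15, 5), (5, 15), (21, 11), (4, 20), (16, 9), (16, 1), (6, 12), (13, 8), (6, 0), (11, 22), (7, 4), (1, 13), (1, 22), (9, 9), (12, 19), (18, 21), (17, 10), (6, 16), (7, 8), (13, 22), (15, 22), (18, 16), (2, 0), (13, 18), (21, 18), (19, 2), (8, 13), (20, 6), (14, 6), (7, 19), (3, 1), (15, 18), (14, 14), (9, 15), (17, 5), (0, 16), (18, 12), (20, 15), (11, 12), (12, 13), (19,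 12), (4, 5), (8, 2), (10, 3), (9, 2), (2, 10), (10, 10), (19, 18), (15, 4), (14, 19), (5, 14), (21, 10), (4, 19), (16, 8), (16, 0), (17, 22), (6, 11), (2, 19), (13, 7), (13, 14), (6, 22), (11, 21), (7, 3), (1, 12), (1, 21), (3, 8), (9, 8), (11, 4), (12, 1), (12, 18), (16, 13), (18, 20), (17, 9), (21, 14), (6, 15), (7, 7), (18, 1), (13, 21), (21, 21), (15, 21), (18, 15), (19, 21), (2, 22), (13, 17), (16, 16), (21, 17), (21, 1), (19, 1), (8, 12), (5, 3), (20, 5), (14, 5), (7, 18), (8, 9), (3, 0), (15, 17), (0, 10), (5, 0), (14, 13), (9, 14), (20, 20), (17, 4), (0, 15), (20, 2), (18, 11), (20, 14), (11, 11), (12, 12), (19, 11), (3, 16), (4, 4), (14, 2), (5, 9), (8, 1), (10, 2), (9, 1), (2, 9), (7, 15), (10, 9), (17, 15), (19, 17), (15, 3), (14, 18), (8, 6), (21, 5), (3, 20), (5, 13), (21, 9), (4, 18), (16, 7), (16, 22), (17, 21), (15, 14), (6, 10), (2, 18), (4, 14), (13, 6), (13, 13), (6, 21), (18, 6), (11, 20), (7, 2), (1, 11), (0, 7), (1, 20), (3, 7), (5, 20), (8, 18), (9, 7),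 (10, 15), (11, 3), (12, 0), (14, 10), (12, 17), (15, 8), (16, 12), (1, 2), (18, 19), (20, 9), (17, 8), (11, 15), (21, 13), (16, 3), (6, 14), (7, 6), (9, 11), (18, 0), (13, 20), (21, 20), (15, 20), (9, 17), (18, 14), (20, 17), (19, 20), (17, 1), (2, 21), (13, 16), (11, 6), (16, 15), (21, 16), (21, 0), (19, 0), (16, 18), (8, 11), (0, 12), (5, 2), (20, 22), (20, 4), (14, 4), (7, 17), (17, 17), (8, 8), (3, 22), (15, 16), (18, 8), (0, 9), (5, 22), (10, 17), (14, 12), (15, 10), (20, 11), (9, 13), (20, 19), (17, 3), (11, 8), (0, 14), (20, 1), (18, 10), (10, 19), (20, 13), (11, 10), (12, 11), (19, 10), (3, 15), (12, 9), (4, 3), (19, 8), (14, 1), (3, 13), (5, 8), (8, 0), (10, 1), (12, 7), (9, 0), (2, 8), (6, 6), (7, 14), (10, 8), (4, 1), (17, 14), (19, 6), (19, 16), (15, 2), (14, 17), (8, 5), (14, 22), (3, 11), (21, 4), (5, 6), (3, 19), (5, 12), (21, 8), (4, 17), (8, 21), (1, 5), (16, 6), (16, 21), (17, 20), (15, 13), (10, 22), (6, 9), (2, 17), (4, 13), (13, 5), (13, 12), (6, 20), (2,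 14), (12, 5), (18, 5), (11, 19), (9, 21), (7, 1), (1, 10), (0, 6), (0, 1), (1, 19), (2, 6), (3, 6), (4, 10), (5, 19), (6, 4), (7, 12), (8, 17), (9, 6), (10, 14), (11, 2), (12, 22), (13, 2), (14, 9), (12, 16), (10, 6), (15, 7), (4, 22), (16, 11), (1, 1), (17, 12), (18, 18), (19, 4), (20, 8), (17, 7), (11, 14), (19, 14), (21, 12), (16, 2), (6, 13), (13, 9), (7, 5), (9, 10), (18, 22), (6, 17), (15, 0), (13, 19), (21, 19), (7, 20), (15, 19), (14, 15), (9, 16), (18, 13), (20, 16), (8, 3), (2, 11), (19, 19), (14, 20), (17, 0), (2, 20), (13, 15), (3, 9), (11, 5), (12, 2), (16, 14), (21, 15), (18, 2), (21, 22), (19, 22), (16, 17), (21, 2), (5, 4), (8, 10), (0, 11), (5, 1), (20, 21), (20, 3), (3, 17), (14, 3), (5, 10), (7, 16), (17, 16), (8, 7), (21, 6), (3, 21), (15, 15), (4, 15), (18, 7), (0, 8), (5, 21), (8, 19), (10, 16), (14, 11), (15, 9), (1, 3), (20, 10), (11, 16), (16, 4), (9, 12), (9, 18), (20, 18), (17, 2), (11, 7), (16, 19), (0, 13), (20, 0), (17, 18), (18, 9), (10, 18),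 (15, 11), (20, 12), (11, 9), (10, 20), (12, 10), (19, 9), (3, 14), (12, 8), (6, 7), (4, 2), (19, 7), (14, 0), (3, 12), (5, 7), (8, 22), (1, 6), (10, 0), (2, 15), (12, 6), (9, 22), (0, 2), (2, 7), (4, 11), (6, 5), (7, 13), (13, 3), (10, 7), (4, 0), (17, 13), (19, 5), (19, 15), (13, 10), (6, 18), (15, 1), (7, 21), (14, 16), (8, 4), (2, 12), (14, 21), (3, 10), (12, 3), (18, 3), (21, 3), (5, 5), (3, 18), (5, 11), (21, 7), (4, 16), (8, 20), (1, 4), (11, 17), (16, 5), (9, 19), (16, 20), (17, 19), (15, 12), (10, 21), (6, 8), (1, 7), (2, 16), (0, 3), (4, 12), (13, 4), (13, 11), (6, 19), (7, 22), (2, 13), (12, 4), (18, 4), (11, 18), (9, 20), (1, 8), (0, 4), (7, 0), (1, 9), (0, 5), (22, 11), (22, 10), (23, 9), (22, 9), (23, 8), (24, 5), (22, 8), (25, 7), (23, 7), (26, 4), (24, 4), (22, 7), (25, 6), (23, 6), (27, 9), (26, 3), (24, 3), (22, 6), (25, 22), (28, 7), (25, 5), (29, 8), (24, 14), (23, 5), (30, 0), (27, 8), (26, 2), (24, 2), (22, 5), (31, 6), (25, 21), (31, 19), (28, 6), (25,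 4), (31, 11), (29, 7), (28, 18), (32, 9), (24, 13), (29, 2), (23, 4), (30, 22), (27, 16), (27, 7), (26, 1), (24, 1), (28, 13), (22, 4), (31, 5), (25, 20), (31, 18), (28, 5), (25, 3), (30, 4), (31, 10), (29, 6), (28, 17), (30, 8), (32, 8), (26, 15), (24, 12), (32, 22), (29, 1), (23, 3), (30, 21), (27, 15), (32, 15), (27, 6), (26, 0), (27, 0), (24, 0), (28, 12), (32, 4), (22, 3), (31, 4), (26, 11), (25, 19), (31, 17), (28, 4), (22, 21), (24, 8), (25, 2), (30, 3), (31, 9), (31, 22), (28, 21), (29, 5), (28, 16), (30, 7), (30, 11), (32, 18), (32, 7), (26, 14), (24, 11), (32, 21), (29, 0), (29, 20), (23, 2), (30, 20), (27, 14), (32, 14), (27, 5), (29, 17), (26, 22), (23, 22), (23, 15), (27, 22), (24, 22), (25, 11), (28, 11), (29, 12), (32, 3), (22, 2), (31, 3), (26, 10), (30, 17), (25, 18), (31, 16), (28, 3), (22, 20), (22, 13), (24, 7), (26, 6), (27, 11), (25, 1), (30, 2), (31, 8), (31, 21), (28, 20), (32, 11), (29, 4), (28, 15), (30, 6), (30, 10), (26, 17), (32, 17), (27, 2), (32,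 6), (26, 13), (24, 10), (30, 13), (32, 20), (29, 22), (29, 19), (23, 1), (23, 17), (29, 14), (30, 19), (22, 15), (27, 13), (32, 13), (26, 19), (27, 4), (23, 19), (29, 16), (26, 21), (23, 21), (23, 14), (27, 21), (24, 21), (23, 12), (25, 10), (28, 10), (29, 11), (27, 19), (32, 2), (22, 1), (31, 2), (25, 14), (26, 9), (30, 16), (25, 17), (31, 15), (28, 2), (22, 19), (24, 19), (22, 12), (23, 10), (24, 6), (25, 8), (26, 5), (27, 10), (25, 0), (28, 8), (29, 9), (24, 15), (30, 1), (31, 7), (31, 20), (31, 12), (28, 19), (32, 10), (29, 3), (27, 17), (28, 14), (30, 5), (30, 9), (26, 16), (32, 0), (32, 16), (27, 1), (32, 5), (26, 12), (22, 22), (24, 9), (31, 0), (28, 22), (30, 12), (32, 19), (29, 21), (29, 18), (23, 0), (23, 16), (25, 12), (29, 13), (30, 18), (22, 14), (26, 7), (27, 12), (32, 12), (26, 18), (27, 3), (30, 14), (23, 18), (29, 15), (22, 16), (26, 20), (23, 20), (23, 13), (27, 20), (25, 15), (24, 20), (23, 11), (25, 9), (28, 9), (29, 10), (24, 16), (31, 13), (27, 18), (32,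 1), (22, 0), (31, 1), (28, 0), (25, 13), (26, 8), (30, 15), (22, 17), (25, 16), (24, 17), (31, 14), (28, 1), (22, 18), (24, 18)]

/-- the tables computed by the program. -/
def o24Tabs : List (List ℕ) := runSLP o24Prog stdTabs

theorem o24_elts : stdTabs.getD 0 idT = o24AT ∧ o24Tabs.getD o24B idT = o24BT ∧
    o24Tabs.getD o24N idT = o24NT ∧ o24Tabs.getD o24S idT = o24ST := by decide +kernel

theorem o24_a : powT o24AT 23 = idT ∧ o24AT ≠ idT := by decide +kernel

theorem o24_n : mulT o24NT o24AT = mulT (mulT o24AT o24AT) o24NT := by decide +kernel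

theorem o24_s : powT o24ST 7 = idT ∧ o24ST ≠ idT ∧ mulT o24ST o24BT = mulT o24BT o24ST := by
  decide +kernel

theorem o24_b : mulT o24BT o24BT = idT ∧ o24BT ≠ idT ∧ o24BT.getD 3 0 = 3 := by decide +kernel

/-- the three standard generators from `a` and `b`. -/
def o24GenTabs : List (List ℕ) := runSLP o24GenProg [o24AT, o24BT]

theorem o24_gen : o24GenTabs.getD o24GenG idT = stdTabs.getD 1 idT ∧
    o24GenTabs.getD o24GenD idT = stdTabs.getD 2 idT := by decide +kernel

/-- the images of the representatives of the octads under the powers of `a`. -/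
def o24Orbs : List (List ℕ) :=
  o24H.map (fun e => List.iterate (pullT o24AT) (pullT (o24Tabs.getD e.2 idT) 5279) 23)

theorem o24_octads : o24Idx.map (fun p => (o24Orbs.getD p.1 []).getD p.2 0) =
    codeList.filter (fun m => popc m == 8) := by decide +kernel

theorem o24_inv : o24H.all (fun e => mulT (o24Tabs.getD e.1 idT) (o24Tabs.getD e.2 idT) == idT) =
    true := by decide +kernel

/-- the value of a word in two letters, on tables. -/
def evalT (w : List Bool) (x y : List ℕ) : List ℕ :=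
  w.foldr (fun c acc => mulT (if c then x else y) acc) idT

/-- the relations used to recognize the conjugates of `b` under the powers of `a`. -/
def o24Rels : List (List Bool × ℕ) :=
  [([true, false, true, true, true, false], 5),
    ([true, true, false, true, true, true, false], 6),
    ([true, false, true, true, true, false, true, true, false], 6)]

def relsHoldT (rels : List (List Bool × ℕ)) (x y : List ℕ) : Bool :=
  rels.all (fun e => powT (evalT e.1 x y) e.2 == idT)

/-- the sixteen elements fixing the standard octad pointwise. -/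
def k6Tabs : List (List ℕ) := cert6.map (fun e => m24Tables.getD e.2 idT)

/-- the elements fixing one of the representatives of the octads pointwise. -/
def o24Cands : List (List ℕ) :=
  o24H.flatMap (fun e => k6Tabs.map (fun t =>
    mulT (mulT (o24Tabs.getD e.1 idT) t) (o24Tabs.getD e.2 idT)))

/-- the conjugates of `b` under the powers of `a`. -/
def o24Conj : List (List ℕ) :=
  (List.range 23).map (fun i => mulT (mulT (powT o24AT i) o24BT) (powT o24AT (23 - i)))

theorem o24_rels : relsHoldT o24Rels o24AT o24BT = true := by decide +kernel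

theorem o24_test : o24Cands.all (fun y =>
    (!relsHoldT o24Rels o24AT y || o24Conj.contains y) &&
      !relsHoldT o24Rels (powT o24AT 22) y) = true := by
  decide +kernel

end Cfsg.Agent.Helper9.OutM24
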