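import Mathlib
import Cfsg.Prelude
import Cfsg.Agent.Helper9.Golay.OctA8
import Cfsg.Agent.Helper9.Golay.TblGroup
import Cfsg.Agent.Helper9.Out.M24Data

set_option autoImplicit false

/-!
The elements fixing an octad pointwise, up to conjugation by the powers of a given element: the
octad is the image, under a power of that element, of one of a list of representatives, given as
images of the standard octad.
-/

namespace Cfsg.Agent.Helper9.OutGen

open Cfsg Cfsg.Agent.Helper9.Golay Cfsg.Agent.Helper9.OutM24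
open scoped Pointwise

/-- the elements fixing one of the representatives of the octads pointwise. -/
def candsOf (tabs : List (List ℕ)) (Hl : List (ℕ × ℕ)) : List (List ℕ) :=
  Hl.flatMap (fun e => k6Tabs.map (fun t =>
    mulT (mulT (tabs.getD e.1 idT) t) (tabs.getD e.2 idT)))

/-- the images of the representatives of the octads under the powers of `a`. -/
def orbsOf (aT : List ℕ) (n : ℕ) (tabs : List (List ℕ)) (Hl : List (ℕ × ℕ)) : List (List ℕ) :=
  Hl.map (fun e => List.iterate (pullT aT) (pullT (tabs.getD e.2 idT) 5279) n)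

theorem getD_mem_or_default' {α : Type*} (l : List α) (i : ℕ) (d : α) :
    l.getD i d ∈ l ∨ l.getD i d = d := by
  by_cases hi : i < l.length
  · left
    rw [List.getD_eq_getElem _ _ hi]
    exact List.getElem_mem hi
  · right
    exact List.getD_eq_default _ _ (by omega)

theorem suppM_iterate_pullT' {σ : Equiv.Perm GolayPt} {t : List ℕ} (ht : IsTbl σ t) (m : ℕ) :
    ∀ i : ℕ, suppM ((pullT t)^[i] m) = (σ ^ i)⁻¹ • suppM m := by
  intro i
  induction i with
  | zero => simp
  | succ i ih =>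
    rw [Function.iterate_succ_apply', suppM_pullT ht, ih, smul_smul, pow_succ, mul_inv_rev]

theorem cand_of_fix' {tabs : List (List ℕ)} (Hl : List (ℕ × ℕ))
    (g : Equiv.Perm GolayPt) (hgM : g ∈ M24) (e : ℕ × ℕ) (he : e ∈ Hl)
    (h k : Equiv.Perm GolayPt) (hhM : h ∈ M24) (hkM : k ∈ M24)
    (hhT : IsTbl h (tabs.getD e.1 idT)) (hkT : IsTbl k (tabs.getD e.2 idT))
    (hk : k = h⁻¹) (hfix : ∀ q ∈ suppM 5279, g (h q) = h q) :
    ∃ y ∈ candsOf tabs Hl, IsTbl g y := by
  have hg' : k * g * h ∈ K6 := by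
    rw [← KO_oct0, mem_KO_iff]
    refine ⟨M24.mul_mem (M24.mul_mem hkM hgM) hhM, ?_⟩
    intro q hq
    rw [Equiv.Perm.mul_apply, Equiv.Perm.mul_apply, hfix q hq, hk]
    simp
  obtain ⟨e', he', hT'⟩ := K6_table hg'
  refine ⟨mulT (mulT (tabs.getD e.1 idT) (m24Tables.getD e'.2 idT)) (tabs.getD e.2 idT),
    ?_, ?_⟩
  · unfold candsOf
    rw [List.mem_flatMap]
    refine ⟨e, he, ?_⟩
    rw [List.mem_map]
    refine ⟨m24Tables.getD e'.2 idT, ?_, rfl⟩
    unfold k6Tabs
    rw [List.mem_map]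
    exact ⟨e', he', rfl⟩
  · have : g = h * (k * g * h) * k := by
      rw [hk]
      group
    rw [this]
    exact (hhT.mul hT').mul hkT

/-- an element whose set of fixed points is one of the listed octads is conjugate, under a power
of `a`, to one of the candidates. -/
theorem cand_general {aσ : Equiv.Perm GolayPt} {aT : List ℕ} (haT : IsTbl aσ aT)
    (haM : aσ ∈ M24) {tabs : List (List ℕ)} (htabs : GoodT M24 tabs) (Hl : List (ℕ × ℕ))
    (hinvs : Hl.all (fun e => mulT (tabs.getD e.1 idT) (tabs.getD e.2 idT) == idT) = true)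
    (n : ℕ) (g : Equiv.Perm GolayPt) (hg : g ∈ M24) (m : ℕ) (hm0 : m ≠ 0)
    (hsm : suppM m = Finset.univ.filter (fun p => g p = p))
    (pr : ℕ × ℕ) (hpr : ((orbsOf aT n tabs Hl).getD pr.1 []).getD pr.2 0 = m) :
    ∃ i : ℕ, ∃ y ∈ candsOf tabs Hl, IsTbl (aσ ^ i * g * (aσ ^ i)⁻¹) y := by
  have hmL : m ∈ (orbsOf aT n tabs Hl).getD pr.1 [] := by
    rcases getD_mem_or_default' ((orbsOf aT n tabs Hl).getD pr.1 []) pr.2 0 with h | h
    · rwa [hpr] at h
    · rw [hpr] at h
      exact absurd h hm0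
  have hL : (orbsOf aT n tabs Hl).getD pr.1 [] ∈ orbsOf aT n tabs Hl := by
    rcases getD_mem_or_default' (orbsOf aT n tabs Hl) pr.1 [] with h | h
    · exact h
    · rw [h] at hmL
      exact absurd hmL (List.not_mem_nil)
  obtain ⟨e, he, heL⟩ := List.mem_map.mp (show (orbsOf aT n tabs Hl).getD pr.1 [] ∈ Hl.map (fun e =>
    List.iterate (pullT aT) (pullT (tabs.getD e.2 idT) 5279) n) from hL)
  rw [← heL, List.mem_iterate] at hmL
  obtain ⟨i, -, hi⟩ := hmL
  obtain ⟨h, hhM, hhT⟩ := htabs.getD e.1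
  obtain ⟨k, hkM, hkT⟩ := htabs.getD e.2
  have hinv : h * k = 1 := by
    apply (hhT.mul hkT).eq_of_eq
    have := List.all_eq_true.mp hinvs e he
    rw [beq_iff_eq] at this
    rw [this]
    exact isTbl_one
  have hk : k = h⁻¹ := eq_inv_of_mul_eq_one_right hinv
  have hO' : (aσ ^ i)⁻¹ • (h • suppM 5279) = Finset.univ.filter (fun p => g p = p) := by
    rw [← hsm, hi, suppM_iterate_pullT' haT, suppM_pullT hkT, hk, inv_inv]
  refine ⟨i, ?_⟩
  have hcM : aσ ^ i * g * (aσ ^ i)⁻¹ ∈ M24 :=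
    M24.mul_mem (M24.mul_mem (M24.pow_mem haM i) hg) (M24.inv_mem (M24.pow_mem haM i))
  apply cand_of_fix' Hl _ hcM e he h k hhM hkM hhT hkT hk
  intro q hq
  have hq' : (aσ ^ i)⁻¹ • (h • q) ∈ (aσ ^ i)⁻¹ • (h • suppM 5279) :=
    Finset.smul_mem_smul_finset (Finset.smul_mem_smul_finset hq)
  rw [hO', Finset.mem_filter] at hq'
  have hq2 : g ((aσ ^ i)⁻¹ (h q)) = (aσ ^ i)⁻¹ (h q) := hq'.2
  rw [Equiv.Perm.mul_apply, Equiv.Perm.mul_apply, hq2]
  simp

end Cfsg.Agent.Helper9.OutGen
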