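import Mathlib
import Cfsg.Prelude.Def_Sporadic_a
import Cfsg.Agent.Helper9.Out.CandGen

set_option autoImplicit false

/-!
Data for the automorphism group of the Mathieu group on 22 points: the element `a` of order 11
(multiplication by 2), an involution `b` which generates the group together with `a`, a chain of
stabilizers for the group they generate, representatives of the octads through the two fixed
points, and relations which recognize the conjugates of `b` under the powers of `a`.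
-/

namespace Cfsg.Agent.Helper9.OutM22

open Cfsg Cfsg.Agent.Helper9.Golay Cfsg.Agent.Helper9.OutM24 Cfsg.Agent.Helper9.OutGen

def o22Prog : List (ℕ × ℕ) := [(0, 0), (0, 3), (0, 4), (0, 5), (0, 6), (0, 7), (0, 8), (0, 9), (0, 10), (0, 11), (0, 12), (0, 13), (3, 3), (3, 15), (15, 15), (17, 17), (16, 18), (14, 14), (20, 20), (20, 21), (21, 21), (23, 23), (22, 24), (0, 1), (0, 26), (1, 26), (0, 27), (0, 29), (1, 29), (1, 30), (0, 31), (1, 1), (0, 28), (32, 32), (36, 36), (36, 37), (37, 37), (39, 39), (38, 40), (0, 33), (41, 42), (25, 43), (44, 44), (44, 45), (44, 46), (44, 47), (44, 48), (45, 45), (50, 50), (51, 51), (50, 52), (49, 49), (54, 54), (55, 55), (54, 56), (2, 26), (2, 58), (57, 2), (60, 60), (61, 61), (62, 62), (60, 0), (19, 64), (65, 45), (53, 66), (60, 67), (67, 67), (68, 68), (68, 70), (63, 69), (72, 72), (72, 73), (72, 74), (73, 73), (76, 76), (67, 61), (71, 78), (77, 79), (80, 72), (80, 73), (72, 81), (80, 74), (72, 82), (84, 84), (86, 86), (85, 85), (88,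 88), (72, 83), (87, 90), (80, 75), (89, 92), (93, 91), (80, 94), (2, 1), (2, 29), (2, 2), (98, 98), (1, 19), (1, 99), (100, 19), (100, 1), (100, 99), (2, 96), (101, 99), (102, 19), (103, 19), (104, 99), (0, 105), (106, 19), (107, 99), (0, 35), (108, 19), (2, 110), (111, 99), (0, 97), (112, 19)]

def o22A : ℕ := 44

def o22B : ℕ := 95

def o22AT : List ℕ := [0, 2, 4, 6, 8, 10, 12, 14, 16, 18, 20, 22, 1, 3, 5, 7, 9, 11, 13, 15, 17, 19, 21, 23]

def o22BT : List ℕ := [0, 1, 2, 3, 6, 5, 4, 22, 20, 12, 11, 10, 9, 19, 14, 18, 21, 17, 15, 13, 8, 16, 7, 23]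

def o22H : List (ℕ × ℕ) := [(59, 109), (113, 114), (115, 116), (110, 111), (58, 104), (26, 100), (117, 118)]

def o22Idx : List (ℕ × ℕ) := [(0, 3), (1, 1), (2, 8), (3, 4), (4, 6), (3, 3), (1, 5), (5, 6), (1, 10), (0, 4), (4, 0), (2, 9), (5, 2), (1, 9), (1, 2), (1, 3), (0, 6), (1, 4), (3, 1), (2, 0), (0, 7), (3, 5), (4, 3), (5, 7), (0, 0), (6, 0), (1, 6), (4, 7), (5, 1), (0, 5), (4, 2), (1, 0), (3, 2), (6, 7), (2, 10), (3, 0), (4, 1), (2, 5), (5, 3), (6, 8), (1, 7), (5, 10), (4, 4), (2, 3), (2, 6), (6, 1), (5, 4), (2, 1), (3, 9), (3, 6), (6, 3), (0, 8), (6, 9), (5, 8), (0, 1), (4, 8), (5, 5), (4, 5), (6, 10), (4, 10), (1, 8), (6, 6), (2, 4), (0, 10), (5, 0), (3, 8), (2, 2), (5, 9), (0, 2), (3, 10), (2, 7), (6, 2), (3, 7), (4, 9), (0, 9), (6, 4), (6, 5)]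

def o22ChainProg : List (ℕ × ℕ) := [(0, 0), (0, 2), (0, 3), (0, 4), (0, 5), (0, 6), (0, 7), (2, 2), (9, 9), (2, 10), (1, 2), (1, 3), (0, 12), (1, 4), (0, 13), (0, 15), (0, 16), (1, 6), (0, 18), (1, 18), (0, 19), (0, 22), (0, 23), (1, 0), (11, 25), (1, 26), (26, 27), (28, 1), (0, 14), (30, 26), (1, 30), (26, 30), (30, 30), (1, 31), (30, 31), (26, 32), (30, 32), (26, 34), (30, 34), (26, 35), (26, 36), (30, 36), (1, 38), (26, 38), (30, 44), (30, 46), (26, 47), (34, 34), (31, 31), (50, 50), (49, 49), (26, 31), (51, 53), (1, 54), (28, 54), (28, 55), (56, 56), (58, 58), (54, 55), (59, 60), (61, 1), (61, 28), (28, 61), (61, 61), (61, 62), (65, 65), (1, 33), (52, 68), (69, 54), (1, 69), (28, 69), (54, 70), (69, 70), (54, 71), (69, 71), (54, 72), (69, 72), (69, 73), (1, 74), (54, 74), (1, 75), (1, 77), (69, 69), (54, 69), (84, 85), (86, 1), (86, 28), (86, 29), (86, 62), (86, 63), (86, 61), (67, 92), (93, 93)]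

def o22Levels : List (ℕ × List (ℕ × ℕ)) := [(1, [(1, 100000), (2, 0), (3, 8), (4, 2), (5, 24), (6, 12), (7, 22), (8, 3), (9, 5), (10, 21), (11, 18), (12, 14), (13, 7), (14, 23), (15, 19), (16, 4), (17, 16), (18, 6), (19, 17), (20, 13), (21, 15), (22, 20)]),
  (2, [(2, 100000), (3, 26), (4, 37), (5, 48), (6, 42), (7, 44), (8, 45), (9, 41), (10, 32), (11, 30), (12, 40), (13, 31), (14, 43), (15, 33), (16, 36), (17, 47), (18, 34), (19, 35), (20, 46), (21, 39), (22, 38)]),
  (3, [(3, 100000), (4, 77), (5, 78), (6, 83), (7, 79), (8, 75), (9, 70), (10, 54), (11, 55), (12, 72), (13, 71), (14, 81), (15, 74), (16, 56), (17, 73), (18, 80), (19, 69), (20, 82), (21, 57), (22, 76)]),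
  (4, [(4, 100000), (6, 1), (7, 66), (8, 65), (9, 61), (10, 89), (11, 88), (12, 63), (13, 64), (15, 28), (16, 87), (18, 29), (19, 62), (20, 91), (21, 86), (22, 90)]),
  (7, [(7, 100000), (10, 93), (12, 94)])]

def o22Rels : List (List Bool × ℕ) := [([true, false, true, false, true, true, false], 3), ([true, false, true, true, false, true, true, true, true, false], 4)]

/-- the tables computed by the program. -/
def o22Tabs : List (List ℕ) := runSLP o22Prog stdTabs

theorem o22_elts : o22Tabs.getD o22A idT = o22AT ∧ o22Tabs.getD o22B idT = o22BT := by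
  decide +kernel

theorem o22_a : powT o22AT 11 = idT ∧ o22AT ≠ idT ∧ o22AT.getD 23 0 = 23 ∧
    o22AT.getD 0 0 = 0 := by decide +kernel

theorem o22_b : mulT o22BT o22BT = idT ∧ o22BT ≠ idT ∧ o22BT.getD 23 0 = 23 ∧
    o22BT.getD 0 0 = 0 := by decide +kernel

theorem o22_m : mulT (stdTabs.getD 2 idT) o22AT = mulT (powT o22AT 3) (stdTabs.getD 2 idT) ∧
    (stdTabs.getD 2 idT).getD 23 0 = 23 ∧ (stdTabs.getD 2 idT).getD 0 0 = 0 := by decide +kernel

theorem o22_g : mulT (stdTabs.getD 1 idT) o22AT = mulT (powT o22AT 10) (stdTabs.getD 1 idT) ∧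
    (stdTabs.getD 1 idT).getD 23 0 = 0 ∧ (stdTabs.getD 1 idT).getD 0 0 = 23 := by decide +kernel

/-- the tables of the chain, from `a` and `b`. -/
def o22ChainTabs : List (List ℕ) := runSLP o22ChainProg [o22AT, o22BT]

theorem o22_chain : chainOK o22ChainTabs [] o22Levels = true := by decide +kernel

theorem o22_bound : chainBound o22Levels = 443520 := by decide +kernel

theorem o22_octads : o22Idx.map (fun p => ((orbsOf o22AT 11 o22Tabs o22H).getD p.1 []).getD p.2 0) =
    codeList.filter (fun m => popc m == 8 && m.testBit 23 && m.testBit 0) := by decide +kernel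

theorem o22_inv : o22H.all (fun e => mulT (o22Tabs.getD e.1 idT) (o22Tabs.getD e.2 idT) == idT) =
    true := by decide +kernel

/-- the conjugates of `b` under the powers of `a`. -/
def o22Conj : List (List ℕ) :=
  (List.range 11).map (fun i => mulT (mulT (powT o22AT i) o22BT) (powT o22AT (11 - i)))

theorem o22_rels : relsHoldT o22Rels o22AT o22BT = true := by decide +kernel

theorem o22_test : (candsOf o22Tabs o22H).all (fun y =>
    !relsHoldT o22Rels o22AT y || o22Conj.contains y) = true := by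
  decide +kernel

end Cfsg.Agent.Helper9.OutM22
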