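import Mathlib
import Cfsg.Prelude.Def_Sporadic_a
import Cfsg.Agent.Helper9.Out.M24Data

set_option autoImplicit false

/-!
Data for the automorphism group of the Mathieu group on 23 points: an involution `b` which
generates the group together with the translation `a`, a chain of stabilizers for the group they
generate, and relations which recognize the conjugates of `b` under the powers of `a`.
-/

namespace Cfsg.Agent.Helper9.OutM23

open Cfsg Cfsg.Agent.Helper9.Golay Cfsg.Agent.Helper9.OutM24

def o23ProgB : List (ℕ × ℕ) := [(0, 0), (0, 3), (0, 4), (0, 5), (0, 6), (0, 7), (0, 8), (0, 9), (0, 10), (0, 11), (0, 12), (0, 13), (3, 3), (3, 15), (15, 15), (17, 17), (16, 18), (14, 14), (20, 20), (20, 21), (21, 21), (23, 23), (22, 24), (0, 1), (0, 26), (0, 27), (0, 28), (1, 28), (1, 29), (0, 30), (31, 31), (33, 33), (33, 34), (34, 34), (36, 36), (35, 37), (0, 32), (38, 39), (25, 40), (41, 41), (41, 42), (41, 43), (41, 44), (41, 45), (42, 42), (47, 47), (48, 48), (47, 49), (46, 46), (51, 51), (52, 52), (51, 53), (54, 2), (55,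 55), (56, 56), (57, 57), (55, 0), (19, 59), (60, 42), (50, 61), (55, 62), (62, 63), (55, 64), (62, 62), (63, 63), (63, 67), (58, 66), (69, 69), (69, 70), (69, 71), (70, 70), (73, 73), (62, 56), (68, 75), (74, 76), (77, 77), (77, 69), (77, 70), (69, 79), (77, 71), (69, 80), (77, 81), (77, 84), (82, 82), (86, 86), (83, 83), (88, 88), (69, 81), (87, 90), (77, 72), (89, 92), (93, 91), (93, 94), (3, 41), (96, 65), (97, 85), (98, 95), (99, 78)]

def o23B : ℕ := 100

def o23BT : List ℕ := [2, 4, 0, 7, 1, 18, 8, 3, 6, 19, 12, 11, 10, 13, 20, 15, 16, 17, 5, 9, 14, 21, 22, 23]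

def o23ChainProg : List (ℕ × ℕ) := [(0, 0), (1, 0), (0, 1), (0, 3), (1, 4), (0, 5), (1, 5), (0, 6), (0, 8), (0, 9), (0, 10), (0, 11), (0, 12), (1, 12), (0, 13), (1, 13), (0, 14), (0, 15), (0, 17), (0, 19), (0, 21), (1, 2), (23, 23), (23, 24), (23, 25), (24, 24), (26, 26), (28, 28), (3, 3), (30, 30), (3, 31), (31, 31), (32, 33), (0, 4), (34, 35), (27, 36), (37, 37), (37, 38), (37, 23), (37, 24), (23, 40), (37, 40), (23, 42), (37, 42), (23, 43), (37, 26), (23, 44), (37, 44), (23, 45), (37, 45), (23, 46), (37, 46), (37, 47), (23, 52), (37, 54), (38, 38), (37, 25), (29, 58), (59, 37), (37, 59), (59, 59), (37, 60), (59, 60), (37, 61), (59, 61), (37, 63), (59, 64), (37, 65), (59, 65), (59, 66), (37, 67), (59, 67), (37, 68), (59, 70), (62, 62), (62, 76), (61, 61), (59, 38), (57, 79), (80, 80), (81, 81), (37, 62), (77, 83), (81, 84), (85, 80), (81, 86), (87, 85), (59, 62), (78, 89), (90, 80), (80, 90), (85, 90), (90, 81), (85, 91), (90, 91), (80, 92), (80, 93), (90, 93), (90, 95), (90, 96), (85, 97), (90, 97), (85, 98), (85,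 99), (85, 100), (90, 90), (82, 107), (85, 108), (109, 109), (109, 85), (109, 87), (109, 88), (85, 111), (87, 111), (85, 112), (87, 112), (85, 113), (87, 113), (109, 113), (87, 114), (87, 116)]

def o23Levels : List (ℕ × List (ℕ × ℕ)) := [(0, [(0, 100000), (1, 0), (2, 1), (3, 4), (4, 3), (5, 5), (6, 7), (7, 6), (8, 9), (9, 11), (10, 13), (11, 16), (12, 17), (13, 20), (14, 15), (15, 19), (16, 21), (17, 22), (18, 8), (19, 10), (20, 12), (21, 14), (22, 18)]),
  (1, [(1, 100000), (2, 26), (3, 55), (4, 45), (5, 52), (6, 51), (7, 23), (8, 50), (9, 44), (10, 41), (11, 48), (12, 49), (13, 54), (14, 43), (15, 40), (16, 46), (17, 42), (18, 56), (19, 24), (20, 47), (21, 25), (22, 53)]),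
  (2, [(2, 100000), (3, 73), (4, 74), (5, 60), (6, 75), (7, 61), (8, 67), (9, 71), (10, 59), (11, 63), (12, 70), (13, 38), (14, 69), (15, 65), (16, 72), (17, 68), (18, 39), (19, 62), (20, 37), (21, 64), (22, 66)]),
  (3, [(3, 100000), (4, 94), (5, 81), (6, 99), (7, 98), (8, 95), (9, 104), (10, 105), (11, 92), (12, 93), (13, 91), (14, 96), (15, 102), (16, 101), (17, 80), (18, 103), (19, 100), (20, 106), (21, 97), (22, 90)]),
  (4, [(4, 100000), (6, 122), (7, 87), (8, 120), (9, 88), (10, 117), (11, 85), (12, 112), (13, 119), (15, 118), (16, 121), (18, 115), (19, 114), (20, 111), (21, 113), (22, 116)]),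
  (7, [(7, 100000), (10, 110), (12, 109)])]

def o23Rels : List (List Bool × ℕ) := [([true, true, false], 5), ([true, false, true, true, false, true, true, true, true, true, false], 4)]

/-- the tables computed by the program. -/
def o23Tabs : List (List ℕ) := runSLP o23ProgB stdTabs

theorem o23_elts : o23Tabs.getD o23B idT = o23BT := by decide +kernel

theorem o23_b : mulT o23BT o23BT = idT ∧ o23BT ≠ idT ∧ o23BT.getD 23 0 = 23 := by decide +kernel

theorem o23_fix : o24AT.getD 23 0 = 23 ∧ o24NT.getD 23 0 = 23 := by decide +kernel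

/-- the tables of the chain, from `a` and `b`. -/
def o23ChainTabs : List (List ℕ) := runSLP o23ChainProg [o24AT, o23BT]

theorem o23_chain : chainOK o23ChainTabs [] o23Levels = true := by decide +kernel

theorem o23_bound : chainBound o23Levels = 10200960 := by decide +kernel

/-- the candidates fixing the extra point. -/
def o23Cands : List (List ℕ) := o24Cands.filter (fun y => y.getD 23 0 == 23)

/-- the conjugates of `b` under the powers of `a`. -/
def o23Conj : List (List ℕ) :=
  (List.range 23).map (fun i => mulT (mulT (powT o24AT i) o23BT) (powT o24AT (23 - i)))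

theorem o23_rels : relsHoldT o23Rels o24AT o23BT = true := by decide +kernel

theorem o23_test : o23Cands.all (fun y =>
    (!relsHoldT o23Rels o24AT y || o23Conj.contains y) &&
      !relsHoldT o23Rels (powT o24AT 22) y) = true := by
  decide +kernel

end Cfsg.Agent.Helper9.OutM23
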