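import Mathlib
import Cfsg.Prelude
import Cfsg.Agent.Helper9.Golay.Cent2BMain
import Cfsg.Agent.Helper9.Golay.OctA8
import Cfsg.Agent.Helper9.Golay.TblGroup
import Cfsg.Agent.Helper9.Out.OutLemma
import Cfsg.Agent.Helper9.Out.M24Data

set_option autoImplicit false

/-!
All automorphisms of the Mathieu group on 24 points are inner.
-/

namespace Cfsg.Agent.Helper9.OutM24

open Cfsg Cfsg.Agent.Helper9.Golay Cfsg.Agent.Helper9.OutL
open scoped Pointwise

theorem isTbl_evalW {x y : Equiv.Perm GolayPt} {tx ty : List ℕ} (hx : IsTbl x tx)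
    (hy : IsTbl y ty) (w : List Bool) : IsTbl (evalW w x y) (evalT w tx ty) := by
  induction w with
  | nil => exact isTbl_one
  | cons c w ih =>
    unfold evalW evalT at ih ⊢
    rw [List.map_cons, List.prod_cons, List.foldr_cons]
    cases c
    · exact hy.mul ih
    · exact hx.mul ih

theorem coe_evalW (H : Subgroup (Equiv.Perm GolayPt)) (w : List Bool) (x y : ↥H) :
    ((evalW w x y : ↥H) : Equiv.Perm GolayPt) = evalW w x.1 y.1 := by
  induction w with
  | nil => rfl
  | cons c w ih =>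
    unfold evalW at ih ⊢
    rw [List.map_cons, List.prod_cons, List.map_cons, List.prod_cons, Subgroup.coe_mul, ih]
    cases c <;> rfl

theorem tbl_eq_idT {t : List ℕ} (h : IsTbl 1 t) : t = idT :=
  (tbl_eq_tblOf h).trans (tbl_eq_tblOf isTbl_one).symm

theorem ne_one_of_tbl {σ : Equiv.Perm GolayPt} {t : List ℕ} (h : IsTbl σ t) (hne : t ≠ idT) :
    σ ≠ 1 := by
  rintro rfl
  exact hne (tbl_eq_idT h)

theorem goodT_o24 : GoodT M24 o24Tabs := goodT_std o24Prog M24 stepPerm_mem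

theorem isTbl_step (g : ℕ) : IsTbl (stepPerm g) (tblOf (stepFun g)) := by
  rw [stepFun_eq]
  exact isTbl_tblOf _

theorem aP_tbl : IsTbl (stepPerm 0) o24AT := by
  rw [← o24_elts.1]
  exact isTbl_step 0

theorem exists_b : ∃ σ ∈ M24, IsTbl σ o24BT := by
  have h := goodT_o24.getD o24B
  rwa [o24_elts.2.1] at h

theorem exists_n : ∃ σ ∈ M24, IsTbl σ o24NT := by
  have h := goodT_o24.getD o24N
  rwa [o24_elts.2.2.1] at h

theorem exists_s : ∃ σ ∈ M24, IsTbl σ o24ST := by
  have h := goodT_o24.getD o24S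
  rwa [o24_elts.2.2.2] at h

noncomputable def bP : Equiv.Perm GolayPt := Classical.choose exists_b

theorem bP_mem : bP ∈ M24 := (Classical.choose_spec exists_b).1

theorem bP_tbl : IsTbl bP o24BT := (Classical.choose_spec exists_b).2

noncomputable def nP : Equiv.Perm GolayPt := Classical.choose exists_n

theorem nP_mem : nP ∈ M24 := (Classical.choose_spec exists_n).1

theorem nP_tbl : IsTbl nP o24NT := (Classical.choose_spec exists_n).2

noncomputable def sP : Equiv.Perm GolayPt := Classical.choose exists_s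

theorem sP_mem : sP ∈ M24 := (Classical.choose_spec exists_s).1

theorem sP_tbl : IsTbl sP o24ST := (Classical.choose_spec exists_s).2

theorem closure_ab : Subgroup.closure ({stepPerm 0, bP} : Set (Equiv.Perm GolayPt)) = M24 := by
  set H := Subgroup.closure ({stepPerm 0, bP} : Set (Equiv.Perm GolayPt)) with hH
  have hle : H ≤ M24 := by
    rw [hH, Subgroup.closure_le]
    intro x hx
    rcases hx with rfl | rfl
    · exact stepPerm_mem 0
    · exact bP_mem
  have ha : stepPerm 0 ∈ H := Subgroup.subset_closure (by simp)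
  have hb : bP ∈ H := Subgroup.subset_closure (by simp)
  have hgood : GoodT H o24GenTabs := by
    apply goodT_runSLP
    intro t ht
    simp only [List.mem_cons, List.not_mem_nil, or_false] at ht
    rcases ht with rfl | rfl
    · exact ⟨stepPerm 0, ha, aP_tbl⟩
    · exact ⟨bP, hb, bP_tbl⟩
  have hsteps : ∀ g, stepPerm g ∈ H := by
    intro g
    match g with
    | 0 => exact ha
    | 1 =>
      obtain ⟨σ, hσ, hσt⟩ := hgood.getD o24GenG
      rw [o24_gen.1] at hσt
      have : σ = stepPerm 1 := hσt.eq_of_eq (isTbl_step 1)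
      rw [← this]
      exact hσ
    | (n + 2) =>
      obtain ⟨σ, hσ, hσt⟩ := hgood.getD o24GenD
      rw [o24_gen.2] at hσt
      have : σ = stepPerm (n + 2) := hσt.eq_of_eq (isTbl_step (n + 2))
      rw [← this]
      exact hσ
  have hcard := card_ge_of_gens H hsteps
  exact Subgroup.eq_of_le_of_card_ge hle (by rw [card_M24]; exact hcard)

noncomputable def aG : ↥M24 := ⟨stepPerm 0, stepPerm_mem 0⟩

noncomputable def bG : ↥M24 := ⟨bP, bP_mem⟩

noncomputable def nG : ↥M24 := ⟨nP, nP_mem⟩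

noncomputable def sG : ↥M24 := ⟨sP, sP_mem⟩

theorem closure_abG : Subgroup.closure ({aG, bG} : Set ↥M24) = ⊤ := by
  apply Subgroup.map_injective M24.subtype_injective
  rw [MonoidHom.map_closure, ← MonoidHom.range_eq_map, Subgroup.range_subtype]
  have : (M24.subtype '' ({aG, bG} : Set ↥M24)) = {stepPerm 0, bP} := by
    rw [Set.image_pair]
    rfl
  rw [this]
  exact closure_ab

theorem order_aG : orderOf aG = 23 := by
  have : Fact (Nat.Prime 23) := ⟨by norm_num⟩
  unfold aG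
  rw [Subgroup.orderOf_mk]
  apply orderOf_eq_prime
  · apply (aP_tbl.pow 23).eq_of_eq
    rw [o24_a.1]
    exact isTbl_one
  · exact ne_one_of_tbl aP_tbl o24_a.2

theorem pow23_aG : aG ^ 23 = 1 := by
  rw [← order_aG]
  exact pow_orderOf_eq_one aG

theorem order_bG : orderOf bG = 2 := by
  have : Fact (Nat.Prime 2) := ⟨by norm_num⟩
  unfold bG
  rw [Subgroup.orderOf_mk]
  apply orderOf_eq_prime
  · rw [pow_two]
    apply (bP_tbl.mul bP_tbl).eq_of_eq
    rw [o24_b.1]
    exact isTbl_one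
  · exact ne_one_of_tbl bP_tbl o24_b.2.1

theorem order_sG : orderOf sG = 7 := by
  have : Fact (Nat.Prime 7) := ⟨by norm_num⟩
  unfold sG
  rw [Subgroup.orderOf_mk]
  apply orderOf_eq_prime
  · apply (sP_tbl.pow 7).eq_of_eq
    rw [o24_s.1]
    exact isTbl_one
  · exact ne_one_of_tbl sP_tbl o24_s.2.1

theorem comm_sb : sG * bG = bG * sG := by
  apply Subtype.ext
  rw [Subgroup.coe_mul, Subgroup.coe_mul]
  apply (sP_tbl.mul bP_tbl).eq_of_eq
  rw [o24_s.2.2]
  exact bP_tbl.mul sP_tbl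

theorem conj_nG : nG * aG * nG⁻¹ = aG ^ 2 := by
  rw [mul_inv_eq_iff_eq_mul]
  apply Subtype.ext
  rw [Subgroup.coe_mul, Subgroup.coe_mul, Subgroup.coe_pow, pow_two]
  apply (nP_tbl.mul aP_tbl).eq_of_eq
  rw [o24_n]
  exact (aP_tbl.mul aP_tbl).mul nP_tbl

theorem not_dvd_card : ¬ 23 ^ 2 ∣ Nat.card ↥M24 := by
  rw [card_M24]
  decide

theorem hK0_aux : ∀ k < 23, 0 < k → ∃ j < 11, ∃ k0 ∈ [1, 22], (k * 2 ^ j) % 23 = k0 % 23 := by
  decide

theorem hK0 : ∀ k, 0 < k → k < 23 → ∃ j : ℕ, ∃ k0 ∈ [1, 22], (k * 2 ^ j) % 23 = k0 % 23 := by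
  intro k h0 h23
  obtain ⟨j, -, h⟩ := hK0_aux k h23 h0
  exact ⟨j, h⟩

/-- the involutions with a fixed point. -/
def InvFix : Set ↥M24 := {g | orderOf g = 2 ∧ ∃ p, (g : Equiv.Perm GolayPt) p = p}

theorem b_invFix (β : MulAut ↥M24) : β bG ∈ InvFix := by
  have h2 : orderOf (β bG) = 2 := by
    rw [MulEquiv.orderOf_eq]
    exact order_bG
  refine ⟨h2, ?_⟩
  by_contra hno
  push_neg at hno
  have h2' : orderOf ((β bG : ↥M24) : Equiv.Perm GolayPt) = 2 := by
    rw [Subgroup.orderOf_coe]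
    exact h2
  obtain ⟨hc, -, -⟩ := cent_fpf_main _ (β bG).2 h2' hno
  have h7 : orderOf (β sG) = 7 := by
    rw [MulEquiv.orderOf_eq]
    exact order_sG
  have hcomm : β sG * β bG = β bG * β sG := by
    rw [← map_mul, ← map_mul, comm_sb]
  let e : ↥(Subgroup.centralizer ({β bG} : Set ↥M24)) ≃
      {c : Equiv.Perm GolayPt // c ∈ M24 ∧ c * ↑(β bG) = ↑(β bG) * c} :=
    { toFun := fun c => ⟨c.1.1, c.1.2, by
        have h := Subgroup.mem_centralizer_singleton_iff.mp c.2
        have h' := congrArg (Subtype.val) h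
        rw [Subgroup.coe_mul, Subgroup.coe_mul] at h'
        exact h'⟩
      invFun := fun c => ⟨⟨c.1, c.2.1⟩, by
        rw [Subgroup.mem_centralizer_singleton_iff]
        apply Subtype.ext
        rw [Subgroup.coe_mul, Subgroup.coe_mul]
        exact c.2.2⟩
      left_inv := fun c => rfl
      right_inv := fun c => rfl }
  have hcard : Nat.card ↥(Subgroup.centralizer ({β bG} : Set ↥M24)) = 7680 := by
    rw [Nat.card_congr e, hc]
  have hmem : β sG ∈ Subgroup.centralizer ({β bG} : Set ↥M24) := by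
    rw [Subgroup.mem_centralizer_singleton_iff]
    exact hcomm
  have hdvd : 7 ∣ 7680 := by
    rw [← hcard, ← h7, ← Subgroup.orderOf_mk _ hmem]
    exact orderOf_dvd_natCard _
  omega

theorem getD_mem_or_default {α : Type*} (l : List α) (i : ℕ) (d : α) :
    l.getD i d ∈ l ∨ l.getD i d = d := by
  by_cases hi : i < l.length
  · left
    rw [List.getD_eq_getElem _ _ hi]
    exact List.getElem_mem hi
  · right
    exact List.getD_eq_default _ _ (by omega)

theorem suppM_iterate_pullT {σ : Equiv.Perm GolayPt} {t : List ℕ} (ht : IsTbl σ t) (m : ℕ) :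
    ∀ i : ℕ, suppM ((pullT t)^[i] m) = (σ ^ i)⁻¹ • suppM m := by
  intro i
  induction i with
  | zero => simp
  | succ i ih =>
    rw [Function.iterate_succ_apply', suppM_pullT ht, ih, smul_smul, pow_succ, mul_inv_rev]

/-- an element fixing pointwise the image of the standard octad under one of the elements of the
list has its table in the list of candidates. -/
theorem cand_of_fix (g : Equiv.Perm GolayPt) (hgM : g ∈ M24) (e : ℕ × ℕ) (he : e ∈ o24H)
    (h k : Equiv.Perm GolayPt) (hhM : h ∈ M24) (hkM : k ∈ M24)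
    (hhT : IsTbl h (o24Tabs.getD e.1 idT)) (hkT : IsTbl k (o24Tabs.getD e.2 idT))
    (hk : k = h⁻¹) (hfix : ∀ q ∈ suppM 5279, g (h q) = h q) :
    ∃ y ∈ o24Cands, IsTbl g y := by
  have hg' : k * g * h ∈ K6 := by
    rw [← KO_oct0, mem_KO_iff]
    refine ⟨M24.mul_mem (M24.mul_mem hkM hgM) hhM, ?_⟩
    intro q hq
    rw [Equiv.Perm.mul_apply, Equiv.Perm.mul_apply, hfix q hq, hk]
    simp
  obtain ⟨e', he', hT'⟩ := K6_table hg'
  refine ⟨mulT (mulT (o24Tabs.getD e.1 idT) (m24Tables.getD e'.2 idT)) (o24Tabs.getD e.2 idT),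
    ?_, ?_⟩
  · unfold o24Cands
    rw [List.mem_flatMap]
    refine ⟨e, he, ?_⟩
    rw [List.mem_map]
    refine ⟨m24Tables.getD e'.2 idT, ?_, rfl⟩
    unfold k6Tabs
    rw [List.mem_map]
    exact ⟨e', he', rfl⟩
  · have : g = h * (k * g * h) * k := by
      rw [hk]
      group
    rw [this]
    exact (hhT.mul hT').mul hkT

theorem cand_table (g : ↥M24) (hg : g ∈ InvFix) :
    ∃ i : ℕ, ∃ y ∈ o24Cands, IsTbl ((aG ^ i * g * (aG ^ i)⁻¹ : ↥M24) : Equiv.Perm GolayPt) y := by
  obtain ⟨h2, p, hp⟩ := hg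
  have h2' : orderOf (g : Equiv.Perm GolayPt) = 2 := by
    rw [Subgroup.orderOf_coe]
    exact h2
  rcases involutions_main.1 g.1 g.2 h2' with hO | hfpf
  swap
  · exact absurd hp (hfpf p)
  obtain ⟨m, hm, hm8, hsm⟩ := (mem_octads_iff _).mp hO
  have hmem : m ∈ o24Idx.map (fun p => (o24Orbs.getD p.1 []).getD p.2 0) := by
    rw [o24_octads, List.mem_filter]
    exact ⟨hm, by rw [hm8]; rfl⟩
  obtain ⟨pr, -, hpr⟩ := List.mem_map.mp hmem
  have hm0 : m ≠ 0 := by
    rintro rfl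
    exact absurd hm8 (by decide)
  have hmL : m ∈ o24Orbs.getD pr.1 [] := by
    rcases getD_mem_or_default (o24Orbs.getD pr.1 []) pr.2 0 with h | h
    · rwa [hpr] at h
    · rw [hpr] at h
      exact absurd h hm0
  have hL : o24Orbs.getD pr.1 [] ∈ o24Orbs := by
    rcases getD_mem_or_default o24Orbs pr.1 [] with h | h
    · exact h
    · rw [h] at hmL
      exact absurd hmL (List.not_mem_nil)
  obtain ⟨e, he, heL⟩ := List.mem_map.mp (show o24Orbs.getD pr.1 [] ∈ o24H.map (fun e =>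
    List.iterate (pullT o24AT) (pullT (o24Tabs.getD e.2 idT) 5279) 23) from hL)
  rw [← heL, List.mem_iterate] at hmL
  obtain ⟨i, -, hi⟩ := hmL
  obtain ⟨h, hhM, hhT⟩ := goodT_o24.getD e.1
  obtain ⟨k, hkM, hkT⟩ := goodT_o24.getD e.2
  have hinv : h * k = 1 := by
    apply (hhT.mul hkT).eq_of_eq
    have := List.all_eq_true.mp o24_inv e he
    rw [beq_iff_eq] at this
    rw [this]
    exact isTbl_one
  have hk : k = h⁻¹ := eq_inv_of_mul_eq_one_right hinv
  -- the fixed points of `g`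
  have hO' : ((stepPerm 0) ^ i)⁻¹ • (h • suppM 5279) =
      Finset.univ.filter (fun p => (g : Equiv.Perm GolayPt) p = p) := by
    rw [← hsm, hi, suppM_iterate_pullT aP_tbl, suppM_pullT hkT, hk, inv_inv]
  refine ⟨i, ?_⟩
  apply cand_of_fix _ (aG ^ i * g * (aG ^ i)⁻¹ : ↥M24).2 e he h k hhM hkM hhT hkT hk
  intro q hq
  have hq' : ((stepPerm 0) ^ i)⁻¹ • (h • q) ∈ ((stepPerm 0) ^ i)⁻¹ • (h • suppM 5279) :=
    Finset.smul_mem_smul_finset (Finset.smul_mem_smul_finset hq)
  rw [hO', Finset.mem_filter] at hq'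
  have hq2 : (g : Equiv.Perm GolayPt) (((stepPerm 0) ^ i)⁻¹ (h q)) = ((stepPerm 0) ^ i)⁻¹ (h q) :=
    hq'.2
  have hc : ((aG ^ i * g * (aG ^ i)⁻¹ : ↥M24) : Equiv.Perm GolayPt) =
      (stepPerm 0) ^ i * (g : Equiv.Perm GolayPt) * ((stepPerm 0) ^ i)⁻¹ := by
    rw [Subgroup.coe_mul, Subgroup.coe_mul, Subgroup.coe_inv, Subgroup.coe_pow]
    rfl
  rw [hc, Equiv.Perm.mul_apply, Equiv.Perm.mul_apply, hq2]
  simp

/-- the elements with a table in the list of candidates. -/
def Cand : Set ↥M24 := {g | ∃ y ∈ o24Cands, IsTbl (g : Equiv.Perm GolayPt) y}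

theorem hCand (β : MulAut ↥M24) : ∃ i : ℕ, aG ^ i * β bG * (aG ^ i)⁻¹ ∈ Cand :=
  cand_table (β bG) (b_invFix β)

theorem rels_table {x b' : ↥M24} {tx y : List ℕ} (hx : IsTbl x.1 tx) (hy : IsTbl b'.1 y)
    (rels : List (List Bool × ℕ))
    (hr : ∀ e ∈ rels, evalW e.1 x b' ^ e.2 = 1) : relsHoldT rels tx y = true := by
  unfold relsHoldT
  rw [List.all_eq_true]
  intro e he
  rw [beq_iff_eq]
  have h1 := hr e he
  have h2 : IsTbl ((evalW e.1 x b' ^ e.2 : ↥M24) : Equiv.Perm GolayPt)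
      (powT (evalT e.1 tx y) e.2) := by
    rw [Subgroup.coe_pow, coe_evalW]
    exact (isTbl_evalW hx hy e.1).pow e.2
  rw [h1] at h2
  exact tbl_eq_idT h2

theorem table_rels {x b' : ↥M24} {tx y : List ℕ} (hx : IsTbl x.1 tx) (hy : IsTbl b'.1 y)
    (rels : List (List Bool × ℕ))
    (hr : relsHoldT rels tx y = true) : ∀ e ∈ rels, evalW e.1 x b' ^ e.2 = 1 := by
  unfold relsHoldT at hr
  rw [List.all_eq_true] at hr
  intro e he
  have h1 := hr e he
  rw [beq_iff_eq] at h1
  apply Subtype.ext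
  rw [Subgroup.coe_pow, coe_evalW]
  apply ((isTbl_evalW hx hy e.1).pow e.2).eq_of_eq
  rw [h1]
  exact isTbl_one

theorem hrels : ∀ e ∈ o24Rels, evalW e.1 aG bG ^ e.2 = 1 :=
  table_rels (x := aG) (b' := bG) aP_tbl bP_tbl o24Rels o24_rels

theorem htest24 : ∀ k0 ∈ [1, 22], ∀ b' ∈ Cand,
    (∀ e ∈ o24Rels, evalW e.1 (aG ^ k0) b' ^ e.2 = 1) →
    aG ^ k0 = aG ∧ ∃ i : ℕ, b' = aG ^ i * bG * (aG ^ i)⁻¹ := by
  intro k0 hk0 b' hb' hr
  obtain ⟨y, hy, hyT⟩ := hb'
  have htest := List.all_eq_true.mp o24_test y hy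
  rw [Bool.and_eq_true, Bool.or_eq_true, Bool.not_eq_true', Bool.not_eq_true'] at htest
  have hk0' : k0 = 1 ∨ k0 = 22 := by simpa using hk0
  rcases hk0' with rfl | rfl
  · refine ⟨pow_one _, ?_⟩
    rw [pow_one] at hr
    have h1 := rels_table (x := aG) aP_tbl hyT o24Rels hr
    rcases htest.1 with h | h
    · rw [h1] at h
      exact absurd h (by decide)
    · have hmem : y ∈ o24Conj := List.mem_of_elem_eq_true h
      unfold o24Conj at hmem
      obtain ⟨i, hi, rfl⟩ := List.mem_map.mp hmem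
      rw [List.mem_range] at hi
      refine ⟨i, ?_⟩
      have hinv : (aG ^ i)⁻¹ = aG ^ (23 - i) := by
        rw [inv_eq_iff_mul_eq_one, ← pow_add, show i + (23 - i) = 23 by omega, pow23_aG]
      rw [hinv]
      apply Subtype.ext
      rw [Subgroup.coe_mul, Subgroup.coe_mul, Subgroup.coe_pow, Subgroup.coe_pow]
      exact hyT.eq_of_eq (((aP_tbl.pow i).mul bP_tbl).mul (aP_tbl.pow (23 - i)))
  · exfalso
    have hx : IsTbl ((aG ^ 22 : ↥M24) : Equiv.Perm GolayPt) (powT o24AT 22) := by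
      rw [Subgroup.coe_pow]
      exact aP_tbl.pow 22
    have h1 := rels_table (x := aG ^ 22) hx hyT o24Rels hr
    rw [htest.2] at h1
    exact absurd h1 (by decide)

theorem out_M24_card : Nat.card (Cfsg.Out ↥Cfsg.M24) = 1 := by
  have : Fact (Nat.Prime 23) := ⟨by norm_num⟩
  apply card_quot_eq_one
  intro α
  obtain ⟨d, hd⟩ := all_inner_mod 23 aG bG nG 2 closure_abG order_aG not_dvd_card conj_nG [1, 22]
    hK0 Cand hCand o24Rels hrels htest24 α
  exact ⟨d, hd.symm⟩

end Cfsg.Agent.Helper9.OutM24
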