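import Mathlib
import Cfsg.Prelude
import Cfsg.Agent.S0376
import Cfsg.Agent.Helper9.Out.M24Out
import Cfsg.Agent.Helper9.Out.M23Data

set_option autoImplicit false

/-!
All automorphisms of the Mathieu group on 23 points are inner.
-/

namespace Cfsg.Agent.Helper9.OutM23

open Cfsg Cfsg.Agent.Helper9.Golay Cfsg.Agent.Helper9.OutL Cfsg.Agent.Helper9.OutM24
open scoped Pointwise

theorem rels_tableH {H : Subgroup (Equiv.Perm GolayPt)} {x b' : ↥H} {tx y : List ℕ}
    (hx : IsTbl x.1 tx) (hy : IsTbl b'.1 y) (rels : List (List Bool × ℕ))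
    (hr : ∀ e ∈ rels, evalW e.1 x b' ^ e.2 = 1) : relsHoldT rels tx y = true := by
  unfold relsHoldT
  rw [List.all_eq_true]
  intro e he
  rw [beq_iff_eq]
  have h1 := hr e he
  have h2 : IsTbl ((evalW e.1 x b' ^ e.2 : ↥H) : Equiv.Perm GolayPt)
      (powT (evalT e.1 tx y) e.2) := by
    rw [Subgroup.coe_pow, coe_evalW]
    exact (isTbl_evalW hx hy e.1).pow e.2
  rw [h1] at h2
  exact tbl_eq_idT h2

theorem table_relsH {H : Subgroup (Equiv.Perm GolayPt)} {x b' : ↥H} {tx y : List ℕ}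
    (hx : IsTbl x.1 tx) (hy : IsTbl b'.1 y) (rels : List (List Bool × ℕ))
    (hr : relsHoldT rels tx y = true) : ∀ e ∈ rels, evalW e.1 x b' ^ e.2 = 1 := by
  unfold relsHoldT at hr
  rw [List.all_eq_true] at hr
  intro e he
  have h1 := hr e he
  rw [beq_iff_eq] at h1
  apply Subtype.ext
  rw [Subgroup.coe_pow, coe_evalW]
  apply ((isTbl_evalW hx hy e.1).pow e.2).eq_of_eq
  rw [h1]
  exact isTbl_one

theorem mem_M23_iff {x : Equiv.Perm GolayPt} : x ∈ Spor.M23 ↔ x ∈ M24 ∧ x none = none := by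
  unfold Spor.M23
  rw [Subgroup.mem_inf, MulAction.mem_stabilizer_iff]
  rfl

theorem M23_le : Spor.M23 ≤ M24 := fun _ hx => (mem_M23_iff.mp hx).1

theorem idxPtN_23 : idxPtN 23 = none := by decide

theorem fix_none_of_tbl {σ : Equiv.Perm GolayPt} {t : List ℕ} (ht : IsTbl σ t)
    (h23 : t.getD 23 0 = 23) : σ none = none := by
  have := ht.apply_idx (i := 23) (by norm_num)
  rw [h23, idxPtN_23] at this
  exact this

theorem tbl_of_fix_none {σ : Equiv.Perm GolayPt} {t : List ℕ} (ht : IsTbl σ t)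
    (h : σ none = none) : t.getD 23 0 = 23 := by
  have := ht.2 none
  rw [h] at this
  exact this

theorem card_M23 : Nat.card ↥Spor.M23 = 10200960 := by
  rw [← Cfsg.Agent.S0376.result none]
  apply Nat.card_congr
  exact ⟨fun x => ⟨⟨x.1, (mem_M23_iff.mp x.2).1⟩, (mem_M23_iff.mp x.2).2⟩,
    fun x => ⟨x.1.1, mem_M23_iff.mpr ⟨x.1.2, x.2⟩⟩, fun _ => rfl, fun _ => rfl⟩

theorem aP_mem23 : stepPerm 0 ∈ Spor.M23 :=
  mem_M23_iff.mpr ⟨stepPerm_mem 0, fix_none_of_tbl aP_tbl o23_fix.1⟩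

theorem nP_mem23 : nP ∈ Spor.M23 :=
  mem_M23_iff.mpr ⟨nP_mem, fix_none_of_tbl nP_tbl o23_fix.2⟩

theorem exists_b23 : ∃ σ ∈ M24, IsTbl σ o23BT := by
  have h := (goodT_std o23ProgB M24 stepPerm_mem).getD o23B
  have e : (runSLP o23ProgB stdTabs).getD o23B idT = o23BT := o23_elts
  rwa [e] at h

noncomputable def b23P : Equiv.Perm GolayPt := Classical.choose exists_b23

theorem b23P_mem24 : b23P ∈ M24 := (Classical.choose_spec exists_b23).1

theorem b23P_tbl : IsTbl b23P o23BT := (Classical.choose_spec exists_b23).2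

theorem b23P_mem : b23P ∈ Spor.M23 :=
  mem_M23_iff.mpr ⟨b23P_mem24, fix_none_of_tbl b23P_tbl o23_b.2.2⟩

theorem closure_ab23 :
    Subgroup.closure ({stepPerm 0, b23P} : Set (Equiv.Perm GolayPt)) = Spor.M23 := by
  set H := Subgroup.closure ({stepPerm 0, b23P} : Set (Equiv.Perm GolayPt)) with hH
  have hle : H ≤ Spor.M23 := by
    rw [hH, Subgroup.closure_le]
    intro x hx
    rcases hx with rfl | rfl
    · exact aP_mem23
    · exact b23P_mem
  have ha : stepPerm 0 ∈ H := Subgroup.subset_closure (by simp)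
  have hb : b23P ∈ H := Subgroup.subset_closure (by simp)
  have hgood : GoodT H o23ChainTabs := by
    apply goodT_runSLP
    intro t ht
    simp only [List.mem_cons, List.not_mem_nil, or_false] at ht
    rcases ht with rfl | rfl
    · exact ⟨stepPerm 0, ha, aP_tbl⟩
    · exact ⟨b23P, hb, b23P_tbl⟩
  have h1 := chain_lower hgood o23Levels [] o23_chain
  rw [o23_bound] at h1
  have hcard : 10200960 ≤ Nat.card H := by simpa [fixL] using h1
  exact Subgroup.eq_of_le_of_card_ge hle (by rw [card_M23]; exact hcard)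

noncomputable def a23 : ↥Spor.M23 := ⟨stepPerm 0, aP_mem23⟩

noncomputable def b23 : ↥Spor.M23 := ⟨b23P, b23P_mem⟩

noncomputable def n23 : ↥Spor.M23 := ⟨nP, nP_mem23⟩

theorem closure_ab23G : Subgroup.closure ({a23, b23} : Set ↥Spor.M23) = ⊤ := by
  apply Subgroup.map_injective Spor.M23.subtype_injective
  rw [MonoidHom.map_closure, ← MonoidHom.range_eq_map, Subgroup.range_subtype]
  have : (Spor.M23.subtype '' ({a23, b23} : Set ↥Spor.M23)) = {stepPerm 0, b23P} := by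
    rw [Set.image_pair]
    rfl
  rw [this]
  exact closure_ab23

theorem order_a23 : orderOf a23 = 23 := by
  have h := order_aG
  unfold aG at h
  rw [Subgroup.orderOf_mk] at h
  unfold a23
  rw [Subgroup.orderOf_mk]
  exact h

theorem pow23_a23 : a23 ^ 23 = 1 := by
  rw [← order_a23]
  exact pow_orderOf_eq_one a23

theorem order_b23 : orderOf b23 = 2 := by
  have : Fact (Nat.Prime 2) := ⟨by norm_num⟩
  unfold b23
  rw [Subgroup.orderOf_mk]
  apply orderOf_eq_prime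
  · rw [pow_two]
    apply (b23P_tbl.mul b23P_tbl).eq_of_eq
    rw [o23_b.1]
    exact isTbl_one
  · exact ne_one_of_tbl b23P_tbl o23_b.2.1

theorem conj_n23 : n23 * a23 * n23⁻¹ = a23 ^ 2 := by
  rw [mul_inv_eq_iff_eq_mul]
  apply Subtype.ext
  rw [Subgroup.coe_mul, Subgroup.coe_mul, Subgroup.coe_pow, pow_two]
  apply (nP_tbl.mul aP_tbl).eq_of_eq
  rw [o24_n]
  exact (aP_tbl.mul aP_tbl).mul nP_tbl

theorem not_dvd_card23 : ¬ 23 ^ 2 ∣ Nat.card ↥Spor.M23 := by
  rw [card_M23]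
  decide

/-- the elements with a table in the list of candidates. -/
def Cand23 : Set ↥Spor.M23 := {g | ∃ y ∈ o23Cands, IsTbl (g : Equiv.Perm GolayPt) y}

theorem hCand23 (β : MulAut ↥Spor.M23) : ∃ i : ℕ, a23 ^ i * β b23 * (a23 ^ i)⁻¹ ∈ Cand23 := by
  have h2 : orderOf (β b23) = 2 := by
    rw [MulEquiv.orderOf_eq]
    exact order_b23
  have hM := mem_M23_iff.mp (β b23).2
  have hinv : (⟨(β b23).1, hM.1⟩ : ↥M24) ∈ InvFix := by
    refine ⟨?_, none, hM.2⟩
    rw [Subgroup.orderOf_mk, Subgroup.orderOf_coe]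
    exact h2
  obtain ⟨i, y, hy, hyT⟩ := cand_table _ hinv
  refine ⟨i, y, ?_, ?_⟩
  · unfold o23Cands
    rw [List.mem_filter]
    refine ⟨hy, ?_⟩
    rw [beq_iff_eq]
    apply tbl_of_fix_none hyT
    have hmem : ((aG ^ i * ⟨(β b23).1, hM.1⟩ * (aG ^ i)⁻¹ : ↥M24) : Equiv.Perm GolayPt) =
        ((a23 ^ i * β b23 * (a23 ^ i)⁻¹ : ↥Spor.M23) : Equiv.Perm GolayPt) := by
      simp only [Subgroup.coe_mul, Subgroup.coe_inv, Subgroup.coe_pow]
      rfl
    rw [hmem]
    exact (mem_M23_iff.mp (a23 ^ i * β b23 * (a23 ^ i)⁻¹ : ↥Spor.M23).2).2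
  · have hmem : ((aG ^ i * ⟨(β b23).1, hM.1⟩ * (aG ^ i)⁻¹ : ↥M24) : Equiv.Perm GolayPt) =
        ((a23 ^ i * β b23 * (a23 ^ i)⁻¹ : ↥Spor.M23) : Equiv.Perm GolayPt) := by
      simp only [Subgroup.coe_mul, Subgroup.coe_inv, Subgroup.coe_pow]
      rfl
    rw [← hmem]
    exact hyT

theorem hrels23 : ∀ e ∈ o23Rels, evalW e.1 a23 b23 ^ e.2 = 1 :=
  table_relsH (x := a23) (b' := b23) aP_tbl b23P_tbl o23Rels o23_rels

theorem htest23 : ∀ k0 ∈ [1, 22], ∀ b' ∈ Cand23,
    (∀ e ∈ o23Rels, evalW e.1 (a23 ^ k0) b' ^ e.2 = 1) →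
    a23 ^ k0 = a23 ∧ ∃ i : ℕ, b' = a23 ^ i * b23 * (a23 ^ i)⁻¹ := by
  intro k0 hk0 b' hb' hr
  obtain ⟨y, hy, hyT⟩ := hb'
  have htest := List.all_eq_true.mp o23_test y hy
  rw [Bool.and_eq_true, Bool.or_eq_true, Bool.not_eq_true', Bool.not_eq_true'] at htest
  have hk0' : k0 = 1 ∨ k0 = 22 := by simpa using hk0
  rcases hk0' with rfl | rfl
  · refine ⟨pow_one _, ?_⟩
    rw [pow_one] at hr
    have h1 := rels_tableH (x := a23) aP_tbl hyT o23Rels hr
    rcases htest.1 with h | h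
    · rw [h1] at h
      exact absurd h (by decide)
    · have hmem : y ∈ o23Conj := List.mem_of_elem_eq_true h
      unfold o23Conj at hmem
      obtain ⟨i, hi, rfl⟩ := List.mem_map.mp hmem
      rw [List.mem_range] at hi
      refine ⟨i, ?_⟩
      have hinv : (a23 ^ i)⁻¹ = a23 ^ (23 - i) := by
        rw [inv_eq_iff_mul_eq_one, ← pow_add, show i + (23 - i) = 23 by omega, pow23_a23]
      rw [hinv]
      apply Subtype.ext
      rw [Subgroup.coe_mul, Subgroup.coe_mul, Subgroup.coe_pow, Subgroup.coe_pow]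
      exact hyT.eq_of_eq (((aP_tbl.pow i).mul b23P_tbl).mul (aP_tbl.pow (23 - i)))
  · exfalso
    have hx : IsTbl ((a23 ^ 22 : ↥Spor.M23) : Equiv.Perm GolayPt) (powT o24AT 22) := by
      rw [Subgroup.coe_pow]
      exact aP_tbl.pow 22
    have h1 := rels_tableH (x := a23 ^ 22) hx hyT o23Rels hr
    rw [htest.2] at h1
    exact absurd h1 (by decide)

theorem out_M23_card : Nat.card (Cfsg.Out ↥Cfsg.Spor.M23) = 1 := by
  have : Fact (Nat.Prime 23) := ⟨by norm_num⟩
  apply card_quot_eq_one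
  intro α
  obtain ⟨d, hd⟩ := all_inner_mod 23 a23 b23 n23 2 closure_ab23G order_a23 not_dvd_card23 conj_n23
    [1, 22] hK0 Cand23 hCand23 o23Rels hrels23 htest23 α
  exact ⟨d, hd.symm⟩

end Cfsg.Agent.Helper9.OutM23
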