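import Mathlib
import Cfsg.Prelude
import Cfsg.Agent.S0378
import Cfsg.Agent.S5599
import Cfsg.Agent.Helper9.Golay.Syl2Thm
import Cfsg.Agent.Helper9.Out.OutLemma2
import Cfsg.Agent.Helper9.Out.M23Out
import Cfsg.Agent.Helper9.Out.M22Data

set_option autoImplicit false

/-!
The outer automorphism group of the Mathieu group on 22 points has order 2.
-/

namespace Cfsg.Agent.Helper9.OutM22

open Cfsg Cfsg.Agent.Helper9.Golay Cfsg.Agent.Helper9.OutL Cfsg.Agent.Helper9.OutM24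
  Cfsg.Agent.Helper9.OutGen Cfsg.Agent.Helper9.OutM23
open scoped Pointwise

theorem M22_le : Spor.M22 ≤ M24 := fun _ hx => (mem_M22_iff.mp hx).1

theorem idxPtN_0 : idxPtN 0 = some 0 := by decide

theorem fix_zero_of_tbl {σ : Equiv.Perm GolayPt} {t : List ℕ} (ht : IsTbl σ t)
    (h0 : t.getD 0 0 = 0) : σ (some 0) = some 0 := by
  have := ht.apply_idx (i := 0) (by norm_num)
  rw [h0, idxPtN_0] at this
  exact this

theorem mem_M22_of_tbl {σ : Equiv.Perm GolayPt} {t : List ℕ} (hσ : σ ∈ M24) (ht : IsTbl σ t)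
    (h23 : t.getD 23 0 = 23) (h0 : t.getD 0 0 = 0) : σ ∈ Spor.M22 :=
  mem_M22_iff.mpr ⟨hσ, fix_none_of_tbl ht h23, fix_zero_of_tbl ht h0⟩

theorem card_M22 : Nat.card ↥Spor.M22 = 443520 := by
  rw [← Cfsg.Agent.S0378.result none (some 0) (by simp)]
  apply Nat.card_congr
  exact ⟨fun x => ⟨⟨x.1, (mem_M22_iff.mp x.2).1⟩,
      Subgroup.mem_inf.mpr ⟨(mem_M22_iff.mp x.2).2.1, (mem_M22_iff.mp x.2).2.2⟩⟩,
    fun x => ⟨x.1.1, mem_M22_iff.mpr ⟨x.1.2, (Subgroup.mem_inf.mp x.2).1,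
      (Subgroup.mem_inf.mp x.2).2⟩⟩, fun _ => rfl, fun _ => rfl⟩

theorem goodT_o22 : GoodT M24 o22Tabs := goodT_std o22Prog M24 stepPerm_mem

theorem exists_a22 : ∃ σ ∈ M24, IsTbl σ o22AT := by
  have h := goodT_o22.getD o22A
  rwa [o22_elts.1] at h

theorem exists_b22 : ∃ σ ∈ M24, IsTbl σ o22BT := by
  have h := goodT_o22.getD o22B
  rwa [o22_elts.2] at h

noncomputable def a22P : Equiv.Perm GolayPt := Classical.choose exists_a22

theorem a22P_mem24 : a22P ∈ M24 := (Classical.choose_spec exists_a22).1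

theorem a22P_tbl : IsTbl a22P o22AT := (Classical.choose_spec exists_a22).2

theorem a22P_mem : a22P ∈ Spor.M22 :=
  mem_M22_of_tbl a22P_mem24 a22P_tbl o22_a.2.2.1 o22_a.2.2.2

noncomputable def b22P : Equiv.Perm GolayPt := Classical.choose exists_b22

theorem b22P_mem24 : b22P ∈ M24 := (Classical.choose_spec exists_b22).1

theorem b22P_tbl : IsTbl b22P o22BT := (Classical.choose_spec exists_b22).2

theorem b22P_mem : b22P ∈ Spor.M22 :=
  mem_M22_of_tbl b22P_mem24 b22P_tbl o22_b.2.2.1 o22_b.2.2.2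

theorem m22P_tbl : IsTbl (stepPerm 2) (stdTabs.getD 2 idT) := isTbl_step 2

theorem g22P_tbl : IsTbl (stepPerm 1) (stdTabs.getD 1 idT) := isTbl_step 1

theorem m22P_mem : stepPerm 2 ∈ Spor.M22 :=
  mem_M22_of_tbl (stepPerm_mem 2) m22P_tbl o22_m.2.1 o22_m.2.2

theorem closure_ab22 :
    Subgroup.closure ({a22P, b22P} : Set (Equiv.Perm GolayPt)) = Spor.M22 := by
  set H := Subgroup.closure ({a22P, b22P} : Set (Equiv.Perm GolayPt)) with hH
  have hle : H ≤ Spor.M22 := by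
    rw [hH, Subgroup.closure_le]
    intro x hx
    rcases hx with rfl | rfl
    · exact a22P_mem
    · exact b22P_mem
  have ha : a22P ∈ H := Subgroup.subset_closure (by simp)
  have hb : b22P ∈ H := Subgroup.subset_closure (by simp)
  have hgood : GoodT H o22ChainTabs := by
    apply goodT_runSLP
    intro t ht
    simp only [List.mem_cons, List.not_mem_nil, or_false] at ht
    rcases ht with rfl | rfl
    · exact ⟨a22P, ha, a22P_tbl⟩
    · exact ⟨b22P, hb, b22P_tbl⟩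
  have h1 := chain_lower hgood o22Levels [] o22_chain
  rw [o22_bound] at h1
  have hcard : 443520 ≤ Nat.card H := by simpa [fixL] using h1
  exact Subgroup.eq_of_le_of_card_ge hle (by rw [card_M22]; exact hcard)

noncomputable def a22 : ↥Spor.M22 := ⟨a22P, a22P_mem⟩

noncomputable def b22 : ↥Spor.M22 := ⟨b22P, b22P_mem⟩

noncomputable def m22 : ↥Spor.M22 := ⟨stepPerm 2, m22P_mem⟩

theorem closure_ab22G : Subgroup.closure ({a22, b22} : Set ↥Spor.M22) = ⊤ := by
  apply Subgroup.map_injective Spor.M22.subtype_injective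
  rw [MonoidHom.map_closure, ← MonoidHom.range_eq_map, Subgroup.range_subtype]
  have : (Spor.M22.subtype '' ({a22, b22} : Set ↥Spor.M22)) = {a22P, b22P} := by
    rw [Set.image_pair]
    rfl
  rw [this]
  exact closure_ab22

theorem order_a22 : orderOf a22 = 11 := by
  have : Fact (Nat.Prime 11) := ⟨by norm_num⟩
  unfold a22
  rw [Subgroup.orderOf_mk]
  apply orderOf_eq_prime
  · apply (a22P_tbl.pow 11).eq_of_eq
    rw [o22_a.1]
    exact isTbl_one
  · exact ne_one_of_tbl a22P_tbl o22_a.2.1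

theorem pow11_a22 : a22 ^ 11 = 1 := by
  rw [← order_a22]
  exact pow_orderOf_eq_one a22

theorem order_b22 : orderOf b22 = 2 := by
  have : Fact (Nat.Prime 2) := ⟨by norm_num⟩
  unfold b22
  rw [Subgroup.orderOf_mk]
  apply orderOf_eq_prime
  · rw [pow_two]
    apply (b22P_tbl.mul b22P_tbl).eq_of_eq
    rw [o22_b.1]
    exact isTbl_one
  · exact ne_one_of_tbl b22P_tbl o22_b.2.1

theorem conj_m22 : m22 * a22 * m22⁻¹ = a22 ^ 3 := by
  rw [mul_inv_eq_iff_eq_mul]
  apply Subtype.ext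
  rw [Subgroup.coe_mul, Subgroup.coe_mul, Subgroup.coe_pow]
  apply (m22P_tbl.mul a22P_tbl).eq_of_eq
  rw [o22_m.1]
  exact (a22P_tbl.pow 3).mul m22P_tbl

theorem not_dvd_card22 : ¬ 11 ^ 2 ∣ Nat.card ↥Spor.M22 := by
  rw [card_M22]
  decide

theorem g_swap : (stepPerm 1) none = some 0 ∧ (stepPerm 1) (some 0) = none := by
  constructor
  · have := g22P_tbl.apply_idx (i := 23) (by norm_num)
    rw [o22_g.2.1, idxPtN_23, idxPtN_0] at this
    exact this
  · have := g22P_tbl.apply_idx (i := 0) (by norm_num)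
    rw [o22_g.2.2, idxPtN_23, idxPtN_0] at this
    exact this

theorem ginv_swap : (stepPerm 1)⁻¹ none = some 0 ∧ (stepPerm 1)⁻¹ (some 0) = none := by
  constructor
  · rw [Equiv.Perm.inv_eq_iff_eq, g_swap.2]
  · rw [Equiv.Perm.inv_eq_iff_eq, g_swap.1]

theorem g_norm (x : Equiv.Perm GolayPt) (hx : x ∈ Spor.M22) :
    stepPerm 1 * x * (stepPerm 1)⁻¹ ∈ Spor.M22 :=
  (Cfsg.Agent.S5599.result (stepPerm 1) (stepPerm_mem 1) g_swap.1 g_swap.2).2.1 x hx

theorem ginv_norm (x : Equiv.Perm GolayPt) (hx : x ∈ Spor.M22) :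
    (stepPerm 1)⁻¹ * x * stepPerm 1 ∈ Spor.M22 := by
  have := (Cfsg.Agent.S5599.result (stepPerm 1)⁻¹ (M24.inv_mem (stepPerm_mem 1)) ginv_swap.1
    ginv_swap.2).2.1 x hx
  rwa [inv_inv] at this

/-- conjugation by the element exchanging the two points. -/
noncomputable def tau22 : MulAut ↥Spor.M22 where
  toFun x := ⟨stepPerm 1 * x.1 * (stepPerm 1)⁻¹, g_norm x.1 x.2⟩
  invFun x := ⟨(stepPerm 1)⁻¹ * x.1 * stepPerm 1, ginv_norm x.1 x.2⟩
  left_inv x := by
    apply Subtype.ext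
    simp only
    group
  right_inv x := by
    apply Subtype.ext
    simp only
    group
  map_mul' x y := by
    apply Subtype.ext
    simp only [Subgroup.coe_mul]
    group

theorem tau22_apply (x : ↥Spor.M22) :
    ((tau22 x : ↥Spor.M22) : Equiv.Perm GolayPt) = stepPerm 1 * x.1 * (stepPerm 1)⁻¹ := rfl

theorem tau22_a : tau22 a22 = a22 ^ 10 := by
  apply Subtype.ext
  rw [tau22_apply, Subgroup.coe_pow, mul_inv_eq_iff_eq_mul]
  apply (g22P_tbl.mul a22P_tbl).eq_of_eq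
  rw [o22_g.1]
  exact (a22P_tbl.pow 10).mul g22P_tbl

theorem tau22_not_inner : ¬ ∃ d : ↥Spor.M22, tau22 = MulAut.conj d := by
  rintro ⟨d, hd⟩
  apply (Cfsg.Agent.S5599.result (stepPerm 1) (stepPerm_mem 1) g_swap.1 g_swap.2).2.2
  refine ⟨d.1, d.2, fun x hx => ?_⟩
  have := congrArg (fun f : MulAut ↥Spor.M22 => ((f ⟨x, hx⟩ : ↥Spor.M22) : Equiv.Perm GolayPt)) hd
  simp only [tau22_apply, MulAut.conj_apply, Subgroup.coe_mul, Subgroup.coe_inv] at this
  exact this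

theorem hK0_22aux : ∀ k < 11, 0 < k → ∃ j < 5, ∃ k0 ∈ [1, 10], (k * 3 ^ j) % 11 = k0 % 11 := by
  decide

theorem hK0_22 : ∀ k, 0 < k → k < 11 → ∃ j : ℕ, ∃ k0 ∈ [1, 10], (k * 3 ^ j) % 11 = k0 % 11 := by
  intro k h0 h11
  obtain ⟨j, -, h⟩ := hK0_22aux k h11 h0
  exact ⟨j, h⟩

/-- the elements with a table in the list of candidates. -/
def Cand22 : Set ↥Spor.M22 :=
  {g | ∃ y ∈ candsOf o22Tabs o22H, IsTbl (g : Equiv.Perm GolayPt) y}

theorem hCand22 (β : MulAut ↥Spor.M22) : ∃ i : ℕ, a22 ^ i * β b22 * (a22 ^ i)⁻¹ ∈ Cand22 := by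
  have h2 : orderOf (β b22) = 2 := by
    rw [MulEquiv.orderOf_eq]
    exact order_b22
  have hM := mem_M22_iff.mp (β b22).2
  have h2' : orderOf ((β b22 : ↥Spor.M22) : Equiv.Perm GolayPt) = 2 := by
    rw [Subgroup.orderOf_coe]
    exact h2
  rcases involutions_main.1 _ hM.1 h2' with hO | hfpf
  swap
  · exact absurd hM.2.1 (hfpf none)
  obtain ⟨m, hm, hm8, hsm⟩ := (mem_octads_iff _).mp hO
  have hb23 : m.testBit 23 = true := by
    have : (none : GolayPt) ∈ suppM m := by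
      rw [hsm, Finset.mem_filter]
      exact ⟨Finset.mem_univ _, hM.2.1⟩
    rw [mem_suppM] at this
    exact this
  have hb0 : m.testBit 0 = true := by
    have : (some 0 : GolayPt) ∈ suppM m := by
      rw [hsm, Finset.mem_filter]
      exact ⟨Finset.mem_univ _, hM.2.2⟩
    rw [mem_suppM] at this
    exact this
  have hmem : m ∈ o22Idx.map
      (fun p => ((orbsOf o22AT 11 o22Tabs o22H).getD p.1 []).getD p.2 0) := by
    rw [o22_octads, List.mem_filter]
    refine ⟨hm, ?_⟩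
    rw [Bool.and_eq_true, Bool.and_eq_true, beq_iff_eq]
    exact ⟨⟨hm8, hb23⟩, hb0⟩
  obtain ⟨pr, -, hpr⟩ := List.mem_map.mp hmem
  have hm0 : m ≠ 0 := by
    rintro rfl
    exact absurd hm8 (by decide)
  obtain ⟨i, y, hy, hyT⟩ := cand_general a22P_tbl a22P_mem24 goodT_o22 o22H o22_inv 11 _ hM.1 m hm0
    hsm pr hpr
  refine ⟨i, y, hy, ?_⟩
  have hc : ((a22 ^ i * β b22 * (a22 ^ i)⁻¹ : ↥Spor.M22) : Equiv.Perm GolayPt) =
      a22P ^ i * ((β b22 : ↥Spor.M22) : Equiv.Perm GolayPt) * (a22P ^ i)⁻¹ := by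
    rw [Subgroup.coe_mul, Subgroup.coe_mul, Subgroup.coe_inv, Subgroup.coe_pow]
    rfl
  rw [hc]
  exact hyT

theorem hrels22 : ∀ e ∈ o22Rels, evalW e.1 a22 b22 ^ e.2 = 1 :=
  table_relsH (x := a22) (b' := b22) a22P_tbl b22P_tbl o22Rels o22_rels

theorem htest22 : ∀ b' ∈ Cand22, (∀ e ∈ o22Rels, evalW e.1 a22 b' ^ e.2 = 1) →
    ∃ i : ℕ, b' = a22 ^ i * b22 * (a22 ^ i)⁻¹ := by
  intro b' hb' hr
  obtain ⟨y, hy, hyT⟩ := hb'
  have htest := List.all_eq_true.mp o22_test y hy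
  rw [Bool.or_eq_true, Bool.not_eq_true'] at htest
  have h1 := rels_tableH (x := a22) a22P_tbl hyT o22Rels hr
  rcases htest with h | h
  · rw [h1] at h
    exact absurd h (by decide)
  · have hmem : y ∈ o22Conj := List.mem_of_elem_eq_true h
    unfold o22Conj at hmem
    obtain ⟨i, hi, rfl⟩ := List.mem_map.mp hmem
    rw [List.mem_range] at hi
    refine ⟨i, ?_⟩
    have hinv : (a22 ^ i)⁻¹ = a22 ^ (11 - i) := by
      rw [inv_eq_iff_mul_eq_one, ← pow_add, show i + (11 - i) = 11 by omega, pow11_a22]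
    rw [hinv]
    apply Subtype.ext
    rw [Subgroup.coe_mul, Subgroup.coe_mul, Subgroup.coe_pow, Subgroup.coe_pow]
    exact hyT.eq_of_eq (((a22P_tbl.pow i).mul b22P_tbl).mul (a22P_tbl.pow (11 - i)))

theorem out_M22_card : Nat.card (Cfsg.Out ↥Cfsg.Spor.M22) = 2 := by
  have : Fact (Nat.Prime 11) := ⟨by norm_num⟩
  apply card_out_eq_two tau22 tau22_not_inner
  intro α
  exact inner_or_tau 11 a22 b22 m22 3 closure_ab22G order_a22 not_dvd_card22 conj_m22 tau22 10 10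
    tau22_a (by norm_num) hK0_22 Cand22 hCand22 o22Rels hrels22 htest22 α

end Cfsg.Agent.Helper9.OutM22
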