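import Mathlib
import Cfsg.Prelude.Def_Sporadic_a
import Cfsg.Agent.Helper9.Golay.Sift
import Cfsg.Agent.Helper9.Out.CandGen

set_option autoImplicit false

/-!
Data for the automorphism group of the Mathieu group on 12 points: the element `a` of order 11
(multiplication by 2), an involution `b` which generates the group together with `a`, a chain of
stabilizers for the group they generate, representatives of the octads, an involution `w` without
fixed points, and relations which recognize the conjugates of `b` under the powers of `a`.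
-/

namespace Cfsg.Agent.Helper9.OutM12

open Cfsg Cfsg.Agent.Helper9.Golay Cfsg.Agent.Helper9.OutM24 Cfsg.Agent.Helper9.OutGen

def o12Prog : List (ℕ × ℕ) := [(0, 0), (0, 3), (0, 4), (0, 5), (0, 6), (0, 7), (0, 8), (0, 9), (0, 10), (0, 11), (0, 12), (0, 13), (3, 3), (3, 15), (15, 15), (17, 17), (16, 18), (14, 14), (20, 20), (20, 21), (21, 21), (23, 23), (22, 24), (0, 1), (0, 26), (1, 26), (0, 27), (0, 29), (1, 29), (1, 30), (0, 31), (1, 1), (0, 28), (32, 32), (36, 36), (36, 37), (37, 37), (39, 39), (38, 40), (0, 33), (41, 42), (25, 43), (44, 44), (44, 45), (44, 46), (44, 47), (44, 48), (45, 45), (50, 50), (51, 51), (50, 52), (49, 49), (54, 54), (55, 55), (54, 56), (2, 26), (2, 28), (0, 58), (2, 58), (2, 59), (0, 61), (57, 2), (64, 64), (64, 3), (44, 66), (65, 65), (68, 68), (64, 0), (19, 70), (64, 71), (44, 72), (71, 45), (53, 74), (64, 75), (75, 76), (64, 77), (75, 78), (75, 75), (76, 76), (76, 81), (69, 80), (83, 83), (83, 84), (83, 85), (84, 84), (87, 87),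 (75, 65), (82, 89), (88, 90), (91, 83), (91, 84), (83, 92), (91, 85), (83, 93), (95, 95), (97, 97), (96, 96), (99, 99), (83, 94), (98, 101), (91, 86), (100, 103), (104, 102), (2, 1), (2, 29), (0, 59), (2, 60), (62, 67), (110, 73), (111, 79), (112, 93), (113, 105), (114, 91), (2, 2), (116, 116), (19, 19), (1, 0), (19, 1), (2, 0), (19, 117), (1, 19), (1, 117), (0, 2), (117, 19), (117, 117), (118, 19), (1, 3), (118, 1), (0, 119), (120, 19), (2, 119), (120, 117), (0, 121), (122, 19), (2, 121), (122, 117), (123, 19), (123, 1), (123, 117), (0, 106), (124, 19), (2, 106), (124, 117), (0, 125), (126, 19), (1, 125), (126, 1), (2, 125), (126, 117), (0, 116), (127, 19), (2, 116), (127, 117), (128, 19), (1, 4), (128, 1), (2, 4), (128, 117), (0, 129), (130, 19), (2, 129), (130, 117), (0, 131), (132, 19), (2, 131), (132, 117), (0, 133), (134, 19), (0, 135), (136, 19), (0, 137), (138, 19), (139, 19), (140, 19), (140, 117), (141, 19), (141, 117), (2, 142), (143, 117), (0, 144),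 (145, 19), (2, 144), (145, 117), (0, 146), (147, 19), (1, 146), (147, 1), (2, 146), (147, 117), (0, 148), (149, 19), (2, 152), (153, 117), (0, 154), (155, 19), (2, 154), (155, 117), (156, 19), (0, 161), (162, 19), (2, 161), (162, 117), (0, 165), (166, 19), (0, 167), (168, 19), (2, 167), (168, 117), (1, 171), (172, 1), (2, 171), (172, 117), (1, 173), (174, 1), (2, 173), (174, 117), (175, 1), (175, 117), (0, 35), (176, 19), (177, 19), (178, 117), (179, 19), (0, 180), (181, 19), (2, 182), (183, 117), (0, 186), (187, 19), (0, 188), (189, 19), (2, 190), (191, 117), (2, 194), (195, 117), (0, 196), (197, 19), (2, 196), (197, 117), (1, 201), (202, 1), (0, 203), (204, 19), (0, 209), (210, 19), (2, 215), (216, 117), (2, 217), (218, 117), (0, 107), (220, 19)]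

def o12A : ℕ := 44

def o12B : ℕ := 115

def o12AT : List ℕ := [0, 2, 4, 6, 8, 10, 12, 14, 16, 18, 20, 22, 1, 3, 5, 7, 9, 11, 13, 15, 17, 19, 21, 23]

def o12BT : List ℕ := [1, 0, 2, 3, 6, 5, 4, 11, 8, 12, 22, 7, 9, 18, 14, 19, 16, 23, 13, 15, 20, 21, 10, 17]

def o12WT : List ℕ := [1, 0, 9, 16, 13, 17, 12, 19, 18, 2, 20, 21, 6, 4, 22, 23, 3, 5, 8, 7, 10, 11, 14, 15]

def o12W : ℕ := 69

def o12H : List (ℕ × ℕ) := [(34, 34), (0, 19), (217, 218), (205, 206), (3, 118), (150, 151), (207, 208), (154, 155), (4, 128), (244, 245), (2, 117), (165, 166), (198, 199), (125, 126), (5, 156), (146, 147), (232, 233), (31, 219), (116, 127), (246, 247), (213, 214), (6, 200), (171, 172), (119, 120), (159, 160), (190, 191), (230, 231), (169, 170), (137, 138), (196, 197), (192, 193), (203, 204), (157, 158), (236, 237), (250, 251), (186, 187), (240, 241), (234, 235), (173, 174), (238, 239), (133, 134), (152, 153), (148, 149), (201, 202), (163, 164), (135, 136), (61, 179), (226,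 227), (221, 222), (242, 243), (215, 216), (228, 229), (63, 225), (182, 183), (211, 212), (58, 141), (248, 249), (107, 220), (108, 223), (35, 176), (26, 123), (109, 224), (1, 1), (29, 175), (60, 178), (144, 145), (184, 185), (252, 253), (106, 124)]

def o12Idx : List (ℕ × ℕ) := [(0, 0), (1, 0), (2, 2), (3, 1), (4, 0), (5, 1), (6, 2), (7, 9), (8, 0), (0, 1), (9, 0), (10, 1), (11, 6), (0, 8), (5, 7), (12, 1), (13, 9), (14, 0), (4, 1), (10, 10), (12, 4), (1, 3), (15, 1), (3, 2), (16, 2), (17, 1), (8, 8), (18, 8), (13, 6), (19, 0), (20, 3), (11, 4), (21, 0), (9, 7), (14, 1), (22, 3), (23, 5), (24, 8), (0, 9), (25, 8), (12, 9), (7, 3), (26, 1), (5, 8), (27, 5), (10, 0), (4, 10), (18, 2), (28, 1), (13, 8), (12, 3), (29, 6), (30, 9), (31, 1), (7, 5), (4, 2), (32, 10), (7, 2), (28, 4), (18, 7), (21, 10), (12, 2), (28, 5), (1, 7), (13, 10), (4, 7), (28, 2), (33, 3), (34, 3), (1, 1), (35, 3), (18, 3), (2, 3), (10, 8), (5, 2), (29, 7), (20, 9), (36, 2), (13, 0), (18, 10),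 (37, 2), (38, 10), (15, 2), (39, 1), (25, 2), (26, 8), (38, 2), (33, 6), (40, 0), (3, 3), (39, 4), (28, 9), (1, 4), (26, 5), (28, 6), (12, 5), (29, 9), (30, 2), (30, 6), (7, 10), (41, 2), (42, 4), (30, 10), (43, 6), (6, 3), (33, 10), (31, 2), (31, 9), (9, 1), (37, 10), (32, 0), (7, 6), (19, 3), (0, 5), (24, 10), (0, 2), (4, 3), (36, 6), (8, 1), (6, 10), (5, 4), (10, 2), (11, 7), (34, 5), (35, 8), (2, 10), (16, 3), (27, 1), (1, 8), (6, 7), (15, 0), (10, 9), (36, 1), (10, 7), (0, 10), (8, 10), (34, 2), (37, 9), (5, 3), (43, 5), (41, 1), (24, 9), (22, 2), (11, 3), (7, 4), (4, 9), (24, 7), (38, 9), (27, 0), (29, 8), (3, 9), (32, 5), (3, 10), (19, 1), (33, 4), (20, 4), (32, 6), (44, 5), (4, 8), (38, 8), (15, 9), (8, 9), (17, 2), (12, 0), (1, 2), (11, 5), (3, 0), (35, 2), (31, 8), (34, 4), (19, 2), (13, 5), (13, 7), (28, 3), (33, 5), (18, 9), (44, 4), (12, 10), (38, 7), (25, 9), (14, 7), (15, 10), (32, 7), (22, 4), (21, 7), (2, 4), (25, 10), (45, 5), (14, 2), (20,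 5), (18, 4), (39, 9), (44, 6), (35, 4), (21, 1), (29, 3), (40, 8), (26, 2), (20, 10), (27, 6), (23, 1), (17, 3), (5, 9), (16, 10), (36, 3), (17, 8), (41, 7), (14, 8), (23, 6), (9, 8), (35, 0), (5, 10), (0, 3), (17, 6), (41, 10), (38, 0), (32, 8), (24, 0), (17, 4), (19, 6), (22, 5), (15, 3), (18, 0), (25, 0), (10, 5), (36, 4), (7, 7), (16, 6), (2, 5), (13, 1), (19, 4), (39, 10), (28, 10), (36, 10), (6, 0), (31, 6), (34, 9), (42, 10), (39, 5), (21, 5), (43, 3), (26, 6), (41, 8), (39, 7), (13, 3), (5, 5), (27, 9), (1, 5), (10, 3), (44, 7), (22, 7), (28, 7), (18, 5), (41, 5), (37, 5), (21, 8), (39, 2), (24, 5), (16, 0), (25, 3), (0, 6), (37, 3), (42, 7), (9, 4), (21, 2), (12, 6), (2, 7), (29, 10), (15, 5), (11, 8), (34, 6), (25, 5), (35, 5), (44, 9), (17, 9), (36, 7), (40, 1), (45, 6), (8, 5), (26, 9), (38, 3), (24, 2), (20, 6), (8, 2), (3, 4), (14, 3), (4, 4), (33, 7), (30, 3), (40, 4), (16, 8), (34, 0), (37, 0), (45, 3), (9, 9), (27, 7), (9, 2), (45, 1), (1, 9),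 (31, 10), (37, 7), (22, 9), (2, 0), (40, 9), (30, 7), (35, 9), (45, 10), (29, 4), (42, 5), (22, 0), (7, 0), (26, 3), (41, 3), (16, 4), (14, 9), (30, 0), (6, 8), (11, 1), (19, 8), (27, 2), (6, 4), (23, 7), (43, 7), (20, 0), (31, 3), (23, 2), (43, 0), (42, 1), (32, 1), (33, 0), (12, 8), (26, 0), (18, 6), (23, 4), (20, 2), (31, 0), (18, 1), (30, 1), (28, 8), (6, 6), (25, 1), (35, 7), (1, 10), (7, 8), (33, 2), (14, 10), (20, 8), (33, 9), (30, 5), (36, 5), (41, 0), (34, 1), (14, 6), (22, 1), (27, 10), (40, 7), (16, 9), (17, 7), (13, 4), (32, 4), (35, 1), (39, 8), (45, 4), (27, 4), (1, 6), (7, 1), (17, 0), (32, 9), (26, 4), (38, 1), (37, 1), (9, 10), (5, 0), (4, 6), (5, 6), (0, 4), (10, 6), (37, 8), (38, 6), (29, 2), (41, 6), (15, 8), (34, 8), (36, 9), (22, 6), (27, 8), (41, 4), (9, 3), (15, 4), (44, 8), (16, 5), (10, 4), (17, 5), (8, 4), (24, 1), (37, 6), (11, 0), (16, 7), (43, 10), (45, 9), (22, 10), (31, 5), (13, 2), (21, 4), (2, 6), (40, 3), (19, 5), (22, 8), (45,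 2), (19, 7), (19, 10), (30, 8), (28, 0), (25, 7), (21, 9), (39, 0), (40, 10), (2, 9), (39, 3), (16, 1), (2, 1), (6, 1), (6, 9), (11, 2), (43, 4), (44, 3), (23, 0), (3, 8), (21, 6), (8, 7), (9, 6), (29, 5), (26, 7), (0, 7), (42, 3), (24, 6), (36, 0), (31, 7), (43, 2), (37, 4), (42, 9), (42, 6), (41, 9), (24, 4), (45, 0), (34, 10), (42, 0), (39, 6), (25, 4), (35, 10), (20, 1), (35, 6), (38, 5), (29, 1), (33, 8), (43, 9), (31, 4), (45, 8), (32, 3), (4, 5), (14, 5), (34, 7), (3, 7), (42, 2), (9, 5), (24, 3), (42, 8), (2, 8), (19, 9), (6, 5), (12, 7), (20, 7), (11, 10), (21, 3), (27, 3), (8, 3), (23, 10), (25, 6), (14, 4), (29, 0), (43, 8), (23, 9), (3, 5), (11, 9), (23, 8), (44, 1), (44, 10), (32, 2), (3, 6), (15, 6), (30, 4), (33, 1), (23, 3), (40, 2), (40, 6), (17, 10), (36, 8), (44, 2), (8, 6), (15, 7), (26, 10), (43, 1), (38, 4), (44, 0), (40, 5), (45, 7), (46, 3), (47, 6), (48, 1), (49, 0), (50, 5), (51, 8), (52, 3), (53, 4), (54, 2), (55, 6), (56, 3), (57,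 4), (49, 9), (49, 5), (53, 3), (49, 10), (58, 7), (59, 7), (48, 5), (60, 6), (61, 5), (48, 10), (46, 4), (62, 5), (55, 0), (58, 3), (63, 10), (47, 7), (64, 7), (51, 9), (57, 2), (60, 2), (50, 6), (63, 9), (48, 9), (64, 10), (48, 2), (48, 3), (49, 1), (46, 6), (56, 7), (64, 0), (48, 4), (49, 8), (52, 2), (52, 4), (53, 1), (50, 0), (58, 8), (65, 4), (54, 10), (49, 6), (56, 0), (51, 0), (49, 2), (63, 3), (54, 3), (46, 7), (62, 7), (53, 5), (57, 5), (55, 3), (61, 10), (64, 1), (58, 10), (47, 3), (60, 7), (59, 4), (66, 1), (46, 0), (59, 8), (63, 6), (67, 0), (61, 7), (52, 5), (48, 6), (54, 6), (56, 4), (56, 8), (55, 7), (60, 1), (52, 1), (62, 4), (64, 9), (46, 5), (55, 2), (58, 9), (62, 6), (54, 1), (48, 0), (53, 2), (47, 2), (61, 6), (64, 8), (52, 10), (54, 0), (67, 7), (66, 7), (66, 6), (57, 1), (49, 7), (61, 4), (51, 10), (57, 3), (53, 0), (55, 1), (52, 0), (50, 1), (51, 5), (68, 6), (60, 3), (50, 7), (68, 0), (50, 2), (65, 5), (67, 8), (58, 4), (47, 8), (66, 8),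 (63, 0), (48, 7), (63, 1), (60, 10), (55, 4), (68, 9), (57, 8), (65, 8), (57, 6), (61, 2), (51, 3), (50, 3), (64, 2), (68, 4), (63, 4), (51, 6), (68, 7), (67, 1), (63, 7), (56, 1), (61, 8), (60, 4), (54, 4), (47, 9), (49, 3), (47, 0), (51, 1), (53, 9), (61, 0), (53, 6), (50, 8), (66, 9), (67, 3), (62, 8), (46, 8), (52, 6), (54, 7), (59, 1), (58, 0), (64, 4), (68, 1), (67, 9), (47, 4), (57, 10), (56, 5), (60, 8), (56, 9), (65, 6), (62, 2), (46, 1), (58, 5), (65, 10), (59, 5), (59, 9), (65, 1), (66, 2), (55, 8), (58, 6), (60, 5), (54, 9), (55, 5), (47, 5), (54, 5), (66, 0), (67, 10), (55, 10), (48, 8), (56, 6), (63, 2), (61, 9), (67, 6), (52, 9), (61, 3), (66, 5), (51, 4), (47, 1), (49, 4), (50, 4), (50, 10), (46, 10), (58, 2), (56, 10), (57, 0), (68, 10), (60, 0), (65, 7), (53, 8), (51, 2), (59, 0), (64, 3), (68, 3), (65, 9), (65, 0), (57, 9), (60, 9), (57, 7), (47, 10), (56, 2), (46, 2), (65, 3), (59, 3), (64, 6), (63, 8), (53, 10), (68, 5), (62, 3), (51, 7),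 (59, 6), (63, 5), (61, 1), (68, 8), (67, 2), (62, 1), (52, 8), (50, 9), (58, 1), (59, 10), (53, 7), (55, 9), (66, 10), (65, 2), (62, 0), (66, 4), (46, 9), (64, 5), (62, 10), (52, 7), (67, 4), (62, 9), (67, 5), (68, 2), (59, 2), (54, 8), (66, 3)]

def o12ChainProg : List (ℕ × ℕ) := [(0, 0), (0, 2), (0, 3), (0, 4), (5, 5), (6, 6), (7, 7), (6, 8), (0, 1), (0, 10), (0, 11), (1, 11), (0, 12), (0, 13), (0, 14), (0, 16), (0, 17), (0, 18), (10, 10), (20, 20), (21, 21), (20, 22), (1, 10), (23, 24), (9, 25), (26, 26), (26, 27), (26, 28), (26, 29), (26, 0), (26, 2), (0, 31), (26, 31), (0, 33), (26, 33), (0, 35), (26, 36), (27, 27), (27, 39), (31, 31), (31, 41), (41, 41), (42, 43), (44, 3), (29, 45), (46, 46), (46, 47), (46, 26), (46, 49), (26, 50), (46, 51), (46, 27), (40, 53), (46, 54), (54, 54), (46, 55), (54, 48), (54, 46), (59, 59), (59, 60), (54, 47), (47, 62), (63, 59), (59, 63), (63, 60), (1, 51), (67, 55), (68, 64)]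

def o12Levels2 : List (ℕ × List (ℕ × ℕ)) := [(0, [(0, 100000), (1, 1), (2, 10), (3, 19), (4, 11), (6, 13), (8, 12), (9, 16), (12, 15), (13, 18), (16, 14), (18, 17)]),
  (1, [(1, 100000), (2, 0), (3, 36), (4, 2), (6, 34), (8, 31), (9, 35), (12, 32), (13, 38), (16, 33), (18, 37)])]

def o12Levels3 : List (ℕ × List (ℕ × ℕ)) := [(2, [(2, 100000), (3, 29), (4, 50), (6, 27), (8, 26), (9, 52), (12, 51), (13, 30), (16, 28), (18, 49)]),
  (3, [(3, 100000), (4, 58), (6, 56), (8, 55), (9, 47), (12, 46), (13, 48), (16, 54), (18, 57)]),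
  (4, [(4, 100000), (6, 59), (8, 66), (9, 61), (12, 60), (13, 64), (16, 63), (18, 65)])]

def o12Rels : List (List Bool × ℕ) := [([true, true, false, true, true, true, true, false], 2), ([true, false, true, false, true, true, true, true, true, false], 3)]

def o12X : ℕ := 36

/-- the indices of the points of the dodecad of squares. -/
def o12Dl : List ℕ := [0, 1, 2, 3, 4, 6, 8, 9, 12, 13, 16, 18]

/-- the tables computed by the program. -/
def o12Tabs : List (List ℕ) := runSLP o12Prog stdTabs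

theorem o12_elts : o12Tabs.getD o12A idT = o12AT ∧ o12Tabs.getD o12B idT = o12BT := by
  decide +kernel

theorem o12_a : powT o12AT 11 = idT ∧ o12AT ≠ idT ∧ pullT o12AT 340831 = 340831 ∧
    o12AT.getD 0 0 = 0 ∧ o12AT.getD 23 0 = 23 ∧
    (List.range 24).all (fun i => o12AT.getD i 0 != i || i == 0 || i == 23) = true := by
  decide +kernel

theorem o12_b : mulT o12BT o12BT = idT ∧ o12BT ≠ idT ∧ pullT o12BT 340831 = 340831 := by
  decide +kernel

theorem o12_m : mulT (stdTabs.getD 2 idT) o12AT = mulT (powT o12AT 3) (stdTabs.getD 2 idT) ∧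
    pullT (stdTabs.getD 2 idT) 340831 = 340831 := by decide +kernel

theorem o12_g : mulT (stdTabs.getD 1 idT) o12AT = mulT (powT o12AT 10) (stdTabs.getD 1 idT) ∧
    pullT (stdTabs.getD 1 idT) 340831 = 16436384 ∧ pullT (stdTabs.getD 1 idT) 16436384 = 340831 ∧
    mulT (stdTabs.getD 1 idT) (stdTabs.getD 1 idT) = idT := by decide +kernel

/-- the tables of the chain, from `a` and `b`. -/
def o12ChainTabs : List (List ℕ) := runSLP o12ChainProg [o12AT, o12BT]

theorem o12_chain : chainOK o12ChainTabs [] (o12Levels2 ++ o12Levels3) = true := by decide +kernel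

theorem o12_bound : chainBound (o12Levels2 ++ o12Levels3) = 95040 := by decide +kernel

theorem o12_chain3 : chainOK o12ChainTabs [1, 0] o12Levels3 = true := by decide +kernel

theorem o12_cover3 : coverOK o12Dl [1, 0] o12Levels3 = true := by decide +kernel

theorem o12_final : finalBase o12Levels3 [1, 0] = [4, 3, 2, 1, 0] := by decide +kernel

theorem o12_w : o12ChainTabs.getD o12W idT = o12WT ∧ o12WT.getD 0 0 = 1 ∧ o12WT.getD 1 0 = 0 := by
  decide +kernel

theorem o12_x : (o12ChainTabs.getD o12X idT).getD 0 0 = 0 ∧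
    (o12ChainTabs.getD o12X idT).getD 23 0 = 15 := by decide +kernel

theorem o12_aorb : o12Dl.all (fun j => j == 0 ||
    (List.range 11).any (fun i => (powT o12AT i).getD j 0 == 1)) = true := by decide +kernel

theorem o12_octads : o12Idx.map (fun p => ((orbsOf o12AT 11 o12Tabs o12H).getD p.1 []).getD p.2 0) =
    codeList.filter (fun m => popc m == 8) := by decide +kernel

theorem o12_inv : o12H.all (fun e => mulT (o12Tabs.getD e.1 idT) (o12Tabs.getD e.2 idT) == idT) =
    true := by decide +kernel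

/-- the candidates fixing an octad pointwise. -/
def o12CandO : List (List ℕ) :=
  (candsOf o12Tabs o12H).filter (fun y => pullT y 340831 == 340831)

/-- the candidates exchanging the first two points of the dodecad. -/
def o12CandF : List (List ℕ) := (allProds o12ChainTabs o12Levels3).map (mulT o12WT)

/-- the conjugates of `b` under the powers of `a`. -/
def o12Conj : List (List ℕ) :=
  (List.range 11).map (fun i => mulT (mulT (powT o12AT i) o12BT) (powT o12AT (11 - i)))

theorem o12_rels : relsHoldT o12Rels o12AT o12BT = true := by decide +kernel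

theorem o12_testO : o12CandO.all (fun y =>
    !relsHoldT o12Rels o12AT y || o12Conj.contains y) = true := by
  decide +kernel

theorem o12_testF : o12CandF.all (fun y =>
    !relsHoldT o12Rels o12AT y || o12Conj.contains y) = true := by
  decide +kernel

end Cfsg.Agent.Helper9.OutM12
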