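import Mathlib
import Cfsg.Prelude.Def_Sporadic_a
import Cfsg.Agent.Helper9.Out.CandGen

set_option autoImplicit false

/-!
Data for the automorphism group of the Mathieu group on 11 points: the element `a` of order 11
(multiplication by 2), an involution `b` which generates the group together with `a`, a chain of
stabilizers for the group they generate, representatives of the octads through the fixed point,
and relations which recognize the conjugates of `b` under the powers of `a`.
-/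

namespace Cfsg.Agent.Helper9.OutM11

open Cfsg Cfsg.Agent.Helper9.Golay Cfsg.Agent.Helper9.OutM24 Cfsg.Agent.Helper9.OutGen

def o11Prog : List (ℕ × ℕ) := [(0, 0), (0, 3), (0, 4), (0, 5), (0, 6), (0, 7), (0, 8), (0, 9), (0, 10), (0, 11), (0, 12), (0, 13), (3, 3), (3, 15), (15, 15), (17, 17), (16, 18), (14, 14), (20, 20), (20, 21), (21, 21), (23, 23), (22, 24), (0, 1), (0, 26), (1, 26), (0, 27), (1, 27), (0, 29), (1, 29), (1, 31), (0, 32), (1, 1), (0, 28), (33, 33), (37, 37), (37, 38), (38, 38), (40, 40), (39, 41), (0, 34), (42, 43), (25, 44), (45, 45), (45, 46), (45, 47), (45, 48), (45, 49), (46, 46), (51, 51), (52, 52), (51, 53), (50, 50), (55, 55), (56, 56), (55, 57), (2, 26), (2, 59), (58, 2), (61, 61), (61, 45), (62, 62), (64, 64), (61, 0), (19, 66), (67, 46), (54, 68), (61, 69), (61, 70), (69, 69), (70, 70), (70, 73), (65, 72), (75, 75), (75, 76), (75, 77), (76, 76), (79, 79), (69, 62), (74, 81), (80, 82), (83, 75), (83, 76), (75, 84), (83, 84), (83, 77), (75,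 85), (75, 87), (83, 90), (88, 88), (92, 92), (89, 89), (94, 94), (75, 86), (93, 96), (83, 78), (95, 98), (97, 99), (2, 1), (2, 29), (30, 63), (103, 71), (104, 91), (105, 100), (2, 2), (107, 107), (19, 19), (1, 0), (19, 1), (2, 0), (19, 108), (1, 19), (1, 108), (0, 2), (108, 19), (108, 108), (1, 3), (109, 1), (0, 110), (111, 19), (0, 112), (113, 19), (2, 112), (113, 108), (114, 19), (114, 1), (114, 108), (2, 101), (115, 108), (1, 116), (117, 1), (2, 107), (118, 108), (0, 119), (120, 19), (0, 121), (122, 19), (0, 123), (124, 19), (0, 125), (126, 19), (127, 19), (128, 19), (129, 108), (0, 130), (131, 19), (0, 132), (133, 19), (0, 134), (135, 19), (2, 134), (135, 108), (0, 136), (137, 19), (2, 136), (137, 108), (0, 138), (139, 19), (2, 140), (141, 108), (2, 142), (143, 108), (144, 1), (144, 108), (0, 36), (145, 19), (2, 147), (148, 108), (0, 151), (152, 19), (0, 157), (158, 19), (2, 163), (164, 108), (0, 102), (166, 19)]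

def o11A : ℕ := 45

def o11B : ℕ := 106

def o11AT : List ℕ := [0, 2, 4, 6, 8, 10, 12, 14, 16, 18, 20, 22, 1, 3, 5, 7, 9, 11, 13, 15, 17, 19, 21, 23]

def o11BT : List ℕ := [0, 1, 2, 4, 3, 15, 13, 10, 18, 16, 7, 23, 12, 6, 21, 5, 9, 17, 8, 19, 20, 14, 22, 11]

def o11H : List (ℕ × ℕ) := [(35, 35), (163, 164), (159, 160), (134, 135), (173, 174), (2, 108), (153, 154), (32, 165), (107, 118), (161, 162), (140, 141), (149, 150), (175, 176), (142, 143), (171, 172), (155, 156), (60, 146), (167, 168), (169, 170), (147, 148), (59, 129), (26, 114), (177, 178)]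

def o11Idx : List (ℕ × ℕ) := [(0, 0), (1, 2), (2, 1), (3, 9), (0, 1), (4, 0), (5, 1), (0, 8), (6, 1), (5, 10), (6, 4), (2, 2), (7, 1), (8, 8), (9, 3), (4, 7), (10, 3), (0, 9), (6, 9), (3, 3), (5, 0), (8, 2), (6, 3), (11, 9), (3, 5), (3, 2), (8, 7), (6, 2), (12, 3), (8, 3), (1, 3), (5, 8), (9, 9), (8, 10), (13, 10), (14, 1), (13, 2), (2, 3), (14, 4), (6, 5), (11, 2), (11, 6), (3, 10), (11, 10), (15, 6), (4, 1), (3, 6), (0, 5), (0, 2), (5, 2), (12, 5), (1, 10), (5, 9), (5, 7), (0, 10), (12, 2), (15, 5), (10, 2), (3, 4), (13, 9), (2, 9), (2, 10), (9, 4), (13, 8), (7, 2), (6, 0), (2, 0), (12, 4), (8, 9), (6, 10), (13, 7), (10, 4), (1, 4), (9, 5), (8, 4), (14, 9), (9, 10), (7, 3), (7, 8), (4, 8), (0, 3), (7, 6), (13, 0), (7, 4), (10, 5), (8, 0), (5, 5), (3, 7), (1, 5), (14, 10), (12, 9), (14, 5), (15, 3), (14, 7), (5, 3), (10, 7), (8, 5), (14, 2), (0, 6), (4, 4), (6, 6), (1, 7), (12, 6), (7, 9), (13, 3), (9, 6), (2, 4), (11, 3), (12, 0), (4, 9), (4, 2), (10, 9), (1, 0),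 (11, 7), (10, 0), (3, 0), (11, 0), (15, 7), (9, 0), (15, 0), (6, 8), (8, 6), (9, 2), (8, 1), (11, 1), (3, 8), (9, 8), (11, 5), (12, 1), (10, 1), (7, 7), (14, 8), (3, 1), (7, 0), (13, 1), (4, 10), (0, 4), (5, 6), (13, 6), (12, 8), (10, 6), (4, 3), (5, 4), (7, 5), (15, 10), (10, 10), (1, 6), (10, 8), (11, 8), (14, 0), (1, 9), (14, 3), (1, 1), (15, 4), (2, 8), (4, 6), (0, 7), (15, 2), (12, 10), (14, 6), (9, 1), (13, 5), (15, 9), (12, 7), (2, 7), (4, 5), (1, 8), (6, 7), (9, 7), (15, 8), (2, 5), (2, 6), (11, 4), (7, 10), (15, 1), (13, 4), (16, 3), (17, 1), (18, 8), (19, 4), (20, 6), (19, 3), (17, 5), (21, 6), (17, 10), (16, 4), (20, 0), (18, 9), (21, 2), (17, 9), (17, 2), (17, 3), (16, 6), (17, 4), (19, 1), (18, 0), (16, 7), (19, 5), (20, 3), (21, 7), (16, 0), (22, 0), (17, 6), (20, 7), (21, 1), (16, 5), (20, 2), (17, 0), (19, 2), (22, 7), (18, 10), (19, 0), (20, 1), (18, 5), (21, 3), (22, 8), (17, 7), (21, 10), (20, 4), (18, 3), (18, 6), (22, 1), (21, 4), (18, 1), (19,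 9), (19, 6), (22, 3), (16, 8), (22, 9), (21, 8), (16, 1), (20, 8), (21, 5), (20, 5), (22, 10), (20, 10), (17, 8), (22, 6), (18, 4), (16, 10), (21, 0), (19, 8), (18, 2), (21, 9), (16, 2), (19, 10), (18, 7), (22, 2), (19, 7), (20, 9), (16, 9), (22, 4), (22, 5)]

def o11ChainProg : List (ℕ × ℕ) := [(0, 0), (0, 2), (0, 3), (0, 4), (2, 2), (6, 6), (2, 7), (5, 5), (9, 9), (10, 10), (9, 11), (1, 2), (1, 3), (0, 13), (0, 14), (0, 15), (1, 0), (8, 18), (1, 19), (1, 4), (12, 21), (22, 19), (22, 20), (19, 23), (22, 23), (19, 24), (1, 25), (22, 22), (22, 29), (29, 29), (30, 31), (19, 22), (32, 33), (34, 1), (1, 35), (29, 1), (34, 29), (34, 37), (29, 34), (34, 40), (41, 36), (39, 39), (39, 43), (27, 27), (27, 45), (45, 45), (46, 47), (22, 24), (48, 49), (44, 50), (51, 36), (51, 41), (41, 51), (51, 34), (34, 55)]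

def o11Levels : List (ℕ × List (ℕ × ℕ)) := [(1, [(1, 100000), (2, 0), (3, 13), (4, 2), (6, 15), (8, 3), (9, 5), (12, 17), (13, 16), (16, 4), (18, 14)]),
  (2, [(2, 100000), (3, 25), (4, 28), (6, 20), (8, 24), (9, 26), (12, 22), (13, 19), (16, 27), (18, 23)]),
  (3, [(3, 100000), (4, 1), (6, 39), (8, 37), (9, 38), (12, 34), (13, 55), (16, 56), (18, 29)]),
  (4, [(4, 100000), (6, 41), (8, 54), (9, 42), (12, 36), (13, 52), (16, 53), (18, 51)])]

def o11Rels : List (List Bool × ℕ) := [([true, true, false, true, true, true, false, true, true, true, true, true, false], 2), ([true, true, true, false], 5)]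

/-- the tables computed by the program. -/
def o11Tabs : List (List ℕ) := runSLP o11Prog stdTabs

theorem o11_elts : o11Tabs.getD o11A idT = o11AT ∧ o11Tabs.getD o11B idT = o11BT := by
  decide +kernel

theorem o11_a : powT o11AT 11 = idT ∧ o11AT ≠ idT ∧ o11AT.getD 0 0 = 0 ∧
    pullT o11AT 340831 = 340831 := by decide +kernel

theorem o11_b : mulT o11BT o11BT = idT ∧ o11BT ≠ idT ∧ o11BT.getD 0 0 = 0 ∧
    pullT o11BT 340831 = 340831 := by decide +kernel

theorem o11_m : mulT (stdTabs.getD 2 idT) o11AT = mulT (powT o11AT 3) (stdTabs.getD 2 idT) ∧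
    (stdTabs.getD 2 idT).getD 0 0 = 0 ∧ pullT (stdTabs.getD 2 idT) 340831 = 340831 := by
  decide +kernel

/-- the tables of the chain, from `a` and `b`. -/
def o11ChainTabs : List (List ℕ) := runSLP o11ChainProg [o11AT, o11BT]

theorem o11_chain : chainOK o11ChainTabs [] o11Levels = true := by decide +kernel

theorem o11_bound : chainBound o11Levels = 7920 := by decide +kernel

theorem o11_octads : o11Idx.map (fun p => ((orbsOf o11AT 11 o11Tabs o11H).getD p.1 []).getD p.2 0) =
    codeList.filter (fun m => popc m == 8 && m.testBit 0) := by decide +kernel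

theorem o11_inv : o11H.all (fun e => mulT (o11Tabs.getD e.1 idT) (o11Tabs.getD e.2 idT) == idT) =
    true := by decide +kernel

/-- the conjugates of `b` under the powers of `a`. -/
def o11Conj : List (List ℕ) :=
  (List.range 11).map (fun i => mulT (mulT (powT o11AT i) o11BT) (powT o11AT (11 - i)))

theorem o11_rels : relsHoldT o11Rels o11AT o11BT = true := by decide +kernel

theorem o11_test : (candsOf o11Tabs o11H).all (fun y =>
    (!relsHoldT o11Rels o11AT y || o11Conj.contains y) &&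
      !relsHoldT o11Rels (powT o11AT 10) y) = true := by
  decide +kernel

end Cfsg.Agent.Helper9.OutM11
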