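import Mathlib
import Cfsg.Prelude
import Cfsg.Agent.S0387
import Cfsg.Agent.Helper9.Golay.Syl2Thm
import Cfsg.Agent.Helper9.Out.M23Out
import Cfsg.Agent.Helper9.Out.M11Data

set_option autoImplicit false

/-!
All automorphisms of the Mathieu group on 11 points are inner.
-/

namespace Cfsg.Agent.Helper9.OutM11

open Cfsg Cfsg.Agent.Helper9.Golay Cfsg.Agent.Helper9.OutL Cfsg.Agent.Helper9.OutM24
  Cfsg.Agent.Helper9.OutGen Cfsg.Agent.Helper9.OutM23
open scoped Pointwise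

theorem genMask_zero' : genMask (some 0) = 340831 := by decide +kernel

theorem sqDod_eq' : Spor.squareDodecad = suppM 340831 := by
  unfold Spor.squareDodecad suppM
  rw [← genMask_zero']
  unfold genMask
  rw [decW_encW]
  rfl

theorem sqDod_mem' : Spor.squareDodecad ∈ dodecads := by
  rw [sqDod_eq']
  exact (mem_dodecads_iff _).mpr ⟨340831, by rw [← genMask_zero']; exact genMask_mem_codeList _,
    by decide, rfl⟩

theorem zero_mem_sqDod' : (some 0 : GolayPt) ∈ Spor.squareDodecad := by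
  rw [sqDod_eq', mem_suppM]
  decide

theorem mem_M11_iff' {x : Equiv.Perm GolayPt} :
    x ∈ Spor.M11 ↔ x ∈ M24 ∧ x • Spor.squareDodecad = Spor.squareDodecad ∧ x (some 0) = some 0 := by
  unfold Spor.M11 Spor.M12
  rw [Subgroup.mem_inf, Subgroup.mem_inf]
  constructor
  · rintro ⟨⟨h1, h2⟩, h3⟩
    exact ⟨h1, h2, h3⟩
  · rintro ⟨h1, h2, h3⟩
    exact ⟨⟨h1, h2⟩, h3⟩

theorem idxPtN_zero : idxPtN 0 = some 0 := by decide

theorem fix_zero_of_tbl' {σ : Equiv.Perm GolayPt} {t : List ℕ} (ht : IsTbl σ t)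
    (h0 : t.getD 0 0 = 0) : σ (some 0) = some 0 := by
  have := ht.apply_idx (i := 0) (by norm_num)
  rw [h0, idxPtN_zero] at this
  exact this

theorem stab_of_pullT {σ : Equiv.Perm GolayPt} {t : List ℕ} (ht : IsTbl σ t)
    (h : pullT t 340831 = 340831) : σ • Spor.squareDodecad = Spor.squareDodecad := by
  rw [sqDod_eq']
  have h1 := suppM_pullT ht 340831
  rw [h] at h1
  conv_lhs => rw [h1]
  rw [smul_inv_smul]

theorem mem_M11_of_tbl {σ : Equiv.Perm GolayPt} {t : List ℕ} (hσ : σ ∈ M24) (ht : IsTbl σ t)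
    (h0 : t.getD 0 0 = 0) (hD : pullT t 340831 = 340831) : σ ∈ Spor.M11 :=
  mem_M11_iff'.mpr ⟨hσ, stab_of_pullT ht hD, fix_zero_of_tbl' ht h0⟩

theorem card_M11 : Nat.card ↥Spor.M11 = 7920 := by
  rw [← Cfsg.Agent.S0387.result Spor.squareDodecad sqDod_mem' (some 0) zero_mem_sqDod']
  apply Nat.card_congr
  exact ⟨fun x => ⟨⟨x.1, (mem_M11_iff'.mp x.2).1⟩,
      Subgroup.mem_inf.mpr ⟨(mem_M11_iff'.mp x.2).2.1, (mem_M11_iff'.mp x.2).2.2⟩⟩,
    fun x => ⟨x.1.1, mem_M11_iff'.mpr ⟨x.1.2, (Subgroup.mem_inf.mp x.2).1,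
      (Subgroup.mem_inf.mp x.2).2⟩⟩, fun _ => rfl, fun _ => rfl⟩

theorem goodT_o11 : GoodT M24 o11Tabs := goodT_std o11Prog M24 stepPerm_mem

theorem exists_a11 : ∃ σ ∈ M24, IsTbl σ o11AT := by
  have h := goodT_o11.getD o11A
  rwa [o11_elts.1] at h

theorem exists_b11 : ∃ σ ∈ M24, IsTbl σ o11BT := by
  have h := goodT_o11.getD o11B
  rwa [o11_elts.2] at h

noncomputable def a11P : Equiv.Perm GolayPt := Classical.choose exists_a11

theorem a11P_mem24 : a11P ∈ M24 := (Classical.choose_spec exists_a11).1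

theorem a11P_tbl : IsTbl a11P o11AT := (Classical.choose_spec exists_a11).2

theorem a11P_mem : a11P ∈ Spor.M11 :=
  mem_M11_of_tbl a11P_mem24 a11P_tbl o11_a.2.2.1 o11_a.2.2.2

noncomputable def b11P : Equiv.Perm GolayPt := Classical.choose exists_b11

theorem b11P_mem24 : b11P ∈ M24 := (Classical.choose_spec exists_b11).1

theorem b11P_tbl : IsTbl b11P o11BT := (Classical.choose_spec exists_b11).2

theorem b11P_mem : b11P ∈ Spor.M11 :=
  mem_M11_of_tbl b11P_mem24 b11P_tbl o11_b.2.2.1 o11_b.2.2.2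

theorem m11P_tbl : IsTbl (stepPerm 2) (stdTabs.getD 2 idT) := isTbl_step 2

theorem m11P_mem : stepPerm 2 ∈ Spor.M11 :=
  mem_M11_of_tbl (stepPerm_mem 2) m11P_tbl o11_m.2.1 o11_m.2.2

theorem closure_ab11 :
    Subgroup.closure ({a11P, b11P} : Set (Equiv.Perm GolayPt)) = Spor.M11 := by
  set H := Subgroup.closure ({a11P, b11P} : Set (Equiv.Perm GolayPt)) with hH
  have hle : H ≤ Spor.M11 := by
    rw [hH, Subgroup.closure_le]
    intro x hx
    rcases hx with rfl | rfl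
    · exact a11P_mem
    · exact b11P_mem
  have ha : a11P ∈ H := Subgroup.subset_closure (by simp)
  have hb : b11P ∈ H := Subgroup.subset_closure (by simp)
  have hgood : GoodT H o11ChainTabs := by
    apply goodT_runSLP
    intro t ht
    simp only [List.mem_cons, List.not_mem_nil, or_false] at ht
    rcases ht with rfl | rfl
    · exact ⟨a11P, ha, a11P_tbl⟩
    · exact ⟨b11P, hb, b11P_tbl⟩
  have h1 := chain_lower hgood o11Levels [] o11_chain
  rw [o11_bound] at h1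
  have hcard : 7920 ≤ Nat.card H := by simpa [fixL] using h1
  exact Subgroup.eq_of_le_of_card_ge hle (by rw [card_M11]; exact hcard)

noncomputable def a11 : ↥Spor.M11 := ⟨a11P, a11P_mem⟩

noncomputable def b11 : ↥Spor.M11 := ⟨b11P, b11P_mem⟩

noncomputable def m11 : ↥Spor.M11 := ⟨stepPerm 2, m11P_mem⟩

theorem closure_ab11G : Subgroup.closure ({a11, b11} : Set ↥Spor.M11) = ⊤ := by
  apply Subgroup.map_injective Spor.M11.subtype_injective
  rw [MonoidHom.map_closure, ← MonoidHom.range_eq_map, Subgroup.range_subtype]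
  have : (Spor.M11.subtype '' ({a11, b11} : Set ↥Spor.M11)) = {a11P, b11P} := by
    rw [Set.image_pair]
    rfl
  rw [this]
  exact closure_ab11

theorem order_a11 : orderOf a11 = 11 := by
  have : Fact (Nat.Prime 11) := ⟨by norm_num⟩
  unfold a11
  rw [Subgroup.orderOf_mk]
  apply orderOf_eq_prime
  · apply (a11P_tbl.pow 11).eq_of_eq
    rw [o11_a.1]
    exact isTbl_one
  · exact ne_one_of_tbl a11P_tbl o11_a.2.1

theorem pow11_a11 : a11 ^ 11 = 1 := by
  rw [← order_a11]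
  exact pow_orderOf_eq_one a11

theorem order_b11 : orderOf b11 = 2 := by
  have : Fact (Nat.Prime 2) := ⟨by norm_num⟩
  unfold b11
  rw [Subgroup.orderOf_mk]
  apply orderOf_eq_prime
  · rw [pow_two]
    apply (b11P_tbl.mul b11P_tbl).eq_of_eq
    rw [o11_b.1]
    exact isTbl_one
  · exact ne_one_of_tbl b11P_tbl o11_b.2.1

theorem conj_m11 : m11 * a11 * m11⁻¹ = a11 ^ 3 := by
  rw [mul_inv_eq_iff_eq_mul]
  apply Subtype.ext
  rw [Subgroup.coe_mul, Subgroup.coe_mul, Subgroup.coe_pow]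
  apply (m11P_tbl.mul a11P_tbl).eq_of_eq
  rw [o11_m.1]
  exact (a11P_tbl.pow 3).mul m11P_tbl

theorem not_dvd_card11 : ¬ 11 ^ 2 ∣ Nat.card ↥Spor.M11 := by
  rw [card_M11]
  decide

theorem hK0_11aux : ∀ k < 11, 0 < k → ∃ j < 5, ∃ k0 ∈ [1, 10], (k * 3 ^ j) % 11 = k0 % 11 := by
  decide

theorem hK0_11 : ∀ k, 0 < k → k < 11 → ∃ j : ℕ, ∃ k0 ∈ [1, 10], (k * 3 ^ j) % 11 = k0 % 11 := by
  intro k h0 h11
  obtain ⟨j, -, h⟩ := hK0_11aux k h11 h0
  exact ⟨j, h⟩

/-- the elements with a table in the list of candidates. -/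
def Cand11 : Set ↥Spor.M11 :=
  {g | ∃ y ∈ candsOf o11Tabs o11H, IsTbl (g : Equiv.Perm GolayPt) y}

theorem hCand11 (β : MulAut ↥Spor.M11) : ∃ i : ℕ, a11 ^ i * β b11 * (a11 ^ i)⁻¹ ∈ Cand11 := by
  have h2 : orderOf (β b11) = 2 := by
    rw [MulEquiv.orderOf_eq]
    exact order_b11
  have hM := mem_M11_iff'.mp (β b11).2
  have h2' : orderOf ((β b11 : ↥Spor.M11) : Equiv.Perm GolayPt) = 2 := by
    rw [Subgroup.orderOf_coe]
    exact h2
  rcases involutions_main.1 _ hM.1 h2' with hO | hfpf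
  swap
  · exact absurd hM.2.2 (hfpf (some 0))
  obtain ⟨m, hm, hm8, hsm⟩ := (mem_octads_iff _).mp hO
  have hb0 : m.testBit 0 = true := by
    have : (some 0 : GolayPt) ∈ suppM m := by
      rw [hsm, Finset.mem_filter]
      exact ⟨Finset.mem_univ _, hM.2.2⟩
    rw [mem_suppM] at this
    exact this
  have hmem : m ∈ o11Idx.map
      (fun p => ((orbsOf o11AT 11 o11Tabs o11H).getD p.1 []).getD p.2 0) := by
    rw [o11_octads, List.mem_filter]
    refine ⟨hm, ?_⟩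
    rw [Bool.and_eq_true, beq_iff_eq]
    exact ⟨hm8, hb0⟩
  obtain ⟨pr, -, hpr⟩ := List.mem_map.mp hmem
  have hm0 : m ≠ 0 := by
    rintro rfl
    exact absurd hm8 (by decide)
  obtain ⟨i, y, hy, hyT⟩ := cand_general a11P_tbl a11P_mem24 goodT_o11 o11H o11_inv 11 _ hM.1 m hm0
    hsm pr hpr
  refine ⟨i, y, hy, ?_⟩
  have hc : ((a11 ^ i * β b11 * (a11 ^ i)⁻¹ : ↥Spor.M11) : Equiv.Perm GolayPt) =
      a11P ^ i * ((β b11 : ↥Spor.M11) : Equiv.Perm GolayPt) * (a11P ^ i)⁻¹ := by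
    rw [Subgroup.coe_mul, Subgroup.coe_mul, Subgroup.coe_inv, Subgroup.coe_pow]
    rfl
  rw [hc]
  exact hyT

theorem hrels11 : ∀ e ∈ o11Rels, evalW e.1 a11 b11 ^ e.2 = 1 :=
  table_relsH (x := a11) (b' := b11) a11P_tbl b11P_tbl o11Rels o11_rels

theorem htest11 : ∀ k0 ∈ [1, 10], ∀ b' ∈ Cand11,
    (∀ e ∈ o11Rels, evalW e.1 (a11 ^ k0) b' ^ e.2 = 1) →
    a11 ^ k0 = a11 ∧ ∃ i : ℕ, b' = a11 ^ i * b11 * (a11 ^ i)⁻¹ := by
  intro k0 hk0 b' hb' hr
  obtain ⟨y, hy, hyT⟩ := hb'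
  have htest := List.all_eq_true.mp o11_test y hy
  rw [Bool.and_eq_true, Bool.or_eq_true, Bool.not_eq_true', Bool.not_eq_true'] at htest
  have hk0' : k0 = 1 ∨ k0 = 10 := by simpa using hk0
  rcases hk0' with rfl | rfl
  · refine ⟨pow_one _, ?_⟩
    rw [pow_one] at hr
    have h1 := rels_tableH (x := a11) a11P_tbl hyT o11Rels hr
    rcases htest.1 with h | h
    · rw [h1] at h
      exact absurd h (by decide)
    · have hmem : y ∈ o11Conj := List.mem_of_elem_eq_true h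
      unfold o11Conj at hmem
      obtain ⟨i, hi, rfl⟩ := List.mem_map.mp hmem
      rw [List.mem_range] at hi
      refine ⟨i, ?_⟩
      have hinv : (a11 ^ i)⁻¹ = a11 ^ (11 - i) := by
        rw [inv_eq_iff_mul_eq_one, ← pow_add, show i + (11 - i) = 11 by omega, pow11_a11]
      rw [hinv]
      apply Subtype.ext
      rw [Subgroup.coe_mul, Subgroup.coe_mul, Subgroup.coe_pow, Subgroup.coe_pow]
      exact hyT.eq_of_eq (((a11P_tbl.pow i).mul b11P_tbl).mul (a11P_tbl.pow (11 - i)))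
  · exfalso
    have hx : IsTbl ((a11 ^ 10 : ↥Spor.M11) : Equiv.Perm GolayPt) (powT o11AT 10) := by
      rw [Subgroup.coe_pow]
      exact a11P_tbl.pow 10
    have h1 := rels_tableH (x := a11 ^ 10) hx hyT o11Rels hr
    rw [htest.2] at h1
    exact absurd h1 (by decide)

theorem out_M11_card : Nat.card (Cfsg.Out ↥Cfsg.Spor.M11) = 1 := by
  have : Fact (Nat.Prime 11) := ⟨by norm_num⟩
  apply card_quot_eq_one
  intro α
  obtain ⟨d, hd⟩ := all_inner_mod 11 a11 b11 m11 3 closure_ab11G order_a11 not_dvd_card11 conj_m11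
    [1, 10] hK0_11 Cand11 hCand11 o11Rels hrels11 htest11 α
  exact ⟨d, hd.symm⟩

end Cfsg.Agent.Helper9.OutM11
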