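import Mathlib
import Cfsg.Prelude
import Cfsg.Agent.S0382
import Cfsg.Agent.S0384
import Cfsg.Agent.Helper9.Golay.Syl2Thm
import Cfsg.Agent.Helper9.Golay.M22Out
import Cfsg.Agent.Helper9.Golay.DodThree
import Cfsg.Agent.Helper9.Golay.Fam
import Cfsg.Agent.Helper9.Out.OutLemma2
import Cfsg.Agent.Helper9.Out.M11Out
import Cfsg.Agent.Helper9.Out.M12Data

set_option autoImplicit false

/-!
The outer automorphism group of the Mathieu group on 12 points has order 2.
-/

namespace Cfsg.Agent.Helper9.OutM12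

open Cfsg Cfsg.Agent.Helper9.Golay Cfsg.Agent.Helper9.OutL Cfsg.Agent.Helper9.OutM24
  Cfsg.Agent.Helper9.OutGen Cfsg.Agent.Helper9.OutM23 Cfsg.Agent.Helper9.OutM11
open scoped Pointwise

theorem mem_M12_iff {x : Equiv.Perm GolayPt} :
    x ∈ Spor.M12 ↔ x ∈ M24 ∧ x • Spor.squareDodecad = Spor.squareDodecad := by
  unfold Spor.M12
  rw [Subgroup.mem_inf]
  constructor
  · rintro ⟨h1, h2⟩
    exact ⟨h1, h2⟩
  · rintro ⟨h1, h2⟩
    exact ⟨h1, h2⟩

theorem mem_M12_of_tbl {σ : Equiv.Perm GolayPt} {t : List ℕ} (hσ : σ ∈ M24) (ht : IsTbl σ t)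
    (hD : pullT t 340831 = 340831) : σ ∈ Spor.M12 :=
  mem_M12_iff.mpr ⟨hσ, stab_of_pullT ht hD⟩

theorem card_M12 : Nat.card ↥Spor.M12 = 95040 := by
  rw [← Cfsg.Agent.S0382.result Spor.squareDodecad sqDod_mem']
  apply Nat.card_congr
  exact ⟨fun x => ⟨⟨x.1, (mem_M12_iff.mp x.2).1⟩, (mem_M12_iff.mp x.2).2⟩,
    fun x => ⟨x.1.1, mem_M12_iff.mpr ⟨x.1.2, x.2⟩⟩, fun _ => rfl, fun _ => rfl⟩

theorem goodT_o12 : GoodT M24 o12Tabs := goodT_std o12Prog M24 stepPerm_mem

theorem exists_a12 : ∃ σ ∈ M24, IsTbl σ o12AT := by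
  have h := goodT_o12.getD o12A
  rwa [o12_elts.1] at h

theorem exists_b12 : ∃ σ ∈ M24, IsTbl σ o12BT := by
  have h := goodT_o12.getD o12B
  rwa [o12_elts.2] at h

noncomputable def a12P : Equiv.Perm GolayPt := Classical.choose exists_a12

theorem a12P_mem24 : a12P ∈ M24 := (Classical.choose_spec exists_a12).1

theorem a12P_tbl : IsTbl a12P o12AT := (Classical.choose_spec exists_a12).2

theorem a12P_mem : a12P ∈ Spor.M12 := mem_M12_of_tbl a12P_mem24 a12P_tbl o12_a.2.2.1

noncomputable def b12P : Equiv.Perm GolayPt := Classical.choose exists_b12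

theorem b12P_mem24 : b12P ∈ M24 := (Classical.choose_spec exists_b12).1

theorem b12P_tbl : IsTbl b12P o12BT := (Classical.choose_spec exists_b12).2

theorem b12P_mem : b12P ∈ Spor.M12 := mem_M12_of_tbl b12P_mem24 b12P_tbl o12_b.2.2

theorem m12P_mem : stepPerm 2 ∈ Spor.M12 :=
  mem_M12_of_tbl (stepPerm_mem 2) m11P_tbl o12_m.2

theorem goodT_chain12 : GoodT Spor.M12 o12ChainTabs := by
  apply goodT_runSLP
  intro t ht
  simp only [List.mem_cons, List.not_mem_nil, or_false] at ht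
  rcases ht with rfl | rfl
  · exact ⟨a12P, a12P_mem, a12P_tbl⟩
  · exact ⟨b12P, b12P_mem, b12P_tbl⟩

theorem closure_ab12 :
    Subgroup.closure ({a12P, b12P} : Set (Equiv.Perm GolayPt)) = Spor.M12 := by
  set H := Subgroup.closure ({a12P, b12P} : Set (Equiv.Perm GolayPt)) with hH
  have hle : H ≤ Spor.M12 := by
    rw [hH, Subgroup.closure_le]
    intro x hx
    rcases hx with rfl | rfl
    · exact a12P_mem
    · exact b12P_mem
  have ha : a12P ∈ H := Subgroup.subset_closure (by simp)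
  have hb : b12P ∈ H := Subgroup.subset_closure (by simp)
  have hgood : GoodT H o12ChainTabs := by
    apply goodT_runSLP
    intro t ht
    simp only [List.mem_cons, List.not_mem_nil, or_false] at ht
    rcases ht with rfl | rfl
    · exact ⟨a12P, ha, a12P_tbl⟩
    · exact ⟨b12P, hb, b12P_tbl⟩
  have h1 := chain_lower hgood (o12Levels2 ++ o12Levels3) [] o12_chain
  rw [o12_bound] at h1
  have hcard : 95040 ≤ Nat.card H := by simpa [fixL] using h1
  exact Subgroup.eq_of_le_of_card_ge hle (by rw [card_M12]; exact hcard)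

noncomputable def a12 : ↥Spor.M12 := ⟨a12P, a12P_mem⟩

noncomputable def b12 : ↥Spor.M12 := ⟨b12P, b12P_mem⟩

noncomputable def m12 : ↥Spor.M12 := ⟨stepPerm 2, m12P_mem⟩

theorem closure_ab12G : Subgroup.closure ({a12, b12} : Set ↥Spor.M12) = ⊤ := by
  apply Subgroup.map_injective Spor.M12.subtype_injective
  rw [MonoidHom.map_closure, ← MonoidHom.range_eq_map, Subgroup.range_subtype]
  have : (Spor.M12.subtype '' ({a12, b12} : Set ↥Spor.M12)) = {a12P, b12P} := by
    rw [Set.image_pair]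
    rfl
  rw [this]
  exact closure_ab12

theorem order_a12 : orderOf a12 = 11 := by
  have : Fact (Nat.Prime 11) := ⟨by norm_num⟩
  unfold a12
  rw [Subgroup.orderOf_mk]
  apply orderOf_eq_prime
  · apply (a12P_tbl.pow 11).eq_of_eq
    rw [o12_a.1]
    exact isTbl_one
  · exact ne_one_of_tbl a12P_tbl o12_a.2.1

theorem pow11_a12 : a12 ^ 11 = 1 := by
  rw [← order_a12]
  exact pow_orderOf_eq_one a12

theorem order_b12 : orderOf b12 = 2 := by
  have : Fact (Nat.Prime 2) := ⟨by norm_num⟩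
  unfold b12
  rw [Subgroup.orderOf_mk]
  apply orderOf_eq_prime
  · rw [pow_two]
    apply (b12P_tbl.mul b12P_tbl).eq_of_eq
    rw [o12_b.1]
    exact isTbl_one
  · exact ne_one_of_tbl b12P_tbl o12_b.2.1

theorem conj_m12 : m12 * a12 * m12⁻¹ = a12 ^ 3 := by
  rw [mul_inv_eq_iff_eq_mul]
  apply Subtype.ext
  rw [Subgroup.coe_mul, Subgroup.coe_mul, Subgroup.coe_pow]
  apply (m11P_tbl.mul a12P_tbl).eq_of_eq
  rw [o12_m.1]
  exact (a12P_tbl.pow 3).mul m11P_tbl

theorem not_dvd_card12 : ¬ 11 ^ 2 ∣ Nat.card ↥Spor.M12 := by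
  rw [card_M12]
  decide

/-! ### the outer automorphism -/

theorem gP_tbl : IsTbl (stepPerm 1) (stdTabs.getD 1 idT) := isTbl_step 1

theorem gP_inv : (stepPerm 1)⁻¹ = stepPerm 1 := by
  rw [inv_eq_iff_mul_eq_one]
  apply (gP_tbl.mul gP_tbl).eq_of_eq
  rw [o12_g.2.2.2]
  exact isTbl_one

theorem compl_mask : (16436384 : ℕ) = fullMask ^^^ 340831 := by decide

theorem sqDod_compl : suppM 16436384 = Spor.squareDodecadᶜ := by
  rw [compl_mask, suppM_fullMask_xor, sqDod_eq']

theorem g_smul_dod : stepPerm 1 • Spor.squareDodecad = Spor.squareDodecadᶜ := by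
  have h := suppM_pullT gP_tbl 16436384
  rw [o12_g.2.2.1, gP_inv, sqDod_compl, ← sqDod_eq'] at h
  -- D = g • Dᶜ
  have h2 := suppM_pullT gP_tbl 340831
  rw [o12_g.2.1, gP_inv, sqDod_compl, ← sqDod_eq'] at h2
  exact h2.symm

theorem g_smul_compl : stepPerm 1 • Spor.squareDodecadᶜ = Spor.squareDodecad := by
  have h := suppM_pullT gP_tbl 16436384
  rw [o12_g.2.2.1, gP_inv, sqDod_compl, ← sqDod_eq'] at h
  exact h.symm

theorem smul_compl_of_smul {x : Equiv.Perm GolayPt} {s : Finset GolayPt} (h : x • s = s) :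
    x • sᶜ = sᶜ := by
  ext p
  rw [← Finset.inv_smul_mem_iff, Finset.mem_compl, Finset.mem_compl, Finset.inv_smul_mem_iff, h]

theorem g_norm12 (x : Equiv.Perm GolayPt) (hx : x ∈ Spor.M12) :
    stepPerm 1 * x * (stepPerm 1)⁻¹ ∈ Spor.M12 := by
  obtain ⟨hxM, hxD⟩ := mem_M12_iff.mp hx
  refine mem_M12_iff.mpr ⟨M24.mul_mem (M24.mul_mem (stepPerm_mem 1) hxM)
    (M24.inv_mem (stepPerm_mem 1)), ?_⟩
  rw [gP_inv, mul_smul, mul_smul, g_smul_dod, smul_compl_of_smul hxD, g_smul_compl]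

/-- conjugation by the element exchanging the dodecad and its complement. -/
noncomputable def tau12 : MulAut ↥Spor.M12 where
  toFun x := ⟨stepPerm 1 * x.1 * (stepPerm 1)⁻¹, g_norm12 x.1 x.2⟩
  invFun x := ⟨(stepPerm 1)⁻¹ * x.1 * stepPerm 1, by
    have := g_norm12 x.1 x.2
    rw [gP_inv] at this ⊢
    exact this⟩
  left_inv x := by
    apply Subtype.ext
    simp only
    group
  right_inv x := by
    apply Subtype.ext
    simp only
    group
  map_mul' x y := by
    apply Subtype.ext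
    simp only [Subgroup.coe_mul]
    group

theorem tau12_apply (x : ↥Spor.M12) :
    ((tau12 x : ↥Spor.M12) : Equiv.Perm GolayPt) = stepPerm 1 * x.1 * (stepPerm 1)⁻¹ := rfl

theorem tau12_a : tau12 a12 = a12 ^ 10 := by
  apply Subtype.ext
  rw [tau12_apply, Subgroup.coe_pow, mul_inv_eq_iff_eq_mul]
  apply (gP_tbl.mul a12P_tbl).eq_of_eq
  rw [o12_g.1]
  exact (a12P_tbl.pow 10).mul gP_tbl

theorem idxPtN_15_ne : idxPtN 15 ≠ none := by decide

theorem fix_a12 (p : GolayPt) (hp : a12P p = p) : p = some 0 ∨ p = none := by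
  have h := a12P_tbl.2 p
  rw [hp] at h
  have hall := List.all_eq_true.mp o12_a.2.2.2.2.2 (ptIdx p) (List.mem_range.mpr (ptIdx_lt p))
  rw [Bool.or_eq_true, Bool.or_eq_true, bne_iff_ne, beq_iff_eq, beq_iff_eq] at hall
  rcases hall with (hne | h0) | h23
  · exact absurd h hne
  · left
    rw [← idxPtN_ptIdx p, h0]
    exact idxPtN_zero
  · right
    rw [← idxPtN_ptIdx p, h23]
    exact idxPtN_23

theorem tau12_not_inner : ¬ ∃ d : ↥Spor.M12, tau12 = MulAut.conj d := by
  rintro ⟨d, hd⟩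
  -- the element `c = d⁻¹ g` commutes with the whole group
  have hcomm : ∀ x ∈ Spor.M12, (d.1⁻¹ * stepPerm 1) * x = x * (d.1⁻¹ * stepPerm 1) := by
    intro x hx
    have := congrArg (fun f : MulAut ↥Spor.M12 => ((f ⟨x, hx⟩ : ↥Spor.M12) : Equiv.Perm GolayPt)) hd
    simp only [tau12_apply, MulAut.conj_apply, Subgroup.coe_mul, Subgroup.coe_inv] at this
    -- g x g⁻¹ = d x d⁻¹
    have e1 : stepPerm 1 * x = d.1 * x * d.1⁻¹ * stepPerm 1 := by
      rw [← this]
      group
    calc d.1⁻¹ * stepPerm 1 * x = d.1⁻¹ * (stepPerm 1 * x) := by group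
      _ = d.1⁻¹ * (d.1 * x * d.1⁻¹ * stepPerm 1) := by rw [e1]
      _ = x * (d.1⁻¹ * stepPerm 1) := by group
  set c := d.1⁻¹ * stepPerm 1 with hc
  -- `c` maps the dodecad to its complement
  have hdD := (mem_M12_iff.mp d.2).2
  have hcD : c • Spor.squareDodecad = Spor.squareDodecadᶜ := by
    rw [hc, mul_smul, g_smul_dod]
    have : d.1⁻¹ • Spor.squareDodecad = Spor.squareDodecad := by
      rw [inv_smul_eq_iff, hdD]
    exact smul_compl_of_smul this
  have hc0 : c (some 0) ∉ Spor.squareDodecad := by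
    have : c (some 0) ∈ c • Spor.squareDodecad := Finset.smul_mem_smul_finset zero_mem_sqDod'
    rw [hcD, Finset.mem_compl] at this
    exact this
  -- `c` commutes with `a`
  have hca := hcomm a12P a12P_mem
  have ha0 : a12P (some 0) = some 0 := fix_zero_of_tbl' a12P_tbl o12_a.2.2.2.1
  have hfix : a12P (c (some 0)) = c (some 0) := by
    have := congrArg (fun f : Equiv.Perm GolayPt => f (some 0)) hca
    simp only [Equiv.Perm.mul_apply, ha0] at this
    exact this.symm
  have hcn : c (some 0) = none := by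
    rcases fix_a12 _ hfix with h | h
    · rw [h] at hc0
      exact absurd zero_mem_sqDod' hc0
    · exact h
  -- an element fixing `0` and moving the extra point
  obtain ⟨x, hxM, hxT⟩ := goodT_chain12.getD o12X
  have hx0 : x (some 0) = some 0 := fix_zero_of_tbl' hxT o12_x.1
  have hxn : x none = idxPtN 15 := by
    have := hxT.apply_idx (i := 23) (by norm_num)
    rw [o12_x.2, idxPtN_23] at this
    exact this
  have := congrArg (fun f : Equiv.Perm GolayPt => f (some 0)) (hcomm x hxM)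
  simp only [Equiv.Perm.mul_apply, hx0, hcn, hxn] at this
  exact idxPtN_15_ne this.symm

theorem hK0_12aux : ∀ k < 11, 0 < k → ∃ j < 5, ∃ k0 ∈ [1, 10], (k * 3 ^ j) % 11 = k0 % 11 := by
  decide

theorem hK0_12 : ∀ k, 0 < k → k < 11 → ∃ j : ℕ, ∃ k0 ∈ [1, 10], (k * 3 ^ j) % 11 = k0 % 11 := by
  intro k h0 h11
  obtain ⟨j, -, h⟩ := hK0_12aux k h11 h0
  exact ⟨j, h⟩

/-! ### the candidates -/

/-- the elements with a table in the lists of candidates. -/
def Cand12 : Set ↥Spor.M12 :=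
  {g | ∃ y ∈ o12CandO ++ o12CandF, IsTbl (g : Equiv.Perm GolayPt) y}

theorem dl_mem : ∀ j < 24, (340831 : ℕ).testBit j = true → j ∈ o12Dl := by decide

theorem dl_bit : ∀ j ∈ o12Dl, j < 24 ∧ (340831 : ℕ).testBit j = true := by decide

theorem pullT_of_stab {σ : Equiv.Perm GolayPt} {t : List ℕ} (ht : IsTbl σ t)
    (h : σ • Spor.squareDodecad = Spor.squareDodecad) : pullT t 340831 = 340831 := by
  apply suppM_inj (pullT_lt _ _) (by norm_num)
  rw [suppM_pullT ht, ← sqDod_eq', inv_smul_eq_iff, h]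

theorem eq_one_of_fix_five' {g : Equiv.Perm GolayPt} (hg : g ∈ M24)
    (hgd : g • Spor.squareDodecad = Spor.squareDodecad) (x : Fin 5 ↪ GolayPt)
    (hx : ∀ i, x i ∈ Spor.squareDodecad) (hfix : ∀ i, g (x i) = x i) : g = 1 := by
  obtain ⟨g0, -, huniq⟩ := Cfsg.Agent.S0384.result Spor.squareDodecad sqDod_mem' x x hx hx
  have h1 := huniq ⟨⟨g, hg⟩, hgd⟩ hfix
  have h2 := huniq 1 (fun i => rfl)
  have h3 : (⟨⟨g, hg⟩, hgd⟩ : MulAction.stabilizer M24 Spor.squareDodecad) = 1 := h1.trans h2.symm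
  exact congrArg
    (fun z : MulAction.stabilizer M24 Spor.squareDodecad => ((z : M24) : Equiv.Perm GolayPt)) h3

theorem M12_maps {g : Equiv.Perm GolayPt} (hg : g ∈ Spor.M12) :
    ∀ i ∈ o12Dl, ∃ j ∈ o12Dl, g (idxPtN i) = idxPtN j := by
  intro i hi
  obtain ⟨hi24, hibit⟩ := dl_bit i hi
  have hD := (mem_M12_iff.mp hg).2
  have hmem : idxPtN i ∈ Spor.squareDodecad := by
    rw [sqDod_eq', mem_suppM, ptIdx_idxPtN hi24]
    exact hibit
  have hgmem : g (idxPtN i) ∈ Spor.squareDodecad := by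
    have : g (idxPtN i) ∈ g • Spor.squareDodecad := Finset.smul_mem_smul_finset hmem
    rwa [hD] at this
  rw [sqDod_eq', mem_suppM] at hgmem
  exact ⟨ptIdx (g (idxPtN i)), dl_mem _ (ptIdx_lt _) hgmem, (idxPtN_ptIdx _).symm⟩

theorem sift12 (u : Equiv.Perm GolayPt) (hu : u ∈ Spor.M12) (h0 : u (some 0) = some 0)
    (h1 : u (idxPtN 1) = idxPtN 1) : ∃ t ∈ allProds o12ChainTabs o12Levels3, IsTbl u t := by
  apply exists_tbl_of_sift goodT_chain12 o12Dl (fun i hi => (dl_bit i hi).1)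
    (fun g hg => M12_maps hg) o12Levels3 [1, 0] (by decide) o12_chain3 o12_cover3 ?_ u ?_
  · intro g hg
    rw [o12_final] at hg
    obtain ⟨hgG, hgfix⟩ := Subgroup.mem_inf.mp hg
    rw [mem_fixL] at hgfix
    obtain ⟨hgM, hgd⟩ := mem_M12_iff.mp hgG
    apply eq_one_of_fix_five' hgM hgd
      (emb5 (idxPtN 0) (idxPtN 1) (idxPtN 2) (idxPtN 3) (idxPtN 4) (by decide))
    · intro i
      fin_cases i <;> (rw [sqDod_eq', mem_suppM]; decide)
    · intro i
      fin_cases i
      · exact hgfix (idxPtN 0) (by simp)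
      · exact hgfix (idxPtN 1) (by simp)
      · exact hgfix (idxPtN 2) (by simp)
      · exact hgfix (idxPtN 3) (by simp)
      · exact hgfix (idxPtN 4) (by simp)
  · refine Subgroup.mem_inf.mpr ⟨hu, ?_⟩
    rw [mem_fixL]
    intro b hb
    simp only [List.map_cons, List.map_nil, List.mem_cons, List.not_mem_nil, or_false] at hb
    rcases hb with rfl | rfl
    · exact h1
    · rw [idxPtN_zero]
      exact h0

theorem pow_fix {σ : Equiv.Perm GolayPt} {p : GolayPt} (h : σ p = p) (i : ℕ) :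
    (σ ^ i) p = p ∧ (σ ^ i)⁻¹ p = p := by
  have h1 : (σ ^ i) p = p := Equiv.Perm.pow_apply_eq_self_of_apply_eq_self h i
  refine ⟨h1, ?_⟩
  rw [Equiv.Perm.inv_eq_iff_eq, h1]

theorem hCand12 (β : MulAut ↥Spor.M12) : ∃ i : ℕ, a12 ^ i * β b12 * (a12 ^ i)⁻¹ ∈ Cand12 := by
  have h2 : orderOf (β b12) = 2 := by
    rw [MulEquiv.orderOf_eq]
    exact order_b12
  have hM := mem_M12_iff.mp (β b12).2
  have h2' : orderOf ((β b12 : ↥Spor.M12) : Equiv.Perm GolayPt) = 2 := by
    rw [Subgroup.orderOf_coe]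
    exact h2
  have hcoe : ∀ i : ℕ, ((a12 ^ i * β b12 * (a12 ^ i)⁻¹ : ↥Spor.M12) : Equiv.Perm GolayPt) =
      a12P ^ i * ((β b12 : ↥Spor.M12) : Equiv.Perm GolayPt) * (a12P ^ i)⁻¹ := by
    intro i
    rw [Subgroup.coe_mul, Subgroup.coe_mul, Subgroup.coe_inv, Subgroup.coe_pow]
    rfl
  rcases involutions_main.1 _ hM.1 h2' with hO | hfpf
  · -- the octad case
    obtain ⟨m, hm, hm8, hsm⟩ := (mem_octads_iff _).mp hO
    have hmem : m ∈ o12Idx.map
        (fun p => ((orbsOf o12AT 11 o12Tabs o12H).getD p.1 []).getD p.2 0) := by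
      rw [o12_octads, List.mem_filter]
      refine ⟨hm, ?_⟩
      rw [beq_iff_eq]
      exact hm8
    obtain ⟨pr, -, hpr⟩ := List.mem_map.mp hmem
    have hm0 : m ≠ 0 := by
      rintro rfl
      exact absurd hm8 (by decide)
    obtain ⟨i, y, hy, hyT⟩ := cand_general a12P_tbl a12P_mem24 goodT_o12 o12H o12_inv 11 _ hM.1 m
      hm0 hsm pr hpr
    refine ⟨i, y, ?_, ?_⟩
    · rw [List.mem_append]
      left
      unfold o12CandO
      rw [List.mem_filter]
      refine ⟨hy, ?_⟩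
      rw [beq_iff_eq]
      apply pullT_of_stab hyT
      rw [← hcoe i]
      exact (mem_M12_iff.mp (a12 ^ i * β b12 * (a12 ^ i)⁻¹ : ↥Spor.M12).2).2
    · rw [hcoe i]
      exact hyT
  · -- the case without fixed points
    set g := ((β b12 : ↥Spor.M12) : Equiv.Perm GolayPt) with hg
    have hgg : g * g = 1 := by
      rw [← pow_two, ← h2']
      exact pow_orderOf_eq_one g
    have hx0 : g (some 0) ∈ Spor.squareDodecad := by
      have : g (some 0) ∈ g • Spor.squareDodecad := Finset.smul_mem_smul_finset zero_mem_sqDod'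
      rwa [hM.2] at this
    have hbit := hx0
    rw [sqDod_eq', mem_suppM] at hbit
    have hj := dl_mem _ (ptIdx_lt _) hbit
    have hj0 : ptIdx (g (some 0)) ≠ 0 := by
      intro h
      apply hfpf (some 0)
      rw [← idxPtN_ptIdx (g (some 0)), h]
      exact idxPtN_zero
    have hall := List.all_eq_true.mp o12_aorb _ hj
    rw [Bool.or_eq_true, beq_iff_eq, List.any_eq_true] at hall
    rcases hall with h | ⟨i, -, hi⟩
    · exact absurd h hj0
    rw [beq_iff_eq] at hi
    have hai : (a12P ^ i) (g (some 0)) = idxPtN 1 := by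
      have := (a12P_tbl.pow i).apply_idx (ptIdx_lt (g (some 0)))
      rw [idxPtN_ptIdx, hi] at this
      exact this
    have ha0 : a12P (some 0) = some 0 := fix_zero_of_tbl' a12P_tbl o12_a.2.2.2.1
    obtain ⟨hp1, hp2⟩ := pow_fix ha0 i
    set g' := a12P ^ i * g * (a12P ^ i)⁻¹ with hg'
    have hg'0 : g' (some 0) = idxPtN 1 := by
      rw [hg', Equiv.Perm.mul_apply, Equiv.Perm.mul_apply, hp2, hai]
    have hg'g' : g' * g' = 1 := by
      rw [hg']
      calc a12P ^ i * g * (a12P ^ i)⁻¹ * (a12P ^ i * g * (a12P ^ i)⁻¹)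
          = a12P ^ i * (g * g) * (a12P ^ i)⁻¹ := by group
        _ = 1 := by rw [hgg]; group
    have hg'1 : g' (idxPtN 1) = some 0 := by
      have := congrArg (fun f : Equiv.Perm GolayPt => f (some 0)) hg'g'
      simp only [Equiv.Perm.mul_apply, hg'0, Equiv.Perm.one_apply] at this
      exact this
    have hg'M : g' ∈ Spor.M12 := by
      rw [hg', ← hcoe i]
      exact (a12 ^ i * β b12 * (a12 ^ i)⁻¹ : ↥Spor.M12).2
    obtain ⟨w, hwM, hwT⟩ := goodT_chain12.getD o12W
    rw [o12_w.1] at hwT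
    have hw0 : w (some 0) = idxPtN 1 := by
      have := hwT.apply_idx (i := 0) (by norm_num)
      rw [o12_w.2.1, idxPtN_zero] at this
      exact this
    have hw1 : w (idxPtN 1) = some 0 := by
      have := hwT.apply_idx (i := 1) (by norm_num)
      rw [o12_w.2.2, idxPtN_zero] at this
      exact this
    have hu0 : (w⁻¹ * g') (some 0) = some 0 := by
      rw [Equiv.Perm.mul_apply, hg'0, Equiv.Perm.inv_eq_iff_eq, hw0]
    have hu1 : (w⁻¹ * g') (idxPtN 1) = idxPtN 1 := by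
      rw [Equiv.Perm.mul_apply, hg'1, Equiv.Perm.inv_eq_iff_eq, hw1]
    obtain ⟨t, ht, htT⟩ := sift12 (w⁻¹ * g') (Spor.M12.mul_mem (Spor.M12.inv_mem hwM) hg'M) hu0 hu1
    refine ⟨i, mulT o12WT t, ?_, ?_⟩
    · rw [List.mem_append]
      right
      unfold o12CandF
      exact List.mem_map.mpr ⟨t, ht, rfl⟩
    · rw [hcoe i]
      have : a12P ^ i * g * (a12P ^ i)⁻¹ = w * (w⁻¹ * g') := by
        rw [hg']
        group
      rw [this]
      exact hwT.mul htT

theorem hrels12 : ∀ e ∈ o12Rels, evalW e.1 a12 b12 ^ e.2 = 1 :=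
  table_relsH (x := a12) (b' := b12) a12P_tbl b12P_tbl o12Rels o12_rels

theorem htest12 : ∀ b' ∈ Cand12, (∀ e ∈ o12Rels, evalW e.1 a12 b' ^ e.2 = 1) →
    ∃ i : ℕ, b' = a12 ^ i * b12 * (a12 ^ i)⁻¹ := by
  intro b' hb' hr
  obtain ⟨y, hy, hyT⟩ := hb'
  have htest : (!relsHoldT o12Rels o12AT y || o12Conj.contains y) = true := by
    rcases List.mem_append.mp hy with h | h
    · exact List.all_eq_true.mp o12_testO y h
    · exact List.all_eq_true.mp o12_testF y h
  rw [Bool.or_eq_true, Bool.not_eq_true'] at htest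
  have h1 := rels_tableH (x := a12) a12P_tbl hyT o12Rels hr
  rcases htest with h | h
  · rw [h1] at h
    exact absurd h (by decide)
  · have hmem : y ∈ o12Conj := List.mem_of_elem_eq_true h
    unfold o12Conj at hmem
    obtain ⟨i, hi, rfl⟩ := List.mem_map.mp hmem
    rw [List.mem_range] at hi
    refine ⟨i, ?_⟩
    have hinv : (a12 ^ i)⁻¹ = a12 ^ (11 - i) := by
      rw [inv_eq_iff_mul_eq_one, ← pow_add, show i + (11 - i) = 11 by omega, pow11_a12]
    rw [hinv]
    apply Subtype.ext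
    rw [Subgroup.coe_mul, Subgroup.coe_mul, Subgroup.coe_pow, Subgroup.coe_pow]
    exact hyT.eq_of_eq (((a12P_tbl.pow i).mul b12P_tbl).mul (a12P_tbl.pow (11 - i)))

theorem out_M12_card : Nat.card (Cfsg.Out ↥Cfsg.Spor.M12) = 2 := by
  have : Fact (Nat.Prime 11) := ⟨by norm_num⟩
  apply card_out_eq_two tau12 tau12_not_inner
  intro α
  exact inner_or_tau 11 a12 b12 m12 3 closure_ab12G order_a12 not_dvd_card12 conj_m12 tau12 10 10
    tau12_a (by norm_num) hK0_12 Cand12 hCand12 o12Rels hrels12 htest12 α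

end Cfsg.Agent.Helper9.OutM12
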