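import Cfsg.Agent.Helper9.Out.L23Data
import Cfsg.Agent.Helper9.Out.M23Out

set_option autoImplicit false

/-!
`PSL(2,23)` is maximal of order 6072 in the group of the length-24 code and `23:11` is maximal of
order 253 in its point stabiliser.
-/

namespace Cfsg.Agent.Helper9.L23

open Cfsg Cfsg.Agent.Helper9.Golay Cfsg.Agent.Helper9.OutM24 Cfsg.Agent.Helper9.OutM23
open Cfsg.Agent.Helper9.OutL

/-! ### The multiplier maps -/

/-- `u ↦ (t ↦ u t)` as a homomorphism into the permutations of the 24 points. -/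
def mulHom : (ZMod 23)ˣ →* Equiv.Perm GolayPt where
  toFun u := Equiv.optionCongr (Units.mulLeft u)
  map_one' := by
    ext p
    cases p <;> simp
  map_mul' u v := by
    ext p
    cases p <;> simp [mul_assoc]

/-- the unit `2`. -/
def two23 : (ZMod 23)ˣ := ⟨2, 12, by decide, by decide⟩

/-- the unit `5`, a square root of `2`. -/
def five23 : (ZMod 23)ˣ := ⟨5, 14, by decide, by decide⟩

theorem two23_sq : IsSquare two23 := ⟨five23, by apply Units.ext; decide⟩

theorem tblOf_two : tblOf ⇑(mulHom two23) = o24NT := by decide +kernel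

theorem mulHom_two : mulHom two23 = nP :=
  IsTbl.eq_of_eq (tblOf_two ▸ isTbl_tblOf (mulHom two23)) nP_tbl

theorem sq_pow_two : ∀ x : ZMod 23, x ≠ 0 → ∃ j < 11, x * x = 2 ^ j := by decide +kernel

instance fact23 : Fact (Nat.Prime 23) := ⟨by norm_num⟩

theorem sq_unit_pow (u : (ZMod 23)ˣ) (hu : IsSquare u) : ∃ j : ℕ, u = two23 ^ j := by
  obtain ⟨r, rfl⟩ := hu
  obtain ⟨j, -, hj⟩ := sq_pow_two (r : ZMod 23) r.ne_zero
  refine ⟨j, ?_⟩
  apply Units.ext
  rw [Units.val_mul, Units.val_pow_eq_pow_val, hj]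
  rfl

/-- the set of multiplier maps by squares, as in the statement. -/
def setU : Set (Equiv.Perm GolayPt) :=
  {g | ∃ u : (ZMod 23)ˣ, IsSquare u ∧ g = Equiv.optionCongr (Units.mulLeft u)}

theorem nP_mem_setU : nP ∈ setU := ⟨two23, two23_sq, mulHom_two.symm⟩

theorem setU_pow {x : Equiv.Perm GolayPt} (hx : x ∈ setU) : ∃ j : ℕ, x = nP ^ j := by
  obtain ⟨u, hu, rfl⟩ := hx
  obtain ⟨j, rfl⟩ := sq_unit_pow u hu
  refine ⟨j, ?_⟩
  have : Equiv.optionCongr (Units.mulLeft (two23 ^ j)) = mulHom (two23 ^ j) := rfl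
  rw [this, map_pow, mulHom_two]

/-- `t ↦ t + 1`. -/
noncomputable abbrev aP : Equiv.Perm GolayPt := stepPerm 0

/-- `t ↦ -1/t`. -/
noncomputable abbrev gP : Equiv.Perm GolayPt := stepPerm 1

/-- the group `23:11`. -/
noncomputable def Bsub : Subgroup (Equiv.Perm GolayPt) := Subgroup.closure {aP, nP}

/-- the group `PSL(2,23)`. -/
noncomputable def Lsub : Subgroup (Equiv.Perm GolayPt) := Subgroup.closure {aP, gP, nP}

theorem aP_eq : Equiv.optionCongr (Equiv.addRight (1 : ZMod 23)) = aP := rfl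

theorem gP_eq : Cfsg.projInv = gP := rfl

theorem aP_mem_B : aP ∈ Bsub := Subgroup.subset_closure (Set.mem_insert _ _)

theorem nP_mem_B : nP ∈ Bsub :=
  Subgroup.subset_closure (Set.mem_insert_of_mem _ (Set.mem_singleton _))

theorem aP_mem_L : aP ∈ Lsub := Subgroup.subset_closure (Set.mem_insert _ _)

theorem gP_mem_L : gP ∈ Lsub :=
  Subgroup.subset_closure (Set.mem_insert_of_mem _ (Set.mem_insert _ _))

theorem nP_mem_L : nP ∈ Lsub :=
  Subgroup.subset_closure (Set.mem_insert_of_mem _ (Set.mem_insert_of_mem _ (Set.mem_singleton _)))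

theorem B_le_L : Bsub ≤ Lsub := by
  unfold Bsub
  rw [Subgroup.closure_le]
  intro x hx
  rcases hx with hx | hx
  · rw [hx]; exact aP_mem_L
  · rw [Set.mem_singleton_iff.mp hx]; exact nP_mem_L

theorem closure_B : Subgroup.closure ({Equiv.optionCongr (Equiv.addRight (1 : ZMod 23))} ∪ setU) =
    Bsub := by
  rw [aP_eq]
  apply le_antisymm
  · rw [Subgroup.closure_le]
    intro x hx
    rcases hx with hx | hx
    · rw [Set.mem_singleton_iff.mp hx]
      exact aP_mem_B
    · obtain ⟨j, rfl⟩ := setU_pow hx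
      exact Bsub.pow_mem nP_mem_B j
  · unfold Bsub
    rw [Subgroup.closure_le]
    intro x hx
    rcases hx with hx | hx
    · rw [hx]
      exact Subgroup.subset_closure (Or.inl (Set.mem_singleton _))
    · rw [Set.mem_singleton_iff.mp hx]
      exact Subgroup.subset_closure (Or.inr nP_mem_setU)

theorem closure_L :
    Subgroup.closure ({Equiv.optionCongr (Equiv.addRight (1 : ZMod 23)), Cfsg.projInv} ∪ setU) =
      Lsub := by
  rw [aP_eq, gP_eq]
  apply le_antisymm
  · rw [Subgroup.closure_le]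
    intro x hx
    rcases hx with hx | hx
    · rcases hx with hx | hx
      · rw [hx]
        exact aP_mem_L
      · rw [Set.mem_singleton_iff.mp hx]
        exact gP_mem_L
    · obtain ⟨j, rfl⟩ := setU_pow hx
      exact Lsub.pow_mem nP_mem_L j
  · unfold Lsub
    rw [Subgroup.closure_le]
    intro x hx
    rcases hx with hx | hx | hx
    · rw [hx]
      exact Subgroup.subset_closure (Or.inl (Set.mem_insert _ _))
    · rw [hx]
      exact Subgroup.subset_closure (Or.inl (Set.mem_insert_of_mem _ (Set.mem_singleton _)))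
    · rw [Set.mem_singleton_iff.mp hx]
      exact Subgroup.subset_closure (Or.inr nP_mem_setU)

/-! ### Relations -/

theorem gP_tbl : IsTbl gP l23GT := isTbl_step 1

theorem aP_tbl' : IsTbl aP o24AT := aP_tbl

theorem order_aP : orderOf aP = 23 := by
  have h := order_aG
  unfold aG at h
  rwa [Subgroup.orderOf_mk] at h

theorem aP_pow23 : aP ^ 23 = 1 := by
  rw [← order_aP]
  exact pow_orderOf_eq_one aP

theorem hnan : nP * aP * nP⁻¹ = aP ^ 2 := by
  have h := congrArg (fun x : ↥M24 => (x : Equiv.Perm GolayPt)) conj_nG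
  simpa [nG, aG] using h

theorem nP_pow11 : nP ^ 11 = 1 := by
  apply (nP_tbl.pow 11).eq_of_eq
  rw [l23_n11]
  exact isTbl_one

instance fact11 : Fact (Nat.Prime 11) := ⟨by norm_num⟩

theorem o24NT_ne : o24NT ≠ idT := by decide +kernel

theorem order_nP : orderOf nP = 11 :=
  orderOf_eq_prime nP_pow11 (ne_one_of_tbl nP_tbl o24NT_ne)

theorem gP_sq : gP * gP = 1 := by
  apply (gP_tbl.mul gP_tbl).eq_of_eq
  rw [l23_gg]
  exact isTbl_one

theorem gP_inv : gP⁻¹ = gP := inv_eq_of_mul_eq_one_left gP_sq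

theorem gng : gP * nP * gP = nP ^ 10 := by
  apply ((gP_tbl.mul nP_tbl).mul gP_tbl).eq_of_eq
  rw [l23_gng]
  exact nP_tbl.pow 10

theorem gng_pow (j : ℕ) : gP * nP ^ j * gP = nP ^ (10 * j) := by
  induction j with
  | zero => simp [gP_sq]
  | succ j ih =>
    have : gP * nP ^ (j + 1) * gP = (gP * nP ^ j * gP) * (gP * nP * gP) := by
      rw [pow_succ]
      have h := gP_sq
      calc gP * (nP ^ j * nP) * gP = gP * nP ^ j * (1 * nP) * gP := by group
        _ = gP * nP ^ j * (gP * gP * nP) * gP := by rw [h]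
        _ = gP * nP ^ j * gP * (gP * nP * gP) := by group
    rw [this, ih, gng, ← pow_add]
    congr 1

theorem bruhat (i : ℕ) (hi : i < 22) :
    gP * aP ^ (i + 1) * gP = aP ^ (l23Br.getD i (0, 0, 0)).1 * nP ^ (l23Br.getD i (0, 0, 0)).2.1 *
      gP * aP ^ (l23Br.getD i (0, 0, 0)).2.2 := by
  have h := List.all_eq_true.mp l23_br_ok i (List.mem_range.mpr hi)
  have h2 := eq_of_beq h
  apply ((gP_tbl.mul (aP_tbl.pow (i + 1))).mul gP_tbl).eq_of_eq
  rw [h2]
  exact (((aP_tbl.pow _).mul (nP_tbl.pow _)).mul gP_tbl).mul (aP_tbl.pow _)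

/-- moving a power of `n` past a power of `a`. -/
theorem swap_na (j k : ℕ) : nP ^ j * aP ^ k = aP ^ (k * 2 ^ j) * nP ^ j := by
  have h := conj_pow_pow nP aP 2 hnan k j
  rw [mul_inv_eq_iff_eq_mul] at h
  exact h

theorem aP_pow_inv (i : ℕ) : (aP ^ i)⁻¹ = aP ^ (22 * i) := by
  apply inv_eq_of_mul_eq_one_right
  rw [← pow_add, show i + 22 * i = 23 * i by ring, pow_mul, aP_pow23, one_pow]

theorem nP_pow_inv (j : ℕ) : (nP ^ j)⁻¹ = nP ^ (10 * j) := by
  apply inv_eq_of_mul_eq_one_right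
  rw [← pow_add, show j + 10 * j = 11 * j by ring, pow_mul, nP_pow11, one_pow]

/-! ### The group `23:11` -/

theorem B_form {x : Equiv.Perm GolayPt} (hx : x ∈ Bsub) : ∃ i j : ℕ, x = aP ^ i * nP ^ j := by
  unfold Bsub at hx
  induction hx using Subgroup.closure_induction with
  | mem x hx =>
    rcases hx with hx | hx
    · exact ⟨1, 0, by rw [hx]; simp⟩
    · exact ⟨0, 1, by rw [Set.mem_singleton_iff.mp hx]; simp⟩
  | one => exact ⟨0, 0, by simp⟩
  | mul x y _ _ hx hy =>
    obtain ⟨i, j, rfl⟩ := hx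
    obtain ⟨k, l, rfl⟩ := hy
    refine ⟨i + k * 2 ^ j, j + l, ?_⟩
    calc aP ^ i * nP ^ j * (aP ^ k * nP ^ l) = aP ^ i * (nP ^ j * aP ^ k) * nP ^ l := by group
      _ = aP ^ i * (aP ^ (k * 2 ^ j) * nP ^ j) * nP ^ l := by rw [swap_na]
      _ = aP ^ (i + k * 2 ^ j) * nP ^ (j + l) := by rw [pow_add, pow_add]; group
  | inv x _ hx =>
    obtain ⟨i, j, rfl⟩ := hx
    refine ⟨22 * i * 2 ^ (10 * j), 10 * j, ?_⟩
    rw [mul_inv_rev, aP_pow_inv, nP_pow_inv, swap_na]

theorem B_form_mem (i j : ℕ) : aP ^ i * nP ^ j ∈ Bsub :=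
  Bsub.mul_mem (Bsub.pow_mem aP_mem_B i) (Bsub.pow_mem nP_mem_B j)

theorem card_B : Nat.card ↥Bsub = 253 := by
  have hle : Nat.card ↥Bsub ≤ 253 := by
    let f : Fin 23 × Fin 11 → ↥Bsub := fun p => ⟨aP ^ p.1.val * nP ^ p.2.val, B_form_mem _ _⟩
    have hf : Function.Surjective f := by
      intro x
      obtain ⟨i, j, hx⟩ := B_form x.2
      refine ⟨(⟨i % 23, Nat.mod_lt _ (by norm_num)⟩, ⟨j % 11, Nat.mod_lt _ (by norm_num)⟩), ?_⟩
      apply Subtype.ext
      simp only [f]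
      rw [hx, ← pow_eq_pow_mod i aP_pow23, ← pow_eq_pow_mod j nP_pow11]
    have := Nat.card_le_card_of_surjective f hf
    simpa using this
  have h23 : 23 ∣ Nat.card ↥Bsub := by
    have := orderOf_dvd_natCard (⟨aP, aP_mem_B⟩ : ↥Bsub)
    rwa [Subgroup.orderOf_mk, order_aP] at this
  have h11 : 11 ∣ Nat.card ↥Bsub := by
    have := orderOf_dvd_natCard (⟨nP, nP_mem_B⟩ : ↥Bsub)
    rwa [Subgroup.orderOf_mk, order_nP] at this
  have h253 : 23 * 11 ∣ Nat.card ↥Bsub :=
    Nat.Coprime.mul_dvd_of_dvd_of_dvd (by norm_num) h23 h11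
  exact le_antisymm hle (Nat.le_of_dvd Nat.card_pos h253)

/-! ### The double coset decomposition of `PSL(2,23)` -/

/-- the union of the two double cosets. -/
def InS (x : Equiv.Perm GolayPt) : Prop :=
  x ∈ Bsub ∨ ∃ b1 ∈ Bsub, ∃ b2 ∈ Bsub, x = b1 * gP * b2

theorem InS_mul_B {b y : Equiv.Perm GolayPt} (hb : b ∈ Bsub) (hy : InS y) : InS (b * y) := by
  rcases hy with hy | ⟨b1, h1, b2, h2, rfl⟩
  · exact Or.inl (Bsub.mul_mem hb hy)
  · exact Or.inr ⟨b * b1, Bsub.mul_mem hb h1, b2, h2, by group⟩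

theorem gP_mul_gP_mul (x : Equiv.Perm GolayPt) : gP * (gP * x) = x := by
  rw [← mul_assoc, gP_sq, one_mul]

theorem InS_mul_g {y : Equiv.Perm GolayPt} (hy : InS y) : InS (gP * y) := by
  rcases hy with hy | ⟨b1, h1, b2, h2, rfl⟩
  · exact Or.inr ⟨1, Bsub.one_mem, y, hy, by group⟩
  · obtain ⟨i, j, rfl⟩ := B_form h1
    have hi : aP ^ i = aP ^ (i % 23) := pow_eq_pow_mod i aP_pow23
    rw [hi]
    rcases Nat.eq_zero_or_pos (i % 23) with h0 | hpos
    · rw [h0, pow_zero, one_mul]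
      left
      have : gP * (nP ^ j * gP * b2) = (gP * nP ^ j * gP) * b2 := by group
      rw [this, gng_pow]
      exact Bsub.mul_mem (Bsub.pow_mem nP_mem_B _) h2
    · right
      have hlt : i % 23 - 1 < 22 := by
        have := Nat.mod_lt i (show 23 > 0 by norm_num)
        omega
      have hbr := bruhat (i % 23 - 1) hlt
      rw [show i % 23 - 1 + 1 = i % 23 by omega] at hbr
      refine ⟨aP ^ (l23Br.getD (i % 23 - 1) (0, 0, 0)).1 * nP ^ (l23Br.getD (i % 23 - 1) (0, 0, 0)).2.1,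
        B_form_mem _ _, aP ^ (l23Br.getD (i % 23 - 1) (0, 0, 0)).2.2 * (nP ^ (10 * j) * b2),
        Bsub.mul_mem (Bsub.pow_mem aP_mem_B _) (Bsub.mul_mem (Bsub.pow_mem nP_mem_B _) h2), ?_⟩
      calc gP * (aP ^ (i % 23) * nP ^ j * gP * b2)
          = gP * aP ^ (i % 23) * 1 * nP ^ j * gP * b2 := by group
        _ = gP * aP ^ (i % 23) * (gP * gP) * nP ^ j * gP * b2 := by rw [gP_sq]
        _ = (gP * aP ^ (i % 23) * gP) * ((gP * nP ^ j * gP) * b2) := by group
        _ = _ := by rw [hbr, gng_pow]; group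

theorem L_form {x : Equiv.Perm GolayPt} (hx : x ∈ Lsub) : InS x := by
  unfold Lsub at hx
  induction hx using Subgroup.closure_induction_left with
  | one => exact Or.inl Bsub.one_mem
  | mul_left x hx y _ ih =>
    rcases hx with hx | hx | hx
    · rw [hx]; exact InS_mul_B aP_mem_B ih
    · rw [hx]; exact InS_mul_g ih
    · rw [Set.mem_singleton_iff.mp hx]; exact InS_mul_B nP_mem_B ih
  | inv_mul_cancel x hx y _ ih =>
    rcases hx with hx | hx | hx
    · rw [hx]; exact InS_mul_B (Bsub.inv_mem aP_mem_B) ih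
    · rw [hx, gP_inv]; exact InS_mul_g ih
    · rw [Set.mem_singleton_iff.mp hx]; exact InS_mul_B (Bsub.inv_mem nP_mem_B) ih

/-! ### Point stabilisers -/

theorem aP_none : aP none = none := rfl

theorem nP_none : nP none = none := fix_none_of_tbl nP_tbl o23_fix.2

theorem gP_none : gP none = some 0 := by
  have h := gP_tbl.apply_idx (i := 23) (by norm_num)
  rw [idxPtN_23] at h
  rw [h]
  decide +kernel

theorem B_le_stab : Bsub ≤ MulAction.stabilizer (Equiv.Perm GolayPt) (none : GolayPt) := by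
  unfold Bsub
  rw [Subgroup.closure_le]
  intro x hx
  rcases hx with hx | hx
  · rw [hx]; exact aP_none
  · rw [Set.mem_singleton_iff.mp hx]; exact nP_none

theorem B_fix {b : Equiv.Perm GolayPt} (hb : b ∈ Bsub) : b none = none := B_le_stab hb

theorem L_inf_stab : Lsub ⊓ MulAction.stabilizer (Equiv.Perm GolayPt) (none : GolayPt) = Bsub := by
  apply le_antisymm
  · intro x hx
    obtain ⟨hxL, hxs⟩ := Subgroup.mem_inf.mp hx
    rcases L_form hxL with h | ⟨b1, h1, b2, h2, rfl⟩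
    · exact h
    · exfalso
      have hfix : (b1 * gP * b2) none = none := hxs
      rw [Equiv.Perm.mul_apply, Equiv.Perm.mul_apply, B_fix h2, gP_none] at hfix
      have h3 : b1 (some 0) = b1 none := by rw [hfix, B_fix h1]
      exact absurd (b1.injective h3) (by simp)
  · exact le_inf B_le_L B_le_stab

/-! ### Orders -/

theorem L_le_M24 : Lsub ≤ M24 := by
  unfold Lsub
  rw [Subgroup.closure_le]
  intro x hx
  rcases hx with hx | hx | hx
  · rw [hx]; exact stepPerm_mem 0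
  · rw [hx]; exact stepPerm_mem 1
  · rw [Set.mem_singleton_iff.mp hx]; exact nP_mem

theorem B_le_M23 : Bsub ≤ Spor.M23 := by
  unfold Bsub
  rw [Subgroup.closure_le]
  intro x hx
  rcases hx with hx | hx
  · rw [hx]; exact aP_mem23
  · rw [Set.mem_singleton_iff.mp hx]; exact nP_mem23

theorem aP_some (x : ZMod 23) : aP (some x) = some (x + 1) := rfl

theorem aP_pow_some (t : ℕ) (x : ZMod 23) : (aP ^ t) (some x) = some (x + t) := by
  induction t with
  | zero => simp
  | succ t ih =>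
    rw [pow_succ', Equiv.Perm.mul_apply, ih, aP_some]
    congr 1
    push_cast
    ring

theorem card_golayPt : Nat.card GolayPt = 24 := by
  rw [Nat.card_eq_fintype_card]
  decide

/-- a subgroup containing `PSL(2,23)` is transitive, so its order is 24 times that of its point
stabiliser. -/
theorem card_of_trans (K : Subgroup (Equiv.Perm GolayPt)) (hK : Lsub ≤ K) :
    Nat.card ↥K =
      24 * Nat.card ↥(K ⊓ MulAction.stabilizer (Equiv.Perm GolayPt) (none : GolayPt)) := by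
  rw [card_eq_orbit_mul K (none : GolayPt)]
  congr 1
  have : MulAction.orbit ↥K (none : GolayPt) = Set.univ := by
    apply Set.eq_univ_of_forall
    intro p
    rw [MulAction.mem_orbit_iff]
    cases p with
    | none => exact ⟨1, one_smul _ _⟩
    | some x =>
      refine ⟨⟨aP ^ x.val * gP, K.mul_mem (K.pow_mem (hK aP_mem_L) _) (hK gP_mem_L)⟩, ?_⟩
      show (aP ^ x.val * gP) none = some x
      rw [Equiv.Perm.mul_apply, gP_none, aP_pow_some, zero_add, ZMod.natCast_zmod_val]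
  rw [this, Set.ncard_univ, card_golayPt]

theorem card_L : Nat.card ↥Lsub = 6072 := by
  rw [card_of_trans Lsub le_rfl, L_inf_stab, card_B]

/-! ### The centraliser of `a` in the point stabiliser -/

theorem cent_aP {c : Equiv.Perm GolayPt} (hc : c * aP = aP * c) (hfix : c none = none) :
    ∃ k : ℕ, c = aP ^ k := by
  have hcomm : ∀ m : ℕ, c * aP ^ m = aP ^ m * c := fun m => (Commute.pow_right hc m).eq
  cases h0 : c (some 0) with
  | none =>
    exfalso
    have : c (some 0) = c none := by rw [h0, hfix]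
    exact absurd (c.injective this) (by simp)
  | some k0 =>
    refine ⟨k0.val, ?_⟩
    ext p
    cases p with
    | none =>
      rw [hfix, B_fix (Bsub.pow_mem aP_mem_B _)]
    | some t =>
      have h1 : (some t : GolayPt) = (aP ^ t.val) (some 0) := by
        rw [aP_pow_some, zero_add, ZMod.natCast_zmod_val]
      have h2 : c ((aP ^ t.val) (some 0)) = (aP ^ t.val) (c (some 0)) := by
        have := congrArg (fun f : Equiv.Perm GolayPt => f (some 0)) (hcomm t.val)
        simpa using this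
      rw [h1, h2, h0, aP_pow_some, aP_pow_some, aP_pow_some]
      simp only [ZMod.natCast_zmod_val, zero_add]
      rw [add_comm]

/-! ### Maximality of `23:11`: the case of even order -/

theorem l23_good_of_mem {y : List ℕ} (hy : y ∈ o23Cands) (hne : y ≠ idT) :
    ∃ c : List ℕ × List (ℕ × ℕ) × ℕ, c.1 = y ∧
      (runSLP c.2.1 [o24AT, o24NT, c.1]).getD c.2.2 idT = o23BT := by
  have h := List.all_eq_true.mp l23_cover y hy
  rw [Bool.or_eq_true] at h
  rcases h with h | h
  · exact absurd (eq_of_beq h) hne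
  · rw [List.contains_iff_mem] at h
    unfold l23Ys at h
    obtain ⟨c, hc, rfl⟩ := List.mem_map.mp h
    obtain ⟨l, hl, hcl⟩ := List.mem_flatten.mp hc
    have hg := List.all_eq_true.mp (l23_ok_all l hl) c hcl
    exact ⟨c, rfl, eq_of_beq hg⟩

theorem even_case (Y : Subgroup (Equiv.Perm GolayPt)) (hBY : Bsub ≤ Y) (hY : Y ≤ Spor.M23)
    (t : Equiv.Perm GolayPt) (htY : t ∈ Y) (ht : orderOf t = 2) : Spor.M23 ≤ Y := by
  have htM := mem_M23_iff.mp (hY htY)
  have hinv : (⟨t, htM.1⟩ : ↥M24) ∈ InvFix := by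
    refine ⟨?_, none, htM.2⟩
    rw [Subgroup.orderOf_mk]
    exact ht
  obtain ⟨i, y, hy, htbl⟩ := cand_table _ hinv
  have hco : ((aG ^ i * (⟨t, htM.1⟩ : ↥M24) * (aG ^ i)⁻¹ : ↥M24) : Equiv.Perm GolayPt) =
      aP ^ i * t * (aP ^ i)⁻¹ := by
    simp [aG]
  rw [hco] at htbl
  have haY : aP ∈ Y := hBY aP_mem_B
  have ht'Y : aP ^ i * t * (aP ^ i)⁻¹ ∈ Y :=
    Y.mul_mem (Y.mul_mem (Y.pow_mem haY i) htY) (Y.inv_mem (Y.pow_mem haY i))
  have hfix := (mem_M23_iff.mp (hY ht'Y)).2
  have h23 : y.getD 23 0 = 23 := tbl_of_fix_none htbl hfix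
  have hy23 : y ∈ o23Cands := by
    unfold o23Cands
    rw [List.mem_filter]
    exact ⟨hy, by rw [h23]; rfl⟩
  have hne : y ≠ idT := by
    rintro rfl
    have h1 : aP ^ i * t * (aP ^ i)⁻¹ = 1 := htbl.eq_of_eq isTbl_one
    have h2 : t = 1 := by
      have : t = (aP ^ i)⁻¹ * (aP ^ i * t * (aP ^ i)⁻¹) * aP ^ i := by group
      rw [this, h1]
      group
    rw [h2, orderOf_one] at ht
    exact absurd ht (by decide)
  obtain ⟨c, hc1, hc2⟩ := l23_good_of_mem hy23 hne
  have hgood : GoodT Y [o24AT, o24NT, c.1] := by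
    intro s hs
    simp only [List.mem_cons, List.not_mem_nil, or_false] at hs
    rcases hs with rfl | rfl | rfl
    · exact ⟨aP, haY, aP_tbl⟩
    · exact ⟨nP, hBY nP_mem_B, nP_tbl⟩
    · exact ⟨_, ht'Y, hc1 ▸ htbl⟩
  obtain ⟨σ, hσY, hσ⟩ := (goodT_runSLP Y c.2.1 _ hgood).getD c.2.2
  rw [hc2] at hσ
  have hb : σ = b23P := hσ.eq_of_eq b23P_tbl
  rw [← closure_ab23, Subgroup.closure_le]
  intro x hx
  rcases hx with hx | hx
  · rw [hx]; exact haY
  · rw [Set.mem_singleton_iff.mp hx, ← hb]; exact hσY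

/-! ### Maximality of `23:11`: the case of odd order -/

theorem pow11_pm : ∀ M : ZMod 23, M ≠ 0 → M ^ 11 = 1 ∨ M ^ 11 = -1 := by decide +kernel

theorem pow11_one : ∀ M : ZMod 23, M ^ 11 = 1 → ∃ j < 11, M = 2 ^ j := by decide +kernel

theorem one_ne_neg : (1 : ZMod 23) ≠ -1 := by decide

theorem div315 : ∀ d ∈ Nat.divisors 315, d % 23 = 1 → d = 1 := by decide

theorem conj_nP_pow (j : ℕ) : nP ^ j * aP * (nP ^ j)⁻¹ = aP ^ (2 ^ j) := by
  have h6 := conj_pow_pow nP aP 2 hnan 1 j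
  rwa [pow_one, one_mul] at h6

/-- an element of odd order normalising `⟨a⟩` and fixing the extra point lies in `23:11`. -/
theorem odd_normalizer {y : Equiv.Perm GolayPt} (hfix : y none = none) (hodd : Odd (orderOf y))
    (m : ℕ) (hm : y * aP * y⁻¹ = aP ^ m) : y ∈ Bsub := by
  have hyd : y ^ orderOf y = 1 := pow_orderOf_eq_one y
  have h1 := conj_pow_pow y aP m hm 1 (orderOf y)
  rw [hyd, one_mul, inv_one, mul_one, one_mul] at h1
  have h2 : 1 ≡ m ^ orderOf y [MOD 23] := by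
    have := pow_eq_pow_iff_modEq.mp h1
    rwa [order_aP] at this
  have h3 : (m : ZMod 23) ^ orderOf y = 1 := by
    have := (ZMod.natCast_eq_natCast_iff 1 (m ^ orderOf y) 23).mpr h2
    push_cast at this
    exact this.symm
  have hM0 : (m : ZMod 23) ≠ 0 := by
    intro h0
    rw [h0, zero_pow hodd.pos.ne'] at h3
    exact zero_ne_one h3
  rcases pow11_pm _ hM0 with h11 | h11
  swap
  · exfalso
    have : ((m : ZMod 23) ^ orderOf y) ^ 11 = ((m : ZMod 23) ^ 11) ^ orderOf y := by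
      rw [← pow_mul, ← pow_mul, mul_comm]
    rw [h3, one_pow, h11, hodd.neg_one_pow] at this
    exact one_ne_neg this
  obtain ⟨j, -, hj⟩ := pow11_one _ h11
  have h4 : m ≡ 2 ^ j [MOD 23] := by
    apply (ZMod.natCast_eq_natCast_iff m (2 ^ j) 23).mp
    push_cast
    exact hj
  have h5 : aP ^ m = aP ^ (2 ^ j) := by
    rw [pow_eq_pow_iff_modEq, order_aP]
    exact h4
  have h6 := conj_nP_pow j
  have hc : ((nP ^ j)⁻¹ * y) * aP = aP * ((nP ^ j)⁻¹ * y) := by
    have e1 : y * aP = aP ^ m * y := by rw [← hm]; group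
    have e3 : (nP ^ j)⁻¹ * aP ^ (2 ^ j) = aP * (nP ^ j)⁻¹ := by
      rw [← h6]; group
    calc (nP ^ j)⁻¹ * y * aP = (nP ^ j)⁻¹ * (y * aP) := by group
      _ = (nP ^ j)⁻¹ * (aP ^ m * y) := by rw [e1]
      _ = ((nP ^ j)⁻¹ * aP ^ (2 ^ j)) * y := by rw [h5]; group
      _ = aP * ((nP ^ j)⁻¹ * y) := by rw [e3]; group
  have hcfix : ((nP ^ j)⁻¹ * y) none = none := by
    rw [Equiv.Perm.mul_apply, hfix]
    exact B_fix (Bsub.inv_mem (Bsub.pow_mem nP_mem_B j))
  obtain ⟨k, hk⟩ := cent_aP hc hcfix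
  have : y = nP ^ j * aP ^ k := by rw [← hk]; group
  rw [this]
  exact Bsub.mul_mem (Bsub.pow_mem nP_mem_B j) (Bsub.pow_mem aP_mem_B k)

theorem B_normalizes {x : Equiv.Perm GolayPt} (hx : x ∈ Bsub) {h : Equiv.Perm GolayPt}
    (hh : h ∈ Subgroup.zpowers aP) : x * h * x⁻¹ ∈ Subgroup.zpowers aP := by
  obtain ⟨z, rfl⟩ := Subgroup.mem_zpowers_iff.mp hh
  obtain ⟨i, j, rfl⟩ := B_form hx
  have h1 : aP ^ i * nP ^ j * aP * (aP ^ i * nP ^ j)⁻¹ = aP ^ (2 ^ j) := by
    calc aP ^ i * nP ^ j * aP * (aP ^ i * nP ^ j)⁻¹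
        = aP ^ i * (nP ^ j * aP * (nP ^ j)⁻¹) * (aP ^ i)⁻¹ := by group
      _ = aP ^ i * aP ^ (2 ^ j) * (aP ^ i)⁻¹ := by rw [conj_nP_pow]
      _ = aP ^ (2 ^ j) := by rw [← pow_add, add_comm, pow_add]; group
  have h2 : aP ^ i * nP ^ j * aP ^ z * (aP ^ i * nP ^ j)⁻¹ = (aP ^ (2 ^ j)) ^ z := by
    rw [← h1, conj_zpow]
  rw [h2]
  exact Subgroup.zpow_mem _ (Subgroup.pow_mem _ (Subgroup.mem_zpowers aP) _) z

theorem odd_case (Y : Subgroup (Equiv.Perm GolayPt)) (hBY : Bsub ≤ Y) (hY : Y ≤ Spor.M23)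
    (hodd : Odd (Nat.card ↥Y)) : Y ≤ Bsub := by
  have hPPY : Subgroup.zpowers aP ≤ Y := Subgroup.zpowers_le.mpr (hBY aP_mem_B)
  have hcardP : Nat.card ↥((Subgroup.zpowers aP).subgroupOf Y) = 23 := by
    rw [Nat.card_congr (Subgroup.subgroupOfEquivOfLe hPPY).toEquiv, Nat.card_zpowers, order_aP]
  have hPp : IsPGroup 23 ↥((Subgroup.zpowers aP).subgroupOf Y) :=
    IsPGroup.of_card (n := 1) (by rw [hcardP, pow_one])
  obtain ⟨Q, hPQ⟩ := hPp.exists_le_sylow
  have hcardY : Nat.card ↥Y ∣ 10200960 := by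
    rw [← card_M23]; exact Subgroup.card_dvd_of_le hY
  have hQP : (Q : Subgroup ↥Y) = (Subgroup.zpowers aP).subgroupOf Y := by
    symm
    apply Subgroup.eq_of_le_of_card_ge hPQ
    obtain ⟨k, hk⟩ := Q.isPGroup'.exists_card_eq
    rw [hcardP, hk]
    have hdvd : 23 ^ k ∣ 10200960 := by
      rw [← hk]; exact (Subgroup.card_subgroup_dvd_card _).trans hcardY
    have hk1 : k ≤ 1 := by
      by_contra hk2
      have hk2' : 2 ≤ k := by omega
      have : 23 ^ 2 ∣ 10200960 := (pow_dvd_pow 23 hk2').trans hdvd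
      exact absurd this (by decide)
    calc 23 ^ k ≤ 23 ^ 1 := Nat.pow_le_pow_right (by norm_num) hk1
      _ = 23 := by norm_num
  have hnorm : Bsub.subgroupOf Y ≤ Subgroup.normalizer ((Q : Subgroup ↥Y) : Set ↥Y) := by
    rw [hQP]
    intro b hb
    rw [Subgroup.mem_subgroupOf] at hb
    rw [Subgroup.mem_normalizer_iff]
    intro h
    constructor
    · intro hh
      rw [Subgroup.mem_subgroupOf] at hh ⊢
      simp only [Subgroup.coe_mul, Subgroup.coe_inv]
      exact B_normalizes hb hh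
    · intro hh
      rw [Subgroup.mem_subgroupOf] at hh ⊢
      simp only [Subgroup.coe_mul, Subgroup.coe_inv] at hh
      have h1 := B_normalizes (Bsub.inv_mem hb) hh
      have e : (b : Equiv.Perm GolayPt)⁻¹ * ((b : Equiv.Perm GolayPt) * h *
          (b : Equiv.Perm GolayPt)⁻¹) * ((b : Equiv.Perm GolayPt)⁻¹)⁻¹ = h := by group
      rwa [e] at h1
  have hn1 : Nat.card (Sylow 23 ↥Y) ≡ 1 [MOD 23] := card_sylow_modEq_one 23 ↥Y
  have hn2 : Nat.card (Sylow 23 ↥Y) =
      (Subgroup.normalizer ((Q : Subgroup ↥Y) : Set ↥Y)).index := Sylow.card_eq_index_normalizer Q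
  have hn3 : (Subgroup.normalizer ((Q : Subgroup ↥Y) : Set ↥Y)).index ∣
      (Bsub.subgroupOf Y).index := Subgroup.index_dvd_of_le hnorm
  have hcardBY : Nat.card ↥(Bsub.subgroupOf Y) = 253 := by
    rw [Nat.card_congr (Subgroup.subgroupOfEquivOfLe hBY).toEquiv, card_B]
  have hidx : 253 * (Bsub.subgroupOf Y).index = Nat.card ↥Y := by
    rw [← hcardBY]; exact Subgroup.card_mul_index _
  have hk315 : (Bsub.subgroupOf Y).index ∣ 315 := by
    have h1 : 253 * (Bsub.subgroupOf Y).index ∣ 253 * 40320 := by rw [hidx]; exact hcardY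
    have h2 : (Bsub.subgroupOf Y).index ∣ 40320 := Nat.dvd_of_mul_dvd_mul_left (by norm_num) h1
    have hkodd : Odd (Bsub.subgroupOf Y).index := by
      have : Odd (253 * (Bsub.subgroupOf Y).index) := by rw [hidx]; exact hodd
      exact (Nat.odd_mul.mp this).2
    have hcop : Nat.Coprime (Bsub.subgroupOf Y).index (2 ^ 7) :=
      Nat.Coprime.pow_right 7 (Nat.coprime_two_right.mpr hkodd)
    exact hcop.dvd_of_dvd_mul_left (by norm_num; exact h2)
  have hn23 : Nat.card (Sylow 23 ↥Y) = 1 := by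
    have hd : Nat.card (Sylow 23 ↥Y) ∣ 315 := by rw [hn2]; exact hn3.trans hk315
    exact div315 _ (Nat.mem_divisors.mpr ⟨hd, by norm_num⟩) hn1
  have htop : Subgroup.normalizer ((Q : Subgroup ↥Y) : Set ↥Y) = ⊤ := by
    rw [← Subgroup.index_eq_one, ← hn2, hn23]
  intro y hyY
  have hyN : (⟨y, hyY⟩ : ↥Y) ∈ Subgroup.normalizer ((Q : Subgroup ↥Y) : Set ↥Y) := by
    rw [htop]; trivial
  rw [hQP, Subgroup.mem_normalizer_iff] at hyN
  have haP : (⟨aP, hBY aP_mem_B⟩ : ↥Y) ∈ (Subgroup.zpowers aP).subgroupOf Y := by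
    rw [Subgroup.mem_subgroupOf]; exact Subgroup.mem_zpowers aP
  have h1 := (hyN _).mp haP
  rw [Subgroup.mem_subgroupOf] at h1
  simp only [Subgroup.coe_mul, Subgroup.coe_inv] at h1
  obtain ⟨z, hz⟩ := Subgroup.mem_zpowers_iff.mp h1
  have hz2 : aP ^ (z % 23).toNat = y * aP * y⁻¹ := by
    rw [← hz, ← zpow_natCast, Int.toNat_of_nonneg (Int.emod_nonneg z (by norm_num))]
    have := zpow_mod_orderOf aP z
    rw [order_aP] at this
    exact_mod_cast this
  apply odd_normalizer (mem_M23_iff.mp (hY hyY)).2 _ _ hz2.symm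
  have := orderOf_dvd_natCard (⟨y, hyY⟩ : ↥Y)
  rw [Subgroup.orderOf_mk] at this
  exact hodd.of_dvd_nat this

/-- `23:11` is maximal in the point stabiliser. -/
theorem coatom_B (Y : Subgroup (Equiv.Perm GolayPt)) (hBY : Bsub ≤ Y) (hY : Y ≤ Spor.M23)
    (hne : Y ≠ Bsub) : Y = Spor.M23 := by
  rcases Nat.even_or_odd (Nat.card ↥Y) with he | ho
  · have : Fact (Nat.Prime 2) := ⟨Nat.prime_two⟩
    obtain ⟨t, ht⟩ := exists_prime_orderOf_dvd_card' 2 he.two_dvd
    apply le_antisymm hY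
    exact even_case Y hBY hY t.1 t.2 ((Subgroup.orderOf_coe t).trans ht)
  · exact absurd (le_antisymm (odd_case Y hBY hY ho) hBY) hne

/-! ### Maximality of `PSL(2,23)` -/

theorem coatom_L (Y : Subgroup (Equiv.Perm GolayPt)) (hLY : Lsub ≤ Y) (hY : Y ≤ M24)
    (hne : Y ≠ Lsub) : Y = M24 := by
  have hB0 : Bsub ≤ Y ⊓ MulAction.stabilizer (Equiv.Perm GolayPt) (none : GolayPt) :=
    le_inf (B_le_L.trans hLY) B_le_stab
  have h0M : Y ⊓ MulAction.stabilizer (Equiv.Perm GolayPt) (none : GolayPt) ≤ Spor.M23 := by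
    intro x hx
    obtain ⟨h1, h2⟩ := Subgroup.mem_inf.mp hx
    exact mem_M23_iff.mpr ⟨hY h1, h2⟩
  have hcard := card_of_trans Y hLY
  by_cases h : Y ⊓ MulAction.stabilizer (Equiv.Perm GolayPt) (none : GolayPt) = Bsub
  · exfalso
    rw [h, card_B] at hcard
    apply hne
    symm
    apply Subgroup.eq_of_le_of_card_ge hLY
    rw [hcard, card_L]
  · have h2 := coatom_B _ hB0 h0M h
    rw [h2, card_M23] at hcard
    apply Subgroup.eq_of_le_of_card_ge hY
    rw [card_M24, hcard]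

/-! ### Coatoms of subgroup lattices -/

theorem isCoatom_subgroupOf {G : Type*} [Group G] (H K : Subgroup G) (hHK : H ≤ K) (hne : H ≠ K)
    (hmax : ∀ Y : Subgroup G, H ≤ Y → Y ≤ K → Y ≠ H → Y = K) : IsCoatom (H.subgroupOf K) := by
  constructor
  · intro htop
    rw [Subgroup.subgroupOf_eq_top] at htop
    exact hne (le_antisymm hHK htop)
  · intro b hb
    have hcm : (b.map K.subtype).subgroupOf K = b :=
      Subgroup.comap_map_eq_self_of_injective (Subgroup.subtype_injective K) b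
    have h1 : H ≤ b.map K.subtype := by
      intro x hx
      exact Subgroup.mem_map.mpr ⟨⟨x, hHK hx⟩, hb.le (Subgroup.mem_subgroupOf.mpr hx), rfl⟩
    have h2 : b.map K.subtype ≤ K := Subgroup.map_subtype_le b
    have h3 : b.map K.subtype ≠ H := by
      intro h
      rw [h] at hcm
      exact hb.ne hcm
    have h4 := hmax _ h1 h2 h3
    rw [← hcm, h4]
    exact Subgroup.subgroupOf_self K

theorem card_L_ne : Lsub ≠ M24 := by
  intro h
  have := card_L
  rw [h, card_M24] at this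
  exact absurd this (by decide)

theorem card_B_ne : Bsub ≠ Spor.M23 := by
  intro h
  have := card_B
  rw [h, card_M23] at this
  exact absurd this (by decide)

theorem coatom_L' : IsCoatom (Lsub.subgroupOf M24) :=
  isCoatom_subgroupOf Lsub M24 L_le_M24 card_L_ne (fun Y h1 h2 h3 => coatom_L Y h1 h2 h3)

theorem B_le_M24 : Bsub ≤ M24 := B_le_M23.trans M23_le

theorem coatom_B' : IsCoatom ((Bsub.subgroupOf M24).subgroupOf
    (MulAction.stabilizer ↥M24 (none : GolayPt))) := by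
  have hmem : ∀ x : ↥M24, x ∈ MulAction.stabilizer ↥M24 (none : GolayPt) ↔
      (x : Equiv.Perm GolayPt) none = none := fun x => Iff.rfl
  apply isCoatom_subgroupOf
  · intro x hx
    rw [hmem]
    exact B_fix (Subgroup.mem_subgroupOf.mp hx)
  · intro h
    have hb : b23P ∈ Bsub := by
      have h1 : (⟨b23P, b23P_mem24⟩ : ↥M24) ∈ MulAction.stabilizer ↥M24 (none : GolayPt) := by
        rw [hmem]
        exact (mem_M23_iff.mp b23P_mem).2
      rw [← h] at h1
      exact Subgroup.mem_subgroupOf.mp h1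
    apply card_B_ne
    apply le_antisymm B_le_M23
    rw [← closure_ab23, Subgroup.closure_le]
    intro x hx
    rcases hx with hx | hx
    · rw [hx]; exact aP_mem_B
    · rw [Set.mem_singleton_iff.mp hx]; exact hb
  · intro Y h1 h2 h3
    have hY1 : Bsub ≤ Y.map M24.subtype := by
      intro x hx
      exact Subgroup.mem_map.mpr ⟨⟨x, B_le_M24 hx⟩, h1 (Subgroup.mem_subgroupOf.mpr hx), rfl⟩
    have hY2 : Y.map M24.subtype ≤ Spor.M23 := by
      intro x hx
      obtain ⟨y, hy, rfl⟩ := Subgroup.mem_map.mp hx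
      exact mem_M23_iff.mpr ⟨y.2, (hmem y).mp (h2 hy)⟩
    have hcm : (Y.map M24.subtype).subgroupOf M24 = Y :=
      Subgroup.comap_map_eq_self_of_injective (Subgroup.subtype_injective M24) Y
    have hY3 : Y.map M24.subtype ≠ Bsub := by
      intro h
      rw [h] at hcm
      exact h3 hcm.symm
    have h4 := coatom_B _ hY1 hY2 hY3
    ext y
    rw [hmem, ← hcm, Subgroup.mem_subgroupOf, h4, mem_M23_iff]
    exact ⟨fun h => h.2, fun h => ⟨y.2, h⟩⟩

/-- the statement, in terms of `setU`. -/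
theorem main :
    Subgroup.closure ({Equiv.optionCongr (Equiv.addRight (1 : ZMod 23)), Cfsg.projInv} ∪ setU) ≤
        Cfsg.M24 ∧
      Nat.card ↥(Subgroup.closure
        ({Equiv.optionCongr (Equiv.addRight (1 : ZMod 23)), Cfsg.projInv} ∪ setU)) = 6072 ∧
      IsCoatom ((Subgroup.closure
        ({Equiv.optionCongr (Equiv.addRight (1 : ZMod 23)), Cfsg.projInv} ∪ setU)).subgroupOf
          Cfsg.M24) ∧
      Subgroup.closure ({Equiv.optionCongr (Equiv.addRight (1 : ZMod 23))} ∪ setU) ≤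
        Cfsg.M24 ⊓ MulAction.stabilizer (Equiv.Perm Cfsg.GolayPt) (none : Cfsg.GolayPt) ∧
      Nat.card ↥(Subgroup.closure
        ({Equiv.optionCongr (Equiv.addRight (1 : ZMod 23))} ∪ setU)) = 253 ∧
      IsCoatom (((Subgroup.closure
        ({Equiv.optionCongr (Equiv.addRight (1 : ZMod 23))} ∪ setU)).subgroupOf Cfsg.M24).subgroupOf
          (MulAction.stabilizer Cfsg.M24 (none : Cfsg.GolayPt))) := by
  rw [closure_L, closure_B]
  exact ⟨L_le_M24, card_L, coatom_L', le_inf B_le_M24 B_le_stab, card_B, coatom_B'⟩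

end Cfsg.Agent.Helper9.L23
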