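import Cfsg.Agent.Helper9.Out.M23Data
import Cfsg.Agent.Helper9.Golay.SimpleCert

set_option autoImplicit false
set_option maxRecDepth 100000

/-!
Data for the maximality of `PSL(2,23)` in the group of the length-24 code and of `23:11` in its
point stabiliser: the Bruhat relations `g a^i g = a^i1 n^j1 g a^i2`, and for every involution
table `y` fixing the extra point a straight-line program producing the second generator of the
point stabiliser from `a`, `n`, `y`.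
-/

namespace Cfsg.Agent.Helper9.L23

open Cfsg Cfsg.Agent.Helper9.Golay Cfsg.Agent.Helper9.OutM24 Cfsg.Agent.Helper9.OutM23

/-- the table of `t ↦ -1/t`. -/
def l23GT : List ℕ := tblOf (stepFun 1)

/-- `g a^(i+1) g = a^i1 n^j1 g a^i2`. -/
def l23Br : List (ℕ × ℕ × ℕ) := [(22, 0, 22), (11, 9, 11), (15, 6, 15), (17, 7, 17), (9, 10, 9), (19, 4, 19), (13, 3, 13), (20, 5, 20), (5, 1, 5), (16, 8, 16), (2, 2, 2), (21, 2, 21), (7, 8, 7), (18, 1, 18), (3, 5, 3), (10, 3, 10), (4, 4, 4), (14, 10, 14), (6, 7, 6), (8, 6, 8), (12, 9, 12), (1, 0, 1)]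

/-- a certificate is good: its program over `[a, n, y]` produces the second generator of the point
stabiliser. -/
def l23Good (c : List ℕ × List (ℕ × ℕ) × ℕ) : Bool :=
  (runSLP c.2.1 [o24AT, o24NT, c.1]).getD c.2.2 idT == o23BT

def l23Chunk0 : List (List ℕ × List (ℕ × ℕ) × ℕ) := [
  ([2, 4, 0, 7, 1, 18, 8, 3, 6, 19, 12, 11, 10, 13, 20, 15, 16, 17, 5, 9, 14, 21, 22, 23], [], 2),
  ([3, 12, 7, 0, 10, 8, 18, 2, 5, 20, 4, 11, 1, 13, 19, 15, 16, 17, 6, 14, 9, 21, 22, 23], [(0, 0), (0, 3), (1, 1), (1, 5), (5, 5), (7, 7), (5, 8), (2, 4), (10, 1), (11, 11), (12, 12), (12, 13), (14, 6), (15, 15), (15, 16), (15, 17), (15, 18), (17, 17), (20, 20), (20, 21), (10, 5), (9, 23), (24, 15), (25, 25), (26, 26), (26, 27), (15, 24), (28, 29), (30, 30), (31, 31), (24, 16), (33, 30), (33, 31), (33, 33), (32, 36), (37, 37), (38, 38), (35, 35), (24, 25), (22, 41), (40, 42), (43, 43), (37, 44), (43, 30), (32, 46), (39, 47), (48,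 48), (48, 45), (3, 1), (51, 19), (52, 34), (53, 50), (54, 49)], 55),
  ([1, 0, 4, 12, 2, 9, 14, 10, 20, 5, 7, 11, 3, 13, 6, 15, 16, 17, 19, 18, 8, 21, 22, 23], [(0, 0), (3, 3), (3, 4), (4, 4), (6, 6), (5, 7), (1, 1), (8, 2), (1, 10), (10, 10), (11, 11), (13, 13), (14, 14), (13, 15), (16, 12), (17, 17), (17, 18), (18, 18), (19, 19), (21, 21), (10, 9), (20, 23), (24, 24), (24, 25), (24, 26), (24, 17), (24, 18), (17, 28), (17, 29), (25, 25), (32, 32), (27, 27), (34, 34), (31, 31), (36, 36), (36, 37), (24, 29), (22, 39), (35, 40), (41, 25), (32, 42), (43, 41), (41, 44), (24, 30), (38, 46), (47, 47), (24, 48), (47, 25), (33, 50), (3, 1), (52, 19), (53, 49), (54, 45), (55, 51)], 56),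
  ([19, 18, 9, 14, 5, 4, 12, 20, 10, 2, 8, 11, 6, 13, 3, 15, 16, 17, 1, 0, 7, 21, 22, 23], [(0, 0), (1, 1), (1, 4), (5, 5), (6, 6), (7, 7), (6, 8), (2, 0), (0, 10), (2, 11), (9, 12), (13, 13), (13, 14), (13, 15), (13, 1), (1, 17), (14, 14), (19, 19), (16, 16), (21, 21), (18, 18), (23, 23), (23, 24), (13, 17), (25, 26), (22, 27), (28, 28), (28, 29), (28, 13), (28, 14), (31, 31), (33, 33), (33, 34), (35, 15), (36, 28), (28, 36), (36, 36), (36, 39), (38, 38), (36, 29), (41, 42), (36, 37), (30, 44), (45, 43), (28, 32), (20, 47), (48, 39), (28, 49), (48, 28), (40, 51), (52, 52), (52, 46), (43, 54), (3, 1), (56, 13), (57, 50), (58, 55), (59, 53)], 60),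
  ([14, 6, 20, 19, 8, 10, 1, 9, 4, 7, 5, 11, 18, 13, 0, 15, 16, 17, 12, 3, 2, 21, 22, 23], [(0, 0), (1, 1), (1, 4), (1, 5), (1, 6), (1, 7), (1, 8), (1, 9), (1, 10), (1, 11), (12, 12), (13, 13), (14, 14), (13, 15), (2, 0), (0, 2), (0, 17), (19, 19), (20, 20), (21, 21), (20, 22), (1, 18), (23, 24), (16, 25), (26, 26), (26, 27), (26, 1), (1, 29), (26, 29), (27, 27), (32, 32), (32, 33), (28, 28), (35, 35), (35, 36), (31, 31), (38, 38), (38, 39), (1, 30), (40, 41), (34, 42), (43, 43), (43, 44), (43, 45), (44, 44), (47, 47), (43, 27), (37, 49), (50, 43), (43, 50), (50, 50), (50, 51), (43, 53), (43, 55), (51, 51), (57, 57), (54, 54), (54, 59), (43, 52), (58, 61), (62, 62), (50, 52), (48, 64), (65, 63), (62, 66), (60, 46), (68, 65), (63, 69), (70, 70), (3, 1), (72, 26), (73, 56), (74, 67), (75, 71)], 76)]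

theorem l23_ok_0 : l23Chunk0.all l23Good = true := by decide +kernel

def l23Chunk1 : List (List ℕ × List (ℕ × ℕ) × ℕ) := [
  ([4, 2, 1, 10, 0, 19, 20, 12, 14, 18, 3, 11, 7, 13, 8, 15, 16, 17, 9, 5, 6, 21, 22, 23], [(0, 0), (3, 3), (4, 4), (5, 5), (4, 5), (6, 6), (7, 8), (1, 1), (1, 10), (10, 10), (12, 12), (10, 13), (2, 0), (9, 15), (16, 1), (16, 16), (17, 17), (19, 19), (20, 20), (19, 21), (14, 18), (23, 23), (22, 11), (25, 23), (23, 25), (25, 25), (25, 26), (23, 27), (25, 24), (24, 31), (30, 30), (33, 33), (23, 29), (28, 35), (25, 30), (34, 37), (38, 32), (32, 38), (38, 38), (32, 41), (36, 42), (38, 36), (36, 44), (36, 39), (40, 46), (47, 45), (45, 48), (3, 1), (50, 29), (51, 43), (52, 49)], 53),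
  ([20, 8, 14, 9, 6, 12, 4, 19, 1, 3, 18, 11, 5, 13, 2, 15, 16, 17, 10, 7, 0, 21, 22, 23], [(0, 0), (1, 1), (1, 4), (1, 5), (1, 6), (1, 7), (1, 8), (4, 4), (10, 10), (4, 11), (6, 6), (13, 13), (14, 14), (13, 15), (0, 2), (17, 17), (18, 18), (18, 19), (19, 19), (20, 21), (2, 17), (22, 23), (1, 24), (24, 4), (24, 5), (24, 1), (12, 28), (26, 26), (30, 30), (31, 31), (30, 32), (1, 25), (33, 34), (35, 29), (35, 35), (29, 35), (37, 38), (27, 27), (40, 40), (41, 41), (40, 42), (24, 6), (16, 44), (45, 29), (37, 46), (39, 47), (47, 47), (39, 49), (47, 50), (51, 51), (43, 9), (29, 53), (52, 54), (39, 55), (55, 48), (47, 57), (47, 58), (55, 39), (39, 60), (61, 61), (3, 1), (63, 36), (64, 59), (65, 56), (66, 62)], 67),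
  ([6, 14, 8, 18, 20, 7, 0, 5, 2, 10, 9, 11, 19, 13, 1, 15, 16, 17, 3, 12, 4, 21, 22, 23], [(0, 0), (1, 1), (1, 4), (5, 5), (6, 6), (7, 7), (6, 8), (0, 2), (2, 3), (11, 11), (12, 12), (13, 13), (12, 14), (0, 10), (15, 16), (17, 1), (1, 17), (17, 17), (1, 18), (20, 21), (22, 22), (22, 23), (17, 19), (9, 25), (26, 26), (26, 22), (22, 28), (26, 29), (27, 27), (26, 23), (23, 32), (31, 33), (34, 26), (27, 35), (29, 29), (29, 37), (26, 24), (38, 39), (40, 26), (34, 41), (40, 42), (40, 40), (31, 44), (45, 34), (34, 46), (36, 47), (45, 36), (3, 1), (50, 30), (51, 43), (52, 48), (53, 49)], 54),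
  ([18, 19, 5, 6, 9, 2, 3, 8, 7, 4, 20, 11, 14, 13, 12, 15, 16, 17, 0, 1, 10, 21, 22, 23], [(0, 0), (1, 1), (1, 4), (1, 5), (1, 6), (6, 6), (8, 8), (9, 9), (8, 10), (7, 7), (12, 12), (13, 13), (12, 14), (2, 0), (16, 16), (16, 17), (17, 17), (18, 19), (0, 2), (20, 21), (15, 22), (23, 23), (23, 24), (23, 25), (26, 26), (27, 27), (23, 5), (11, 29), (28, 30), (31, 31), (31, 23), (31, 24), (23, 33), (31, 25), (31, 36), (32, 32), (34, 34), (39, 39), (36, 36), (41, 41), (41, 42), (23, 34), (43, 44), (38, 45), (46, 46), (46, 31), (38, 48), (49, 49), (23, 35), (40, 51), (52, 31), (52, 32), (52, 54), (53, 53), (31, 53), (56, 57), (50, 58), (59, 47), (3, 1), (61, 37), (62, 55), (63, 60), (64, 59)], 65),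
  ([7, 10, 3, 2, 12, 6, 5, 0, 18, 14, 1, 11, 4, 13, 9, 15, 16, 17, 8, 20, 19, 21, 22, 23], [(0, 0), (0, 3), (4, 4), (5, 5), (5, 6), (6, 6), (8, 8), (7, 9), (1, 1), (1, 11), (11, 11), (13, 13), (11, 14), (12, 12), (16, 16), (17, 17), (16, 18), (2, 3), (10, 20), (21, 1), (21, 11), (15, 23), (24, 24), (24, 25), (25, 25), (21, 22), (19, 28), (29, 24), (24, 29), (29, 29), (30, 30), (30, 33), (34, 26), (35, 35), (36, 36), (29, 30), (27, 38), (39, 35), (35, 39), (35, 40), (35, 41), (35, 42), (39, 42), (39, 43), (40, 40), (47, 47), (39, 36), (37, 49), (45, 45), (51, 51), (35, 46), (52, 53), (54, 50), (24, 31), (32, 56), (48, 57), (58, 50), (58, 55), (55, 60), (61, 61), (3, 1), (63, 24), (64, 44), (65, 59), (66, 62)], 67)]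

theorem l23_ok_1 : l23Chunk1.all l23Good = true := by decide +kernel

def l23Chunk2 : List (List ℕ × List (ℕ × ℕ) × ℕ) := [
  ([10, 7, 12, 4, 3, 14, 9, 1, 19, 6, 0, 11, 2, 13, 5, 15, 16, 17, 20, 8, 18, 21, 22, 23], [(0, 0), (1, 1), (4, 4), (5, 5), (6, 6), (5, 7), (0, 2), (2, 3), (10, 10), (11, 11), (12, 12), (11, 13), (0, 9), (14, 15), (8, 16), (17, 17), (17, 18), (17, 1), (17, 4), (1, 20), (21, 21), (1, 22), (23, 24), (17, 25), (25, 25), (25, 18), (17, 27), (17, 28), (26, 26), (26, 31), (29, 29), (33, 33), (33, 34), (25, 19), (32, 36), (37, 37), (37, 38), (25, 28), (35, 40), (41, 37), (37, 41), (41, 41), (41, 38), (41, 43), (44, 44), (43, 43), (48, 48), (37, 42), (47, 50), (41, 44), (49, 52), (51, 53), (53, 53), (41, 45), (39, 56), (55, 57), (3, 1), (59, 30), (60, 46), (61, 54), (62, 58)], 63),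
  ([12, 3, 10, 1, 7, 20, 19, 4, 9, 8, 2, 11, 0, 13, 18, 15, 16, 17, 14, 6, 5, 21, 22, 23], [(0, 0), (3, 3), (3, 4), (4, 4), (6, 6), (5, 7), (1, 1), (1, 9), (1, 10), (10, 10), (12, 12), (13, 13), (12, 14), (1, 2), (8, 16), (17, 17), (18, 18), (19, 19), (19, 20), (17, 18), (15, 22), (21, 11), (24, 23), (24, 24), (23, 25), (26, 26), (23, 24), (28, 29), (30, 30), (27, 27), (24, 25), (32, 33), (34, 30), (30, 34), (34, 31), (34, 35), (34, 36), (37, 37), (40, 40), (38, 38), (42, 42), (30, 36), (41, 44), (45, 45), (39, 39), (47, 47), (30, 38), (43, 49), (50, 45), (50, 51), (52, 52), (30, 39), (48, 54), (53, 55), (56, 46), (3, 1), (58, 24), (59, 38), (60, 57)], 61),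
  ([8, 20, 6, 5, 14, 3, 2, 18, 0, 12, 19, 11, 9, 13, 4, 15, 16, 17, 7, 10, 1, 21, 22, 23], [(0, 0), (1, 1), (1, 4), (4, 4), (6, 6), (7, 7), (6, 8), (5, 5), (10, 10), (11, 11), (10, 12), (2, 0), (1, 2), (1, 14), (16, 16), (16, 17), (17, 17), (18, 19), (0, 15), (20, 21), (22, 4), (9, 23), (24, 24), (24, 25), (22, 5), (13, 27), (24, 28), (28, 28), (24, 29), (28, 29), (28, 30), (28, 31), (29, 29), (35, 35), (32, 32), (37, 37), (37, 38), (28, 32), (36, 40), (24, 41), (41, 42), (24, 43), (44, 44), (45, 45), (41, 44), (46, 47), (24, 33), (39, 49), (26, 50), (51, 25), (51, 41), (24, 53), (24, 54), (51, 48), (3, 1), (57, 34), (58, 55), (59, 52), (60, 56)], 61),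
  ([5, 9, 18, 8, 19, 0, 7, 6, 3, 1, 14, 11, 20, 13, 10, 15, 16, 17, 2, 4, 12, 21, 22, 23], [(0, 0), (1, 1), (4, 4), (5, 5), (4, 6), (2, 0), (1, 2), (9, 9), (10, 10), (10, 11), (11, 11), (12, 13), (0, 8), (14, 15), (16, 1), (1, 16), (16, 17), (19, 19), (19, 20), (16, 18), (7, 22), (23, 23), (23, 24), (23, 25), (23, 19), (23, 20), (23, 27), (23, 21), (23, 29), (19, 31), (24, 24), (33, 33), (26, 26), (35, 35), (19, 27), (36, 37), (38, 23), (34, 39), (40, 38), (40, 41), (42, 42), (30, 30), (44, 44), (19, 28), (45, 46), (23, 47), (38, 47), (49, 49), (50, 50), (47, 48), (51, 52), (43, 53), (54, 38), (3, 1), (56, 32), (57, 48), (58, 55)], 59),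
  ([9, 5, 19, 20, 18, 1, 10, 14, 12, 0, 6, 11, 8, 13, 7, 15, 16, 17, 4, 2, 3, 21, 22, 23], [(0, 0), (1, 1), (2, 0), (0, 2), (6, 6), (7, 7), (7, 8), (8, 8), (9, 10), (1, 5), (11, 12), (13, 1), (1, 13), (13, 13), (13, 4), (16, 16), (18, 18), (18, 19), (17, 17), (21, 21), (21, 22), (1, 14), (20, 24), (25, 25), (25, 26), (25, 27), (1, 15), (23, 29), (30, 25), (25, 30), (30, 30), (25, 31), (31, 31), (35, 35), (35, 36), (32, 32), (38, 38), (38, 39), (30, 26), (40, 41), (42, 42), (42, 43), (44, 44), (44, 45), (34, 34), (47, 47), (25, 32), (37, 49), (50, 42), (42, 50), (50, 43), (42, 51), (53, 53), (54, 54), (42, 52), (55, 57), (50, 52), (46, 59), (60, 58), (50, 44), (56, 62), (63, 60), (30, 33), (48, 65), (66, 42), (50, 66), (66, 66), (66, 50), (70, 61), (70, 64), (66, 67), (68, 73), (72, 74), (75, 75), (3, 1), (77, 28), (78, 69), (79, 71), (80, 76)], 81)]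

theorem l23_ok_2 : l23Chunk2.all l23Good = true := by decide +kernel

def l23Chunk3 : List (List ℕ × List (ℕ × ℕ) × ℕ) := [
  ([1, 0, 20, 21, 6, 16, 4, 11, 14, 9, 10, 7, 12, 18, 8, 15, 5, 17, 13, 19, 2, 3, 22, 23], [(0, 0), (3, 3), (3, 4), (4, 4), (6, 6), (5, 7), (8, 2), (9, 1), (1, 9), (9, 9), (10, 10), (13, 13), (11, 11), (15, 15), (16, 12), (1, 11), (14, 18), (19, 17), (17, 19), (19, 19), (19, 20), (17, 21), (19, 22), (17, 20), (26, 26), (26, 27), (27, 27), (23, 23), (30, 30), (30, 31), (24, 24), (33, 33), (19, 21), (34, 35), (29, 36), (37, 26), (37, 27), (26, 38), (37, 28), (37, 40), (39, 39), (42, 42), (44, 44), (26, 41), (45, 46), (17, 22), (32, 48), (43, 49), (50, 37), (3, 1), (52, 25), (53, 28), (54, 47), (55, 51)], 56),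
  ([3, 21, 18, 0, 16, 6, 5, 8, 7, 9, 10, 14, 12, 20, 11, 15, 4, 17, 2, 19, 13, 1, 22, 23], [(0, 0), (0, 3), (1, 1), (1, 5), (1, 6), (7, 7), (8, 8), (9, 9), (8, 10), (2, 4), (11, 12), (13, 13), (13, 1), (1, 15), (14, 14), (17, 17), (16, 16), (16, 19), (19, 19), (20, 21), (13, 15), (22, 23), (24, 13), (24, 24), (24, 14), (13, 25), (24, 28), (26, 26), (30, 30), (24, 26), (18, 32), (33, 33), (33, 34), (33, 35), (34, 34), (37, 37), (13, 27), (31, 39), (33, 40), (40, 40), (40, 41), (42, 42), (40, 33), (38, 45), (44, 44), (33, 41), (47, 48), (46, 49), (49, 49), (46, 50), (51, 51), (43, 43), (54, 54), (55, 36), (53, 56), (3, 1), (58, 29), (59, 34), (60, 52), (61, 57)], 62),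
  ([4, 6, 14, 16, 0, 21, 1, 13, 20, 9, 10, 18, 12, 7, 2, 15, 3, 17, 11, 19, 8, 5, 22, 23], [(0, 0), (1, 3), (1, 1), (1, 5), (6, 6), (7, 7), (8, 8), (7, 9), (2, 4), (11, 11), (11, 6), (10, 13), (14, 11), (11, 14), (14, 14), (14, 12), (11, 17), (11, 18), (15, 15), (21, 21), (21, 22), (16, 16), (24, 24), (24, 25), (11, 15), (23, 27), (28, 28), (29, 29), (14, 15), (26, 31), (28, 32), (32, 32), (32, 29), (28, 33), (34, 34), (36, 36), (38, 38), (28, 35), (37, 40), (32, 35), (39, 42), (43, 41), (20, 20), (14, 19), (45, 46), (30, 47), (48, 44), (41, 49), (48, 43), (43, 51), (3, 1), (53, 18), (54, 50), (55, 52)], 56),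
  ([14, 8, 4, 11, 2, 13, 20, 21, 1, 9, 10, 3, 12, 5, 0, 15, 18, 17, 16, 19, 6, 7, 22, 23], [(0, 0), (1, 3), (1, 1), (1, 5), (5, 5), (7, 7), (5, 8), (6, 6), (10, 10), (11, 11), (10, 12), (4, 4), (14, 14), (15, 15), (14, 16), (2, 3), (17, 18), (19, 1), (19, 5), (13, 21), (22, 22), (22, 23), (24, 24), (25, 25), (19, 20), (9, 27), (28, 22), (22, 28), (28, 28), (22, 31), (28, 32), (29, 29), (34, 34), (34, 35), (30, 30), (37, 37), (37, 38), (28, 23), (26, 40), (41, 41), (41, 42), (41, 43), (22, 29), (36, 45), (46, 41), (46, 42), (41, 47), (46, 47), (46, 49), (48, 48), (52, 44), (51, 51), (54, 54), (28, 30), (39, 56), (55, 57), (53, 58), (58, 53), (60, 60), (3, 1), (62, 33), (63, 50), (64, 59), (65, 61)], 66),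
  ([11, 7, 16, 14, 18, 20, 13, 1, 21, 9, 10, 0, 12, 6, 3, 15, 2, 17, 4, 19, 5, 8, 22, 23], [(0, 0), (3, 3), (3, 4), (4, 4), (6, 6), (5, 7), (1, 1), (1, 9), (0, 2), (1, 11), (8, 12), (1, 13), (13, 13), (13, 9), (15, 15), (17, 17), (18, 10), (19, 19), (19, 20), (20, 20), (20, 22), (16, 16), (16, 24), (24, 24), (25, 26), (1, 14), (27, 28), (29, 19), (19, 29), (19, 30), (19, 31), (19, 32), (29, 34), (30, 30), (36, 36), (36, 37), (38, 21), (33, 33), (40, 40), (29, 31), (23, 42), (43, 39), (39, 43), (43, 43), (43, 44), (39, 45), (39, 46), (43, 46), (39, 47), (43, 48), (50, 50), (53, 53), (51, 51), (55, 55), (43, 52), (56, 57), (29, 32), (41, 59), (54, 60), (61, 43), (61, 44), (63, 63), (64, 49), (3, 1), (66, 35), (67, 62), (68, 58), (69, 65)], 70)]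

theorem l23_ok_3 : l23Chunk3.all l23Good = true := by decide +kernel

def l23Chunk4 : List (List ℕ × List (ℕ × ℕ) × ℕ) := [
  ([6, 4, 8, 5, 1, 3, 0, 18, 2, 9, 10, 13, 12, 11, 20, 15, 21, 17, 7, 19, 14, 16, 22, 23], [(0, 0), (1, 3), (1, 1), (2, 0), (6, 6), (7, 7), (6, 8), (8, 8), (9, 10), (11, 4), (12, 12), (12, 5), (12, 13), (13, 13), (15, 16), (12, 1), (18, 18), (18, 19), (18, 20), (19, 19), (22, 22), (22, 23), (21, 21), (25, 25), (25, 26), (1, 14), (17, 28), (27, 29), (30, 30), (30, 31), (30, 32), (30, 18), (30, 19), (18, 34), (18, 35), (32, 32), (38, 38), (30, 36), (24, 40), (41, 30), (41, 41), (41, 31), (30, 42), (41, 42), (43, 43), (44, 44), (48, 48), (49, 33), (41, 45), (39, 51), (52, 50), (52, 53), (30, 46), (47, 55), (54, 56), (3, 1), (58, 37), (59, 44), (60, 57)], 61),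
  ([7, 11, 5, 8, 13, 2, 18, 0, 3, 9, 10, 1, 12, 4, 21, 15, 20, 17, 6, 19, 16, 14, 22, 23], [(0, 0), (0, 3), (4, 4), (5, 5), (5, 6), (6, 6), (8, 8), (7, 9), (1, 1), (1, 11), (1, 12), (1, 13), (11, 11), (15, 15), (11, 16), (14, 14), (18, 18), (19, 19), (18, 20), (0, 2), (2, 22), (10, 23), (21, 24), (25, 25), (26, 26), (25, 11), (17, 28), (29, 25), (29, 29), (25, 30), (25, 31), (29, 33), (31, 31), (31, 35), (29, 26), (27, 37), (38, 38), (38, 39), (39, 39), (41, 41), (25, 32), (36, 43), (44, 38), (38, 44), (44, 39), (38, 45), (47, 47), (49, 49), (48, 48), (51, 51), (44, 45), (52, 53), (54, 54), (38, 46), (50, 56), (44, 40), (42, 58), (59, 55), (59, 60), (3, 1), (62, 34), (63, 44), (64, 61), (65, 57)], 66),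
  ([18, 13, 3, 2, 11, 8, 7, 6, 5, 9, 10, 4, 12, 1, 16, 15, 14, 17, 0, 19, 21, 20, 22, 23], [(0, 0), (1, 1), (1, 4), (1, 5), (6, 6), (7, 7), (8, 8), (7, 9), (2, 0), (11, 11), (11, 12), (1, 2), (13, 14), (15, 15), (15, 4), (16, 16), (18, 18), (15, 17), (10, 20), (21, 15), (15, 21), (15, 23), (21, 24), (15, 25), (21, 26), (21, 21), (19, 28), (29, 29), (15, 22), (31, 29), (31, 31), (31, 30), (29, 33), (29, 34), (31, 34), (29, 36), (32, 32), (39, 39), (29, 31), (40, 41), (35, 35), (43, 43), (37, 37), (45, 45), (31, 35), (44, 47), (48, 42), (48, 49), (29, 37), (46, 51), (3, 1), (53, 27), (54, 38), (55, 50), (56, 52)], 57),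
  ([2, 20, 0, 18, 14, 7, 8, 5, 6, 9, 10, 16, 12, 21, 4, 15, 11, 17, 3, 19, 1, 13, 22, 23], [(0, 0), (1, 1), (1, 4), (1, 5), (1, 6), (1, 7), (8, 8), (9, 9), (10, 10), (9, 11), (2, 3), (12, 13), (14, 14), (14, 1), (1, 16), (14, 16), (14, 5), (1, 18), (1, 20), (14, 21), (19, 19), (19, 23), (1, 17), (24, 25), (26, 14), (14, 26), (26, 15), (14, 28), (26, 28), (26, 26), (28, 28), (33, 33), (34, 32), (35, 35), (36, 36), (37, 37), (14, 27), (35, 39), (39, 36), (39, 40), (38, 42), (43, 41), (31, 31), (14, 30), (45, 46), (38, 47), (48, 39), (37, 49), (44, 50), (51, 51), (2, 22), (53, 29), (54, 40), (55, 41), (56, 52)], 57),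
  ([21, 3, 13, 1, 5, 4, 16, 14, 11, 9, 10, 8, 12, 2, 7, 15, 6, 17, 20, 19, 18, 0, 22, 23], [(0, 0), (0, 3), (1, 1), (5, 5), (6, 6), (7, 7), (6, 8), (2, 0), (10, 10), (11, 11), (10, 12), (13, 4), (9, 14), (15, 15), (15, 16), (15, 17), (15, 1), (15, 5), (18, 18), (21, 21), (19, 19), (23, 23), (23, 24), (1, 20), (25, 26), (22, 27), (28, 28), (28, 15), (28, 16), (28, 30), (28, 17), (28, 33), (15, 34), (15, 35), (29, 29), (30, 30), (30, 38), (32, 32), (40, 40), (15, 31), (41, 42), (43, 28), (29, 44), (15, 32), (39, 46), (47, 28), (43, 48), (47, 47), (37, 50), (51, 43), (45, 52), (51, 53), (51, 45), (45, 55), (56, 56), (3, 1), (58, 36), (59, 49), (60, 54), (61, 57)], 62)]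

theorem l23_ok_4 : l23Chunk4.all l23Good = true := by decide +kernel

def l23Chunk5 : List (List ℕ × List (ℕ × ℕ) × ℕ) := [
  ([5, 16, 7, 6, 21, 0, 3, 2, 18, 9, 10, 20, 12, 14, 13, 15, 1, 17, 8, 19, 11, 4, 22, 23], [(0, 0), (1, 1), (1, 4), (1, 5), (1, 6), (1, 7), (1, 8), (1, 9), (1, 10), (11, 11), (12, 12), (13, 13), (12, 14), (0, 2), (2, 3), (17, 17), (18, 18), (18, 19), (19, 19), (20, 21), (0, 16), (22, 23), (15, 24), (25, 25), (25, 4), (1, 27), (28, 25), (25, 28), (28, 28), (28, 26), (25, 29), (28, 29), (28, 30), (25, 32), (25, 33), (31, 31), (38, 38), (38, 39), (34, 34), (41, 41), (41, 42), (25, 30), (43, 44), (45, 45), (36, 36), (47, 47), (47, 48), (37, 37), (50, 50), (50, 51), (28, 33), (49, 53), (54, 45), (54, 46), (54, 56), (45, 57), (25, 35), (40, 59), (58, 60), (28, 36), (52, 62), (45, 63), (61, 64), (63, 45), (55, 66), (54, 67), (3, 1), (69, 32), (70, 65), (71, 68)], 72),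
  ([16, 5, 11, 4, 3, 1, 21, 20, 13, 9, 10, 2, 12, 8, 18, 15, 0, 17, 14, 19, 7, 6, 22, 23], [(0, 0), (1, 1), (1, 4), (5, 5), (6, 6), (7, 7), (6, 8), (0, 2), (2, 3), (11, 11), (12, 12), (12, 13), (13, 13), (14, 15), (1, 10), (16, 17), (18, 1), (1, 18), (18, 4), (18, 5), (18, 18), (20, 20), (24, 24), (25, 25), (24, 26), (27, 23), (28, 28), (18, 19), (9, 30), (31, 28), (31, 31), (31, 29), (31, 32), (31, 34), (28, 35), (31, 36), (28, 38), (33, 33), (28, 31), (40, 41), (42, 42), (34, 34), (28, 32), (44, 45), (46, 42), (46, 46), (37, 37), (49, 49), (31, 35), (50, 51), (52, 47), (52, 52), (52, 42), (43, 55), (39, 39), (57, 57), (22, 22), (59, 59), (60, 60), (59, 61), (1, 21), (62, 63), (58, 64), (65, 28), (65, 66), (65, 65), (65, 46), (54, 69), (70, 56), (71, 71), (48, 68), (56, 73), (70, 74), (3, 1), (76, 67), (77, 53), (78, 75), (79, 72)], 80),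
  ([13, 18, 21, 20, 7, 14, 11, 4, 16, 9, 10, 6, 12, 0, 5, 15, 8, 17, 1, 19, 3, 2, 22, 23], [(0, 0), (0, 3), (1, 1), (1, 2), (6, 6), (7, 7), (7, 8), (9, 4), (1, 10), (10, 10), (10, 5), (13, 13), (14, 14), (1, 11), (15, 16), (17, 17), (17, 18), (18, 18), (20, 20), (20, 21), (1, 12), (23, 17), (23, 23), (23, 19), (17, 26), (25, 25), (23, 18), (22, 29), (30, 30), (31, 31), (17, 24), (28, 33), (32, 34), (35, 35), (35, 30), (37, 37), (17, 25), (39, 30), (30, 39), (30, 40), (35, 42), (39, 39), (41, 41), (45, 45), (46, 44), (47, 35), (36, 48), (49, 49), (39, 31), (38, 51), (52, 47), (52, 53), (3, 1), (55, 27), (56, 43), (57, 54), (58, 50)], 59),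
  ([20, 2, 1, 13, 8, 11, 14, 16, 4, 9, 10, 5, 12, 3, 6, 15, 7, 17, 21, 19, 0, 18, 22, 23], [(0, 0), (3, 3), (4, 4), (5, 5), (4, 5), (6, 6), (7, 8), (1, 1), (2, 0), (9, 11), (12, 1), (12, 12), (12, 10), (14, 14), (16, 16), (14, 17), (17, 17), (16, 19), (1, 13), (18, 21), (22, 22), (1, 15), (20, 24), (22, 25), (25, 22), (23, 27), (28, 28), (28, 29), (26, 26), (26, 31), (25, 23), (32, 33), (34, 28), (28, 34), (34, 34), (34, 29), (34, 36), (34, 30), (37, 37), (35, 35), (42, 42), (28, 35), (41, 44), (45, 45), (39, 39), (28, 37), (43, 48), (49, 45), (50, 50), (28, 38), (47, 52), (51, 53), (54, 46), (3, 1), (56, 22), (57, 40), (58, 55), (59, 54)], 60),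
  ([8, 14, 6, 7, 20, 18, 2, 3, 0, 9, 10, 21, 12, 16, 1, 15, 13, 17, 5, 19, 4, 11, 22, 23], [(0, 0), (1, 1), (1, 4), (1, 5), (6, 6), (7, 7), (8, 8), (7, 9), (0, 2), (11, 11), (12, 12), (12, 13), (13, 13), (14, 15), (2, 11), (16, 17), (18, 1), (1, 19), (18, 5), (10, 21), (22, 18), (18, 22), (22, 23), (22, 22), (24, 24), (27, 26), (28, 28), (1, 20), (18, 30), (30, 25), (31, 31), (33, 33), (33, 34), (22, 30), (35, 36), (28, 37), (37, 29), (37, 39), (28, 40), (39, 39), (42, 42), (28, 38), (43, 44), (3, 1), (46, 32), (47, 41), (48, 45)], 49)]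

theorem l23_ok_5 : l23Chunk5.all l23Good = true := by decide +kernel

def l23Chunk6 : List (List ℕ × List (ℕ × ℕ) × ℕ) := [
  ([4, 7, 12, 10, 0, 5, 18, 1, 8, 20, 3, 13, 2, 11, 14, 15, 16, 17, 6, 19, 9, 22, 21, 23], [(0, 0), (1, 3), (1, 1), (1, 5), (1, 6), (1, 7), (1, 8), (5, 5), (10, 10), (11, 11), (10, 12), (9, 9), (14, 14), (15, 15), (14, 16), (2, 4), (17, 18), (19, 19), (19, 1), (19, 21), (13, 22), (23, 19), (23, 23), (23, 20), (19, 24), (23, 25), (24, 24), (29, 29), (29, 30), (19, 23), (31, 32), (26, 26), (26, 34), (27, 27), (27, 36), (19, 25), (35, 38), (23, 26), (37, 40), (41, 33), (33, 41), (39, 41), (41, 41), (39, 42), (33, 45), (44, 44), (48, 48), (46, 46), (46, 50), (41, 42), (51, 52), (33, 43), (49, 54), (55, 53), (39, 56), (3, 1), (58, 28), (59, 47), (60, 57)], 61),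
  ([3, 2, 1, 0, 10, 5, 9, 12, 8, 6, 4, 22, 7, 21, 14, 15, 16, 17, 20, 19, 18, 13, 11, 23], [(0, 0), (3, 3), (4, 4), (5, 5), (4, 5), (6, 6), (7, 8), (2, 0), (9, 10), (11, 1), (11, 11), (13, 13), (12, 12), (15, 15), (15, 16), (1, 11), (17, 18), (19, 19), (19, 20), (19, 21), (20, 20), (20, 23), (13, 19), (19, 13), (19, 26), (25, 25), (28, 28), (13, 20), (24, 30), (31, 31), (32, 32), (33, 33), (27, 27), (35, 35), (35, 36), (19, 14), (29, 38), (34, 39), (40, 31), (40, 32), (31, 41), (31, 42), (31, 43), (31, 44), (41, 41), (46, 46), (40, 45), (48, 49), (13, 21), (37, 51), (47, 52), (53, 50), (50, 54), (53, 31), (53, 56), (31, 57), (53, 40), (50, 59), (3, 1), (61, 22), (62, 58), (63, 55), (64, 60)], 65),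
  ([6, 11, 22, 9, 18, 5, 0, 13, 8, 3, 20, 1, 21, 7, 14, 15, 16, 17, 4, 19, 10, 12, 2, 23], [(0, 0), (1, 1), (1, 4), (1, 5), (1, 6), (1, 7), (1, 8), (1, 9), (1, 10), (11, 11), (12, 12), (13, 13), (12, 14), (2, 0), (1, 2), (17, 17), (18, 18), (19, 19), (18, 20), (0, 16), (21, 22), (15, 23), (24, 24), (24, 25), (24, 1), (24, 27), (25, 25), (28, 28), (30, 30), (31, 6), (24, 32), (32, 32), (24, 33), (32, 26), (32, 24), (29, 37), (38, 38), (39, 39), (36, 36), (41, 41), (41, 42), (24, 35), (43, 44), (45, 38), (38, 45), (45, 39), (38, 46), (38, 47), (45, 50), (38, 51), (45, 45), (40, 53), (49, 49), (55, 55), (45, 48), (56, 57), (54, 58), (54, 59), (3, 1), (61, 34), (62, 52), (63, 60)], 64),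
  ([11, 6, 9, 22, 13, 5, 1, 18, 8, 2, 21, 0, 20, 4, 14, 15, 16, 17, 7, 19, 12, 10, 3, 23], [(0, 0), (1, 1), (4, 4), (5, 5), (4, 6), (6, 6), (5, 8), (2, 0), (0, 2), (11, 11), (12, 12), (12, 13), (13, 13), (15, 15), (14, 16), (1, 10), (17, 18), (19, 19), (9, 20), (21, 21), (22, 22), (19, 4), (7, 24), (25, 25), (25, 22), (21, 27), (21, 28), (25, 29), (26, 26), (25, 21), (23, 32), (21, 25), (31, 34), (35, 33), (35, 35), (33, 37), (33, 36), (39, 39), (3, 1), (41, 30), (42, 38), (43, 40)], 44),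
  ([22, 9, 6, 11, 21, 5, 2, 20, 8, 1, 13, 3, 18, 10, 14, 15, 16, 17, 12, 19, 7, 4, 0, 23], [(0, 0), (1, 1), (1, 4), (5, 5), (6, 6), (7, 7), (6, 8), (0, 2), (10, 1), (1, 10), (10, 10), (13, 13), (14, 14), (15, 15), (14, 16), (1, 11), (17, 18), (19, 19), (10, 12), (9, 21), (22, 22), (19, 23), (19, 24), (22, 24), (22, 25), (22, 26), (23, 23), (23, 29), (19, 22), (30, 31), (19, 32), (33, 33), (28, 28), (35, 35), (35, 36), (19, 27), (37, 38), (39, 19), (39, 39), (19, 39), (41, 42), (39, 20), (34, 44), (3, 1), (46, 22), (47, 40), (48, 45), (49, 43)], 50)]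

theorem l23_ok_6 : l23Chunk6.all l23Good = true := by decide +kernel

def l23Chunk7 : List (List ℕ × List (ℕ × ℕ) × ℕ) := [
  ([18, 13, 21, 20, 6, 5, 4, 11, 8, 10, 9, 7, 22, 1, 14, 15, 16, 17, 0, 19, 3, 2, 12, 23], [(0, 0), (1, 1), (1, 4), (4, 4), (6, 6), (7, 7), (6, 8), (2, 0), (10, 10), (11, 11), (10, 12), (1, 2), (13, 14), (1, 15), (15, 15), (16, 16), (16, 18), (18, 18), (19, 20), (15, 17), (9, 22), (23, 23), (24, 24), (15, 5), (21, 26), (27, 23), (23, 27), (27, 27), (29, 29), (31, 31), (25, 30), (33, 33), (34, 34), (35, 35), (27, 24), (32, 37), (38, 33), (33, 38), (38, 38), (38, 34), (33, 39), (38, 40), (36, 44), (33, 41), (45, 46), (33, 43), (41, 48), (49, 45), (50, 50), (51, 47), (52, 52), (3, 1), (54, 28), (55, 42), (56, 49), (57, 53)], 58),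
  ([21, 20, 18, 13, 22, 5, 12, 9, 8, 7, 11, 10, 6, 3, 14, 15, 16, 17, 2, 19, 1, 0, 4, 23], [(0, 0), (1, 1), (1, 4), (1, 5), (5, 5), (7, 7), (8, 8), (7, 9), (2, 0), (0, 11), (2, 12), (13, 1), (13, 4), (13, 14), (16, 16), (17, 17), (18, 18), (17, 19), (20, 6), (21, 21), (13, 5), (10, 23), (24, 24), (21, 24), (25, 26), (27, 27), (27, 28), (29, 29), (29, 30), (24, 22), (22, 32), (31, 33), (34, 28), (28, 35), (1, 15), (21, 37), (38, 38), (39, 39), (24, 37), (40, 41), (42, 28), (31, 43), (44, 34), (34, 45), (46, 46), (3, 1), (48, 38), (49, 28), (50, 36), (51, 47)], 52),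
  ([2, 3, 0, 1, 12, 5, 22, 10, 8, 11, 7, 9, 4, 20, 14, 15, 16, 17, 21, 19, 13, 18, 6, 23], [(0, 0), (2, 3), (4, 4), (4, 5), (4, 6), (4, 1), (5, 5), (7, 7), (10, 10), (1, 8), (11, 12), (13, 13), (13, 5), (13, 6), (4, 15), (13, 7), (13, 16), (4, 17), (13, 17), (4, 19), (4, 20), (13, 4), (9, 24), (13, 25), (25, 25), (13, 27), (26, 26), (26, 29), (28, 28), (18, 18), (32, 32), (4, 16), (33, 34), (31, 35), (23, 23), (13, 21), (37, 38), (30, 39), (40, 36), (40, 14), (2, 8), (43, 22), (44, 42), (45, 41)], 46),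
  ([1, 0, 3, 2, 7, 5, 11, 4, 8, 22, 12, 6, 10, 18, 14, 15, 16, 17, 13, 19, 21, 20, 9, 23], [(0, 0), (3, 3), (3, 4), (4, 4), (6, 6), (5, 7), (1, 1), (1, 9), (9, 9), (11, 11), (9, 12), (8, 2), (14, 14), (15, 15), (14, 1), (13, 17), (16, 16), (19, 10), (20, 18), (18, 20), (20, 20), (18, 22), (20, 23), (18, 25), (21, 21), (27, 27), (24, 24), (29, 29), (29, 30), (20, 22), (31, 32), (33, 33), (33, 34), (33, 35), (34, 34), (18, 23), (28, 38), (37, 39), (40, 40), (40, 33), (40, 34), (33, 42), (40, 42), (40, 35), (33, 43), (33, 45), (40, 48), (46, 46), (50, 50), (47, 47), (52, 52), (33, 44), (51, 54), (40, 55), (55, 41), (40, 57), (56, 56), (40, 36), (53, 60), (59, 61), (62, 62), (3, 1), (64, 26), (65, 49), (66, 58), (67, 63)], 68),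
  ([10, 12, 7, 4, 3, 5, 20, 2, 8, 18, 0, 21, 1, 22, 14, 15, 16, 17, 9, 19, 6, 11, 13, 23], [(0, 0), (3, 3), (3, 4), (4, 4), (6, 6), (5, 7), (1, 1), (1, 9), (1, 10), (1, 11), (1, 12), (1, 13), (9, 9), (15, 15), (9, 16), (10, 10), (18, 18), (19, 19), (18, 20), (14, 14), (22, 22), (23, 23), (22, 24), (2, 0), (1, 26), (8, 27), (25, 28), (29, 29), (29, 30), (29, 9), (30, 30), (31, 31), (34, 34), (29, 10), (21, 36), (33, 37), (38, 29), (38, 30), (38, 38), (38, 41), (39, 39), (43, 43), (29, 40), (44, 45), (46, 38), (38, 47), (29, 32), (17, 49), (35, 50), (42, 51), (52, 41), (52, 53), (52, 29), (38, 55), (3, 1), (57, 56), (58, 48), (59, 54)], 60)]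

theorem l23_ok_7 : l23Chunk7.all l23Good = true := by decide +kernel

def l23Chunk8 : List (List ℕ × List (ℕ × ℕ) × ℕ) := [
  ([20, 21, 13, 18, 9, 5, 10, 22, 8, 4, 6, 12, 11, 2, 14, 15, 16, 17, 3, 19, 0, 1, 7, 23], [(0, 0), (1, 1), (1, 4), (1, 5), (1, 6), (1, 7), (1, 8), (1, 9), (1, 10), (11, 11), (12, 12), (13, 13), (12, 14), (2, 0), (16, 16), (17, 17), (18, 18), (17, 19), (0, 2), (20, 21), (15, 22), (23, 1), (1, 24), (25, 25), (26, 26), (27, 27), (26, 28), (23, 5), (29, 30), (31, 23), (23, 31), (31, 31), (31, 33), (32, 32), (36, 36), (31, 32), (38, 38), (39, 39), (40, 40), (35, 35), (42, 42), (23, 34), (43, 44), (40, 45), (46, 46), (47, 47), (46, 38), (41, 49), (48, 50), (51, 46), (1, 25), (53, 23), (53, 31), (37, 55), (56, 38), (38, 57), (57, 57), (38, 56), (59, 60), (61, 52), (3, 1), (63, 54), (64, 58), (65, 62)], 66),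
  ([9, 22, 11, 6, 20, 5, 3, 21, 8, 0, 18, 2, 13, 12, 14, 15, 16, 17, 10, 19, 4, 7, 1, 23], [(0, 0), (1, 1), (1, 4), (1, 5), (1, 6), (1, 7), (1, 8), (1, 9), (1, 10), (1, 11), (4, 4), (13, 13), (4, 14), (12, 12), (16, 16), (17, 17), (16, 18), (2, 0), (0, 20), (19, 21), (22, 5), (15, 23), (24, 22), (22, 24), (24, 24), (22, 25), (28, 28), (28, 29), (29, 29), (22, 26), (27, 32), (33, 28), (28, 33), (33, 30), (28, 36), (34, 34), (28, 35), (38, 39), (40, 40), (33, 35), (31, 42), (43, 40), (41, 44), (3, 1), (46, 27), (47, 37), (48, 40), (49, 45)], 50),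
  ([12, 10, 4, 7, 2, 5, 21, 3, 8, 13, 1, 20, 0, 9, 14, 15, 16, 17, 22, 19, 11, 6, 18, 23], [(0, 0), (3, 3), (3, 4), (4, 4), (6, 6), (5, 7), (1, 2), (8, 9), (10, 1), (1, 10), (10, 10), (13, 13), (11, 11), (15, 15), (13, 14), (1, 11), (17, 18), (19, 19), (20, 20), (1, 12), (16, 22), (19, 23), (23, 23), (23, 24), (19, 26), (23, 27), (25, 25), (23, 19), (21, 30), (31, 31), (31, 32), (24, 24), (34, 34), (34, 35), (29, 29), (19, 25), (37, 38), (39, 31), (33, 40), (32, 41), (42, 42), (23, 25), (36, 44), (45, 31), (46, 46), (47, 47), (39, 45), (48, 49), (43, 50), (51, 51), (51, 41), (32, 53), (3, 1), (55, 28), (56, 54), (57, 52)], 58),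
  ([7, 4, 10, 12, 1, 5, 13, 0, 8, 21, 2, 18, 3, 6, 14, 15, 16, 17, 11, 19, 22, 9, 20, 23], [(0, 0), (1, 3), (1, 1), (1, 5), (1, 6), (1, 7), (1, 8), (1, 9), (1, 10), (1, 11), (1, 12), (5, 5), (14, 14), (15, 15), (14, 16), (13, 13), (18, 18), (19, 19), (18, 20), (2, 0), (22, 22), (23, 23), (23, 24), (24, 24), (26, 26), (25, 27), (28, 4), (21, 29), (30, 5), (17, 31), (32, 30), (30, 32), (32, 32), (30, 33), (32, 33), (32, 34), (35, 35), (33, 33), (40, 40), (39, 39), (30, 34), (42, 43), (44, 44), (45, 45), (38, 38), (47, 47), (30, 36), (48, 49), (50, 44), (50, 45), (45, 52), (30, 37), (41, 54), (45, 55), (53, 56), (56, 56), (53, 57), (53, 58), (56, 50), (59, 59), (56, 51), (46, 63), (62, 64), (3, 1), (66, 32), (67, 61), (68, 60), (69, 65)], 70),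
  ([13, 18, 20, 21, 11, 5, 7, 6, 8, 12, 22, 4, 9, 0, 14, 15, 16, 17, 1, 19, 2, 3, 10, 23], [(0, 0), (0, 3), (1, 1), (1, 5), (5, 5), (7, 7), (5, 8), (6, 6), (10, 10), (11, 11), (10, 12), (1, 2), (14, 14), (15, 15), (15, 16), (16, 16), (17, 18), (19, 4), (20, 1), (20, 20), (20, 22), (20, 21), (9, 24), (25, 25), (13, 23), (27, 25), (25, 27), (27, 27), (25, 28), (25, 31), (30, 30), (31, 31), (34, 34), (34, 35), (25, 29), (33, 37), (38, 26), (27, 31), (36, 40), (41, 26), (41, 41), (41, 39), (42, 42), (42, 45), (44, 44), (26, 42), (47, 48), (49, 38), (38, 49), (38, 50), (49, 51), (53, 53), (38, 42), (46, 55), (54, 56), (57, 57), (3, 1), (59, 32), (60, 43), (61, 52), (62, 58)], 63)]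

theorem l23_ok_8 : l23Chunk8.all l23Good = true := by decide +kernel

def l23Chunk9 : List (List ℕ × List (ℕ × ℕ) × ℕ) := [
  ([18, 2, 1, 20, 9, 19, 10, 7, 8, 4, 6, 11, 12, 21, 14, 15, 17, 16, 0, 5, 3, 13, 22, 23], [(0, 0), (3, 3), (4, 4), (5, 5), (4, 5), (6, 6), (7, 8), (1, 1), (1, 10), (1, 11), (10, 10), (13, 13), (10, 14), (2, 0), (9, 16), (17, 17), (18, 18), (19, 19), (19, 20), (21, 12), (22, 22), (22, 23), (24, 24), (25, 25), (25, 26), (17, 11), (15, 28), (29, 22), (22, 29), (29, 29), (22, 30), (22, 31), (29, 34), (22, 35), (33, 33), (37, 37), (29, 30), (27, 39), (40, 40), (40, 41), (40, 42), (43, 43), (44, 44), (22, 32), (45, 46), (47, 47), (47, 40), (40, 49), (49, 49), (51, 42), (52, 48), (50, 50), (54, 54), (29, 32), (38, 56), (57, 49), (55, 58), (59, 59), (3, 1), (61, 36), (62, 41), (63, 53), (64, 60)], 65),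
  ([3, 21, 13, 0, 6, 16, 4, 7, 8, 10, 9, 11, 12, 2, 14, 15, 5, 19, 20, 17, 18, 1, 22, 23], [(0, 0), (0, 3), (1, 1), (1, 5), (1, 6), (1, 7), (1, 8), (1, 9), (1, 10), (1, 11), (5, 5), (13, 13), (14, 14), (13, 15), (12, 12), (17, 17), (18, 18), (17, 19), (2, 4), (20, 21), (22, 22), (22, 1), (23, 23), (22, 24), (16, 26), (27, 22), (22, 27), (22, 28), (27, 29), (29, 29), (32, 32), (27, 23), (33, 34), (35, 35), (35, 36), (37, 37), (38, 38), (27, 28), (25, 40), (41, 35), (35, 42), (41, 37), (41, 43), (45, 45), (46, 46), (35, 44), (47, 48), (49, 41), (31, 31), (51, 51), (22, 30), (52, 53), (39, 54), (55, 49), (41, 56), (55, 36), (41, 58), (55, 55), (50, 60), (3, 1), (62, 31), (63, 59), (64, 57), (65, 61)], 66),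
  ([2, 18, 0, 13, 19, 9, 17, 7, 8, 5, 16, 11, 12, 3, 14, 15, 10, 6, 1, 4, 21, 20, 22, 23], [(0, 0), (1, 1), (1, 4), (1, 5), (1, 6), (1, 7), (1, 8), (9, 9), (10, 10), (11, 11), (10, 12), (2, 3), (13, 14), (15, 15), (15, 1), (15, 4), (1, 17), (15, 17), (16, 16), (20, 20), (22, 22), (1, 19), (23, 24), (25, 15), (15, 25), (25, 25), (15, 27), (25, 28), (27, 27), (27, 31), (25, 16), (21, 33), (25, 26), (32, 35), (36, 34), (34, 36), (34, 37), (34, 38), (34, 40), (36, 36), (42, 42), (37, 37), (37, 44), (38, 38), (38, 46), (47, 42), (34, 39), (45, 49), (50, 48), (30, 30), (52, 52), (52, 53), (15, 29), (54, 55), (43, 56), (57, 48), (51, 58), (2, 18), (60, 16), (61, 41), (62, 57), (63, 59)], 64),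
  ([17, 10, 6, 19, 13, 20, 2, 7, 8, 21, 1, 11, 12, 4, 14, 15, 18, 0, 16, 3, 5, 9, 22, 23], [(0, 0), (2, 0), (1, 2), (5, 5), (6, 6), (6, 7), (7, 7), (8, 9), (0, 4), (10, 11), (1, 12), (12, 12), (12, 13), (12, 1), (16, 16), (16, 17), (16, 18), (15, 15), (20, 20), (20, 21), (1, 14), (22, 23), (24, 16), (16, 24), (24, 26), (16, 25), (27, 27), (29, 19), (28, 30), (30, 30), (28, 31), (30, 31), (30, 32), (30, 33), (28, 34), (30, 34), (30, 36), (38, 38), (40, 40), (28, 35), (41, 42), (43, 28), (39, 39), (28, 37), (45, 46), (47, 43), (48, 48), (3, 1), (50, 16), (51, 36), (52, 44), (53, 49)], 54),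
  ([19, 9, 4, 17, 2, 18, 13, 7, 8, 1, 21, 11, 12, 6, 14, 15, 20, 3, 5, 0, 16, 10, 22, 23], [(0, 0), (1, 3), (1, 1), (1, 5), (1, 6), (1, 7), (1, 8), (5, 5), (10, 10), (5, 11), (9, 9), (13, 13), (14, 14), (13, 15), (4, 4), (17, 17), (18, 18), (17, 19), (2, 3), (20, 21), (16, 22), (23, 23), (23, 24), (23, 1), (1, 26), (24, 24), (28, 28), (23, 27), (12, 30), (23, 31), (31, 31), (31, 24), (23, 32), (31, 33), (23, 35), (23, 37), (33, 33), (31, 23), (29, 40), (41, 41), (41, 42), (41, 43), (43, 43), (45, 45), (44, 44), (47, 47), (39, 39), (49, 25), (48, 50), (51, 41), (51, 42), (41, 52), (41, 53), (41, 54), (41, 55), (41, 56), (57, 57), (51, 56), (59, 60), (36, 36), (62, 62), (23, 34), (63, 64), (46, 65), (61, 66), (67, 51), (51, 68), (3, 1), (70, 38), (71, 58), (72, 69), (73, 67)], 74)]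

theorem l23_ok_9 : l23Chunk9.all l23Good = true := by decide +kernel

def l23Chunk10 : List (List ℕ × List (ℕ × ℕ) × ℕ) := [
  ([1, 0, 18, 21, 5, 4, 16, 7, 8, 19, 17, 11, 12, 20, 14, 15, 6, 10, 2, 9, 13, 3, 22, 23], [(0, 0), (3, 3), (3, 4), (4, 4), (6, 6), (5, 7), (1, 1), (9, 9), (10, 10), (11, 11), (10, 12), (8, 2), (1, 14), (14, 14), (15, 15), (17, 17), (18, 18), (17, 19), (20, 16), (21, 21), (21, 22), (23, 23), (24, 24), (14, 9), (13, 26), (27, 21), (21, 27), (27, 23), (28, 28), (31, 31), (31, 32), (27, 22), (25, 34), (35, 35), (35, 36), (21, 29), (33, 38), (39, 35), (39, 39), (35, 40), (41, 41), (35, 42), (43, 44), (3, 1), (46, 30), (47, 37), (48, 45)], 49),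
  ([5, 4, 9, 16, 1, 0, 21, 7, 8, 2, 13, 11, 12, 10, 14, 15, 3, 20, 19, 18, 17, 6, 22, 23], [(0, 0), (1, 3), (1, 1), (2, 0), (6, 6), (7, 7), (6, 8), (9, 4), (10, 1), (1, 10), (10, 5), (1, 11), (13, 13), (15, 15), (15, 16), (14, 14), (18, 18), (18, 19), (1, 12), (17, 21), (22, 22), (22, 23), (24, 24), (25, 25), (25, 26), (10, 12), (20, 28), (29, 22), (22, 29), (29, 23), (22, 31), (29, 29), (32, 32), (35, 35), (35, 36), (22, 30), (37, 38), (39, 34), (39, 39), (40, 40), (40, 42), (29, 31), (27, 44), (45, 34), (45, 45), (45, 41), (45, 47), (45, 39), (43, 50), (51, 51), (52, 52), (34, 45), (49, 54), (55, 51), (53, 56), (57, 57), (34, 46), (47, 59), (51, 60), (3, 1), (62, 33), (63, 48), (64, 61), (65, 58)], 66),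
  ([4, 5, 19, 6, 0, 1, 3, 7, 8, 18, 20, 11, 12, 17, 14, 15, 21, 13, 9, 2, 10, 16, 22, 23], [(0, 0), (1, 1), (4, 4), (5, 5), (4, 6), (2, 0), (8, 8), (9, 9), (9, 10), (10, 10), (11, 12), (0, 2), (13, 14), (7, 15), (16, 16), (17, 17), (18, 18), (16, 4), (7, 20), (16, 21), (21, 17), (16, 22), (21, 16), (19, 25), (26, 26), (22, 22), (28, 28), (28, 29), (23, 23), (31, 31), (31, 32), (21, 22), (30, 34), (26, 35), (35, 27), (26, 36), (26, 37), (35, 26), (27, 40), (41, 41), (39, 39), (16, 24), (33, 44), (43, 45), (46, 46), (46, 27), (48, 48), (49, 49), (50, 38), (47, 51), (52, 42), (3, 1), (54, 17), (55, 48), (56, 53)], 57),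
  ([6, 16, 17, 4, 3, 21, 0, 7, 8, 20, 18, 11, 12, 19, 14, 15, 1, 2, 10, 13, 9, 5, 22, 23], [(0, 0), (1, 1), (1, 4), (1, 5), (1, 6), (5, 5), (8, 8), (9, 9), (8, 10), (2, 0), (2, 3), (13, 13), (14, 14), (14, 15), (15, 15), (17, 17), (16, 18), (0, 12), (19, 20), (11, 21), (22, 22), (22, 1), (22, 4), (22, 24), (22, 5), (26, 26), (28, 28), (26, 29), (27, 27), (1, 25), (30, 32), (33, 22), (22, 33), (33, 23), (33, 33), (35, 35), (35, 38), (36, 36), (36, 40), (22, 34), (41, 42), (43, 37), (37, 43), (44, 44), (31, 7), (47, 23), (47, 33), (39, 49), (50, 37), (50, 44), (43, 51), (37, 52), (50, 50), (51, 51), (56, 56), (46, 55), (58, 58), (37, 51), (57, 60), (53, 53), (62, 62), (50, 45), (63, 64), (65, 65), (65, 59), (61, 67), (3, 1), (69, 48), (70, 54), (71, 68), (72, 66)], 73),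
  ([20, 13, 21, 18, 10, 17, 9, 7, 8, 6, 4, 11, 12, 1, 14, 15, 19, 5, 3, 16, 0, 2, 22, 23], [(0, 0), (1, 1), (1, 4), (4, 4), (6, 6), (7, 7), (6, 8), (5, 5), (10, 10), (11, 11), (10, 12), (0, 2), (14, 14), (15, 15), (15, 16), (16, 16), (17, 18), (2, 3), (19, 20), (21, 21), (21, 22), (21, 4), (13, 24), (25, 25), (26, 26), (27, 27), (9, 23), (29, 25), (25, 29), (29, 29), (30, 30), (33, 33), (28, 32), (35, 35), (29, 26), (27, 37), (38, 35), (35, 38), (38, 38), (38, 36), (35, 39), (40, 40), (44, 44), (38, 39), (38, 43), (45, 47), (48, 46), (25, 30), (34, 50), (51, 35), (52, 52), (53, 53), (54, 41), (55, 48), (55, 49), (46, 57), (58, 58), (3, 1), (60, 31), (61, 42), (62, 56), (63, 59)], 64)]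

theorem l23_ok_10 : l23Chunk10.all l23Good = true := by decide +kernel

def l23Chunk11 : List (List ℕ × List (ℕ × ℕ) × ℕ) := [
  ([21, 3, 20, 1, 16, 6, 5, 7, 8, 17, 19, 11, 12, 18, 14, 15, 4, 9, 13, 10, 2, 0, 22, 23], [(0, 0), (0, 3), (2, 0), (5, 5), (5, 6), (6, 6), (7, 8), (9, 4), (10, 1), (1, 10), (10, 10), (12, 12), (14, 14), (14, 15), (10, 11), (16, 17), (18, 18), (18, 19), (1, 13), (20, 21), (22, 18), (22, 19), (22, 20), (18, 24), (22, 24), (24, 24), (28, 28), (18, 23), (29, 30), (31, 22), (22, 32), (31, 32), (22, 34), (31, 31), (34, 34), (37, 37), (22, 33), (38, 39), (35, 35), (41, 41), (27, 27), (43, 43), (43, 44), (18, 25), (45, 46), (42, 47), (48, 36), (48, 49), (48, 31), (22, 51), (48, 40), (40, 53), (3, 1), (55, 26), (56, 52), (57, 50), (58, 54)], 59),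
  ([13, 20, 3, 2, 17, 10, 19, 7, 8, 16, 5, 11, 12, 0, 14, 15, 9, 4, 21, 6, 1, 18, 22, 23], [(0, 0), (0, 3), (1, 1), (1, 5), (1, 6), (1, 7), (1, 8), (1, 9), (1, 10), (11, 11), (12, 12), (13, 13), (12, 14), (1, 2), (16, 16), (17, 17), (17, 18), (19, 4), (15, 20), (21, 21), (21, 1), (1, 23), (21, 23), (24, 24), (26, 26), (27, 27), (26, 28), (21, 24), (29, 30), (31, 21), (32, 32), (33, 33), (1, 25), (35, 35), (31, 36), (31, 37), (35, 36), (21, 35), (39, 40), (41, 41), (41, 32), (34, 43), (35, 22), (42, 45), (46, 44), (44, 46), (44, 48), (46, 33), (32, 50), (49, 49), (46, 41), (42, 53), (52, 54), (3, 1), (56, 38), (57, 51), (58, 47), (59, 55)], 60),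
  ([9, 19, 5, 10, 18, 2, 20, 7, 8, 0, 3, 11, 12, 16, 14, 15, 13, 21, 4, 1, 6, 17, 22, 23], [(0, 0), (1, 1), (1, 4), (1, 5), (1, 6), (1, 7), (1, 8), (1, 9), (1, 10), (1, 11), (12, 12), (13, 13), (14, 14), (13, 15), (2, 0), (0, 2), (0, 17), (19, 19), (20, 20), (20, 21), (21, 21), (22, 23), (1, 18), (24, 25), (16, 26), (27, 27), (27, 28), (27, 1), (1, 30), (29, 29), (29, 32), (31, 31), (34, 34), (27, 5), (35, 36), (37, 27), (27, 37), (37, 37), (27, 40), (38, 38), (38, 42), (39, 39), (39, 44), (37, 28), (45, 46), (27, 39), (43, 48), (47, 49), (49, 49), (50, 50), (52, 52), (49, 51), (53, 54), (37, 39), (33, 56), (57, 55), (3, 1), (59, 41), (60, 58)], 61),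
  ([10, 17, 16, 9, 20, 13, 18, 7, 8, 3, 0, 11, 12, 5, 14, 15, 2, 1, 6, 21, 4, 19, 22, 23], [(0, 0), (1, 1), (1, 4), (4, 4), (6, 6), (4, 7), (5, 5), (9, 9), (10, 10), (9, 11), (2, 0), (0, 2), (14, 14), (15, 15), (14, 16), (16, 16), (17, 18), (1, 13), (19, 20), (12, 21), (22, 4), (8, 23), (24, 22), (24, 24), (22, 25), (24, 25), (24, 28), (22, 29), (25, 25), (31, 31), (31, 32), (22, 24), (33, 34), (35, 35), (36, 36), (27, 27), (38, 38), (38, 39), (24, 26), (40, 41), (42, 35), (35, 42), (42, 42), (42, 36), (35, 43), (42, 43), (35, 44), (35, 45), (35, 50), (47, 47), (47, 52), (48, 48), (54, 54), (35, 46), (55, 56), (57, 57), (42, 46), (53, 59), (60, 58), (57, 61), (42, 49), (37, 63), (61, 64), (3, 1), (66, 30), (67, 51), (68, 62), (69, 65)], 70),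
  ([16, 6, 10, 5, 21, 3, 1, 7, 8, 13, 2, 11, 12, 9, 14, 15, 0, 18, 17, 20, 19, 4, 22, 23], [(0, 0), (1, 1), (1, 4), (1, 5), (1, 6), (1, 7), (1, 8), (1, 9), (10, 10), (11, 11), (12, 12), (11, 13), (0, 2), (0, 15), (16, 16), (16, 17), (17, 17), (18, 19), (2, 15), (20, 21), (14, 22), (23, 23), (23, 1), (24, 24), (1, 25), (23, 27), (27, 23), (29, 29), (27, 24), (26, 31), (32, 29), (32, 32), (32, 30), (29, 33), (32, 33), (29, 35), (32, 35), (29, 38), (29, 32), (34, 41), (36, 36), (43, 43), (39, 39), (45, 45), (32, 36), (44, 47), (48, 42), (48, 48), (42, 50), (29, 37), (46, 52), (49, 53), (54, 54), (3, 1), (56, 28), (57, 40), (58, 51), (59, 55)], 60)]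

theorem l23_ok_11 : l23Chunk11.all l23Good = true := by decide +kernel

def l23Chunk12 : List (List ℕ × List (ℕ × ℕ) × ℕ) := [
  ([2, 21, 0, 13, 4, 10, 6, 7, 22, 16, 5, 11, 14, 3, 12, 15, 9, 17, 20, 19, 18, 1, 8, 23], [(0, 0), (1, 1), (1, 4), (1, 5), (1, 6), (1, 7), (1, 8), (4, 4), (10, 10), (11, 11), (10, 12), (9, 9), (14, 14), (15, 15), (14, 16), (2, 3), (17, 18), (19, 19), (19, 20), (20, 20), (22, 22), (19, 4), (13, 24), (25, 19), (25, 20), (19, 26), (25, 21), (25, 25), (30, 30), (23, 30), (32, 32), (33, 33), (29, 29), (35, 35), (35, 36), (19, 27), (37, 38), (32, 39), (39, 39), (39, 33), (39, 40), (39, 42), (41, 41), (32, 40), (45, 46), (47, 47), (44, 44), (19, 28), (31, 50), (49, 51), (52, 52), (52, 43), (52, 32), (34, 55), (53, 56), (57, 48), (2, 4), (59, 20), (60, 54), (61, 58), (62, 57)], 63),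
  ([18, 13, 20, 21, 4, 14, 6, 7, 16, 22, 12, 11, 10, 1, 5, 15, 8, 17, 0, 19, 2, 3, 9, 23], [(0, 0), (1, 1), (1, 4), (1, 5), (2, 0), (7, 7), (8, 8), (7, 9), (9, 9), (10, 11), (1, 2), (12, 13), (14, 1), (14, 4), (14, 15), (15, 15), (18, 18), (19, 19), (18, 20), (17, 17), (22, 22), (21, 6), (24, 24), (25, 25), (1, 16), (23, 27), (24, 28), (28, 25), (24, 29), (24, 31), (28, 24), (26, 33), (34, 34), (30, 30), (36, 36), (36, 37), (24, 30), (38, 39), (40, 34), (34, 41), (40, 42), (40, 40), (35, 44), (45, 45), (3, 1), (47, 32), (48, 43), (49, 46)], 50),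
  ([10, 22, 5, 16, 4, 2, 6, 7, 21, 13, 0, 11, 18, 9, 20, 15, 3, 17, 12, 19, 14, 8, 1, 23], [(0, 0), (1, 1), (1, 4), (1, 5), (1, 6), (1, 7), (1, 8), (1, 9), (1, 10), (11, 11), (12, 12), (13, 13), (12, 14), (2, 0), (0, 16), (15, 17), (18, 18), (18, 1), (1, 20), (19, 19), (22, 22), (21, 21), (24, 24), (24, 25), (18, 20), (26, 27), (28, 18), (18, 29), (28, 29), (23, 31), (32, 32), (32, 33), (32, 34), (28, 30), (22, 36), (32, 37), (37, 37), (32, 38), (37, 38), (32, 39), (41, 41), (43, 43), (42, 42), (45, 45), (37, 39), (46, 47), (48, 48), (49, 49), (44, 35), (50, 51), (52, 48), (3, 1), (54, 18), (55, 40), (56, 53), (57, 52)], 58),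
  ([13, 18, 3, 2, 4, 16, 6, 7, 14, 10, 9, 11, 22, 0, 8, 15, 5, 17, 1, 19, 21, 20, 12, 23], [(0, 0), (0, 3), (1, 1), (1, 5), (1, 6), (1, 7), (1, 8), (1, 9), (1, 10), (5, 5), (12, 12), (13, 13), (12, 14), (11, 11), (16, 16), (17, 17), (16, 18), (1, 2), (20, 20), (21, 21), (21, 22), (22, 22), (24, 24), (23, 25), (26, 4), (19, 27), (28, 28), (28, 1), (29, 29), (28, 30), (15, 32), (33, 28), (28, 33), (28, 34), (33, 35), (35, 35), (38, 38), (33, 29), (39, 40), (41, 41), (41, 42), (43, 43), (44, 44), (33, 34), (31, 46), (47, 41), (41, 48), (47, 43), (47, 49), (51, 51), (52, 52), (41, 50), (53, 54), (55, 47), (37, 37), (57, 57), (28, 36), (58, 59), (45, 60), (61, 55), (47, 62), (61, 42), (47, 64), (61, 61), (56, 66), (3, 1), (68, 37), (69, 65), (70, 63), (71, 67)], 72),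
  ([1, 0, 21, 20, 4, 8, 6, 7, 5, 12, 22, 11, 9, 18, 16, 15, 14, 17, 13, 19, 3, 2, 10, 23], [(0, 0), (3, 3), (3, 4), (4, 4), (6, 6), (5, 7), (1, 1), (9, 9), (10, 10), (9, 11), (8, 2), (13, 1), (1, 13), (13, 14), (12, 16), (17, 17), (13, 15), (19, 17), (19, 19), (17, 20), (19, 22), (21, 21), (24, 24), (19, 18), (18, 26), (17, 21), (25, 28), (29, 27), (27, 29), (29, 29), (27, 30), (33, 33), (34, 34), (29, 31), (35, 36), (3, 1), (38, 23), (39, 32), (40, 37)], 41)]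

theorem l23_ok_12 : l23Chunk12.all l23Good = true := by decide +kernel

def l23Chunk13 : List (List ℕ × List (ℕ × ℕ) × ℕ) := [
  ([5, 8, 10, 9, 4, 0, 6, 7, 1, 3, 2, 11, 20, 16, 18, 15, 13, 17, 14, 19, 12, 22, 21, 23], [(0, 0), (1, 1), (1, 4), (1, 5), (1, 6), (1, 7), (1, 8), (9, 9), (10, 10), (11, 11), (10, 12), (1, 2), (14, 14), (15, 15), (16, 16), (15, 17), (2, 3), (18, 19), (13, 20), (21, 21), (21, 22), (21, 1), (21, 4), (1, 24), (26, 26), (27, 27), (26, 28), (21, 25), (29, 30), (31, 21), (31, 31), (31, 22), (33, 33), (32, 32), (36, 36), (21, 31), (37, 38), (39, 39), (40, 40), (35, 35), (35, 42), (43, 23), (44, 39), (39, 44), (39, 45), (44, 46), (46, 46), (44, 45), (41, 50), (44, 47), (49, 52), (34, 34), (54, 54), (21, 32), (55, 56), (41, 57), (58, 51), (51, 59), (53, 60), (58, 53), (3, 1), (63, 21), (64, 48), (65, 61), (66, 62)], 67),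
  ([21, 2, 1, 18, 4, 22, 6, 7, 10, 14, 8, 11, 16, 20, 9, 15, 12, 17, 3, 19, 13, 0, 5, 23], [(0, 0), (3, 3), (4, 4), (5, 5), (4, 5), (6, 6), (7, 8), (2, 0), (9, 10), (11, 1), (1, 11), (11, 11), (11, 12), (14, 14), (16, 16), (17, 17), (16, 18), (15, 15), (20, 20), (1, 13), (19, 22), (23, 23), (23, 24), (25, 25), (26, 26), (26, 27), (1, 14), (21, 29), (28, 30), (31, 31), (31, 32), (31, 23), (31, 24), (23, 34), (31, 34), (31, 25), (31, 36), (31, 39), (32, 32), (37, 37), (42, 42), (38, 38), (44, 44), (23, 35), (43, 46), (47, 31), (47, 33), (31, 49), (47, 32), (50, 50), (52, 52), (23, 37), (45, 54), (53, 55), (56, 51), (57, 57), (56, 31), (41, 59), (60, 56), (58, 61), (62, 62), (3, 1), (64, 40), (65, 48), (66, 63)], 67),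
  ([22, 10, 8, 14, 4, 21, 6, 7, 2, 18, 1, 11, 13, 12, 3, 15, 20, 17, 9, 19, 16, 5, 0, 23], [(0, 0), (0, 2), (1, 4), (4, 4), (4, 5), (7, 7), (7, 8), (1, 6), (7, 10), (10, 9), (10, 12), (7, 13), (10, 10), (11, 11), (16, 16), (16, 17), (18, 15), (19, 19), (10, 8), (21, 19), (19, 21), (21, 21), (19, 22), (21, 22), (21, 23), (21, 25), (21, 20), (20, 29), (27, 27), (31, 31), (19, 24), (32, 33), (34, 30), (34, 34), (28, 28), (19, 26), (37, 38), (39, 34), (36, 40), (3, 1), (42, 14), (43, 25), (44, 35), (45, 41)], 46),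
  ([9, 12, 16, 5, 4, 3, 6, 7, 20, 0, 13, 11, 1, 10, 21, 15, 2, 17, 22, 19, 8, 14, 18, 23], [(0, 0), (3, 3), (3, 4), (4, 4), (6, 6), (5, 7), (1, 1), (1, 9), (9, 9), (11, 11), (12, 12), (11, 13), (10, 10), (15, 15), (16, 16), (15, 17), (2, 0), (1, 19), (8, 20), (18, 21), (22, 22), (22, 23), (22, 1), (14, 25), (26, 22), (22, 26), (26, 23), (22, 27), (26, 28), (26, 24), (30, 30), (33, 33), (33, 34), (26, 27), (35, 36), (37, 37), (31, 31), (31, 39), (22, 29), (40, 41), (42, 37), (37, 42), (42, 42), (42, 44), (42, 46), (43, 43), (48, 48), (37, 44), (49, 50), (46, 46), (37, 45), (52, 53), (54, 38), (54, 51), (56, 56), (3, 1), (58, 32), (59, 47), (60, 55), (61, 57)], 62),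
  ([20, 3, 18, 1, 4, 12, 6, 7, 9, 8, 14, 11, 5, 21, 10, 15, 22, 17, 2, 19, 0, 13, 16, 23], [(0, 0), (0, 3), (1, 1), (1, 5), (1, 6), (1, 7), (1, 8), (1, 9), (1, 10), (5, 5), (12, 12), (5, 13), (11, 11), (15, 15), (16, 16), (15, 17), (2, 0), (19, 19), (20, 20), (21, 21), (20, 22), (23, 4), (18, 24), (25, 25), (25, 26), (27, 27), (28, 28), (25, 5), (14, 30), (31, 25), (25, 31), (31, 31), (31, 26), (25, 32), (31, 32), (34, 34), (38, 38), (38, 39), (37, 37), (41, 41), (31, 33), (29, 43), (44, 44), (45, 45), (25, 35), (42, 47), (45, 48), (49, 44), (44, 50), (49, 51), (50, 50), (50, 53), (25, 36), (40, 55), (46, 56), (49, 57), (49, 58), (57, 50), (54, 60), (61, 49), (3, 1), (63, 34), (64, 52), (65, 59), (66, 62)], 67)]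

theorem l23_ok_13 : l23Chunk13.all l23Good = true := by decide +kernel

def l23Chunk14 : List (List ℕ × List (ℕ × ℕ) × ℕ) := [
  ([14, 16, 12, 22, 4, 18, 6, 7, 13, 21, 20, 11, 2, 8, 0, 15, 1, 17, 5, 19, 10, 9, 3, 23], [(0, 0), (1, 1), (1, 4), (1, 5), (4, 4), (7, 7), (8, 8), (7, 9), (2, 0), (0, 2), (11, 11), (13, 13), (11, 14), (14, 14), (15, 16), (0, 12), (17, 18), (10, 19), (20, 20), (20, 1), (20, 22), (21, 21), (24, 24), (23, 23), (26, 26), (26, 27), (28, 6), (25, 29), (30, 30), (30, 21), (20, 32), (33, 33), (34, 34), (30, 32), (35, 36), (37, 30), (30, 37), (37, 31), (30, 38), (30, 41), (37, 42), (40, 40), (44, 44), (37, 38), (31, 46), (37, 39), (48, 47), (47, 48), (47, 49), (30, 40), (45, 52), (53, 48), (54, 51), (3, 1), (56, 33), (57, 43), (58, 50), (59, 55)], 60),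
  ([12, 9, 14, 8, 4, 20, 6, 7, 3, 1, 18, 11, 0, 22, 2, 15, 21, 17, 10, 19, 5, 16, 13, 23], [(0, 0), (3, 3), (3, 4), (4, 4), (6, 6), (5, 7), (1, 1), (9, 9), (10, 10), (11, 11), (10, 12), (1, 2), (8, 14), (1, 15), (1, 16), (15, 16), (15, 1), (13, 19), (20, 20), (20, 21), (20, 22), (22, 22), (24, 24), (24, 25), (18, 18), (27, 27), (18, 28), (1, 17), (29, 30), (31, 20), (20, 31), (31, 21), (20, 32), (31, 33), (34, 34), (37, 37), (37, 38), (35, 35), (40, 40), (40, 41), (39, 23), (31, 22), (26, 44), (45, 43), (43, 45), (43, 46), (43, 47), (45, 48), (45, 45), (47, 47), (52, 52), (53, 51), (45, 46), (48, 55), (56, 54), (50, 50), (58, 58), (31, 34), (42, 60), (59, 61), (54, 62), (56, 63), (62, 49), (62, 57), (54, 66), (3, 1), (68, 36), (69, 65), (70, 64), (71, 67)], 72),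
  ([8, 5, 22, 12, 4, 1, 6, 7, 0, 20, 21, 11, 3, 14, 13, 15, 18, 17, 16, 19, 9, 10, 2, 23], [(0, 0), (1, 1), (4, 4), (5, 5), (4, 6), (2, 0), (0, 2), (1, 8), (10, 10), (10, 11), (11, 11), (12, 13), (0, 9), (14, 15), (1, 16), (16, 16), (16, 17), (16, 1), (7, 20), (19, 19), (19, 22), (22, 22), (23, 24), (1, 18), (25, 26), (27, 21), (21, 27), (27, 27), (21, 28), (27, 28), (27, 31), (21, 33), (30, 30), (32, 32), (21, 29), (35, 37), (27, 29), (39, 38), (38, 39), (39, 39), (39, 40), (39, 41), (38, 43), (38, 44), (42, 42), (38, 42), (47, 48), (46, 46), (50, 50), (39, 45), (51, 52), (21, 30), (36, 54), (51, 55), (56, 53), (49, 57), (53, 58), (56, 40), (56, 60), (39, 61), (56, 49), (63, 63), (3, 1), (65, 34), (66, 62), (67, 59), (68, 64)], 69),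
  ([16, 14, 9, 10, 4, 13, 6, 7, 18, 2, 3, 11, 21, 5, 1, 15, 0, 17, 8, 19, 22, 12, 20, 23], [(0, 0), (1, 1), (1, 4), (1, 5), (1, 6), (1, 7), (1, 8), (9, 9), (10, 10), (11, 11), (10, 12), (1, 2), (14, 14), (15, 15), (15, 16), (16, 16), (17, 18), (2, 3), (19, 20), (13, 21), (22, 22), (22, 23), (22, 24), (22, 25), (22, 1), (1, 27), (24, 24), (29, 29), (29, 30), (1, 28), (31, 32), (33, 33), (33, 22), (22, 35), (33, 35), (33, 24), (33, 36), (38, 38), (40, 40), (22, 37), (41, 42), (34, 43), (44, 33), (33, 45), (33, 46), (44, 47), (44, 48), (46, 46), (46, 50), (39, 26), (51, 52), (53, 44), (53, 54), (53, 33), (33, 56), (53, 56), (54, 54), (58, 58), (60, 60), (44, 57), (61, 62), (59, 63), (3, 1), (65, 39), (66, 49), (67, 55), (68, 64)], 69),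
  ([3, 20, 13, 0, 4, 9, 6, 7, 12, 5, 16, 11, 8, 2, 22, 15, 10, 17, 21, 19, 1, 18, 14, 23], [(0, 0), (0, 3), (1, 1), (1, 5), (5, 5), (7, 7), (8, 8), (7, 9), (2, 4), (10, 11), (12, 12), (12, 13), (12, 14), (12, 15), (12, 16), (12, 1), (13, 13), (19, 19), (19, 20), (14, 14), (22, 22), (22, 23), (17, 17), (25, 25), (25, 26), (18, 18), (28, 28), (29, 6), (27, 30), (31, 13), (21, 32), (33, 33), (31, 14), (24, 35), (34, 36), (37, 31), (33, 38), (3, 1), (40, 16), (41, 39), (42, 37)], 43)]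

theorem l23_ok_14 : l23Chunk14.all l23Good = true := by decide +kernel

def l23Chunk15 : List (List ℕ × List (ℕ × ℕ) × ℕ) := [
  ([0, 20, 2, 4, 3, 7, 13, 5, 21, 9, 15, 11, 22, 6, 18, 10, 16, 17, 14, 19, 1, 8, 12, 23], [(0, 0), (1, 1), (1, 4), (1, 5), (4, 4), (7, 7), (4, 8), (6, 6), (10, 10), (11, 11), (10, 12), (1, 2), (1, 14), (2, 1), (9, 16), (14, 14), (14, 18), (18, 18), (19, 20), (15, 15), (22, 22), (2, 14), (21, 24), (25, 17), (2, 15), (23, 27), (26, 28), (29, 29), (29, 17), (29, 25), (31, 31), (31, 33), (2, 6), (13, 35), (36, 29), (36, 30), (29, 37), (29, 38), (29, 39), (36, 40), (36, 41), (36, 32), (42, 42), (45, 45), (29, 43), (46, 47), (36, 31), (34, 49), (40, 50), (48, 51), (52, 48), (48, 53), (52, 38), (3, 1), (56, 44), (57, 55), (58, 54), (59, 52)], 60),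
  ([0, 12, 2, 13, 6, 10, 4, 15, 18, 9, 5, 11, 1, 3, 21, 7, 16, 17, 8, 19, 22, 14, 20, 23], [(0, 0), (3, 3), (4, 4), (5, 5), (4, 5), (6, 6), (7, 8), (1, 1), (1, 10), (1, 11), (1, 12), (1, 13), (1, 14), (1, 15), (1, 16), (1, 17), (10, 10), (19, 19), (20, 20), (19, 21), (18, 18), (23, 23), (24, 24), (23, 25), (26, 2), (27, 27), (28, 28), (27, 1), (22, 30), (31, 27), (31, 28), (27, 32), (27, 33), (27, 31), (31, 36), (37, 37), (31, 35), (35, 39), (38, 40), (2, 3), (9, 42), (43, 1), (22, 44), (29, 45), (41, 46), (46, 46), (46, 34), (31, 49), (47, 47), (51, 51), (46, 31), (29, 53), (52, 54), (55, 41), (55, 56), (3, 1), (58, 50), (59, 48), (60, 57)], 61),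
  ([0, 4, 2, 20, 1, 18, 12, 14, 10, 9, 8, 11, 6, 22, 7, 21, 16, 17, 5, 19, 3, 15, 13, 23], [(0, 0), (1, 1), (1, 4), (1, 5), (4, 4), (7, 7), (8, 8), (7, 9), (10, 2), (11, 11), (11, 1), (11, 4), (11, 13), (11, 14), (12, 12), (1, 13), (17, 18), (19, 11), (16, 16), (21, 21), (22, 22), (21, 23), (1, 15), (24, 25), (26, 12), (26, 11), (20, 28), (19, 29), (30, 19), (11, 6), (10, 32), (30, 33), (33, 34), (3, 1), (36, 27), (37, 31), (38, 35)], 39),
  ([0, 14, 2, 5, 7, 3, 15, 4, 22, 9, 13, 11, 21, 10, 1, 6, 16, 17, 20, 19, 18, 12, 8, 23], [(0, 0), (1, 1), (1, 4), (1, 5), (4, 4), (7, 7), (4, 8), (6, 6), (10, 10), (11, 11), (10, 12), (1, 2), (2, 4), (1, 14), (2, 14), (2, 16), (2, 1), (9, 19), (17, 17), (21, 21), (22, 22), (21, 23), (1, 15), (2, 25), (20, 26), (26, 20), (2, 6), (13, 29), (30, 28), (30, 20), (26, 32), (30, 27), (33, 33), (35, 35), (20, 33), (36, 37), (38, 30), (38, 28), (38, 31), (28, 40), (41, 41), (1,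 18), (24, 44), (20, 45), (43, 46), (47, 28), (47, 20), (47, 34), (49, 49), (51, 33), (42, 52), (53, 38), (53, 48), (53, 30), (39, 56), (3, 1), (58, 50), (59, 55), (60, 54), (61, 57)], 62),
  ([0, 21, 2, 10, 15, 13, 7, 6, 20, 9, 3, 11, 14, 5, 12, 4, 16, 17, 22, 19, 8, 1, 18, 23], [(0, 0), (1, 1), (1, 4), (1, 5), (1, 6), (1, 7), (4, 4), (9, 9), (4, 10), (6, 6), (12, 12), (13, 13), (12, 14), (7, 7), (16, 16), (17, 17), (16, 18), (1, 2), (2, 4), (2, 5), (1, 22), (1, 23), (2, 8), (2, 1), (11, 26), (21, 21), (28, 28), (21, 29), (1, 20), (30, 31), (32, 32), (32, 33), (2, 6), (15, 35), (36, 32), (34, 37), (36, 38), (39, 39), (2, 7), (19, 41), (34, 42), (40, 43), (44, 36), (44, 39), (38, 46), (36, 47), (48, 48), (49, 49), (25, 25), (51, 51), (52, 52), (51, 53), (1, 24), (54, 55), (27, 56), (56, 56), (57, 57), (59, 59), (60, 58), (50, 61), (45, 62), (63, 44), (63, 46), (38, 65), (3, 1), (67, 56), (68, 66), (69, 64),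 (70, 63)], 71)]

theorem l23_ok_15 : l23Chunk15.all l23Good = true := by decide +kernel

def l23Chunk16 : List (List ℕ × List (ℕ × ℕ) × ℕ) := [
  ([0, 3, 2, 1, 20, 14, 22, 18, 15, 9, 21, 11, 13, 12, 5, 8, 16, 17, 7, 19, 4, 10, 6, 23], [(0, 0), (1, 1), (1, 4), (1, 5), (1, 6), (1, 7), (1, 8), (1, 9), (10, 10), (11, 11), (12, 12), (11, 13), (14, 2), (15, 15), (15, 16), (15, 17), (15, 1), (16, 16), (19, 19), (21, 21), (19, 22), (23, 6), (15, 24), (24, 16), (24, 25), (24, 17), (24, 15), (20, 29), (26, 26), (31, 31), (27, 27), (33, 33), (15, 26), (32, 35), (30, 36), (36, 36), (36, 37), (30, 38), (36, 38), (30, 41), (40, 40), (40, 43), (36, 42), (44, 45), (15, 28), (34, 47), (44, 48), (46, 49), (3, 1), (51, 18), (52, 39), (53, 50)], 54),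
  ([0, 8, 2, 15, 10, 6, 5, 13, 1, 9, 4, 11, 18, 7, 22, 3, 16, 17, 12, 19, 21, 20, 14, 23], [(0, 0), (1, 1), (1, 4), (1, 5), (5, 5), (7, 7), (8, 8), (7, 9), (6, 6), (11, 11), (12, 12), (11, 13), (10, 2), (15, 15), (15, 16), (15, 4), (17, 17), (19, 19), (19, 20), (15, 18), (14, 22), (23, 15), (15, 23), (23, 23), (15, 25), (23, 27), (23, 24), (29, 29), (23, 26), (21, 31), (32, 29), (29, 32), (29, 33), (32, 34), (32, 32), (30, 37), (35, 35), (39, 39), (32, 36), (40, 41), (42, 38), (3, 1), (44, 28), (45, 36), (46, 42), (47, 43)], 48),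
  ([0, 15, 2, 8, 21, 22, 14, 12, 3, 9, 20, 11, 7, 18, 6, 1, 16, 17, 13, 19, 10, 4, 5, 23], [(0, 0), (1, 1), (1, 4), (1, 5), (4, 4), (7, 7), (4, 8), (6, 6), (10, 10), (11, 11), (10, 12), (1, 2), (2, 14), (2, 1), (9, 16), (1, 15), (18, 17), (17, 18), (19, 19), (21, 21), (17, 19), (22, 23), (2, 6), (13, 25), (26, 17), (18, 27), (26, 19), (22, 29), (26, 30), (30, 24), (24, 32), (28, 28), (34, 34), (34, 35), (26, 20), (36, 37), (38, 24), (24, 38), (40, 40), (41, 41), (26, 39), (42, 43), (44, 44), (44, 26), (33, 46), (3, 1), (48, 17), (49, 31), (50, 47), (51, 45)], 52),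
  ([0, 7, 2, 18, 14, 20, 21, 1, 13, 9, 22, 11, 15, 8, 4, 12, 16, 17, 3, 19, 5, 6, 10, 23], [(0, 0), (1, 1), (1, 4), (1, 5), (4, 4), (7, 7), (4, 8), (6, 6), (10, 10), (11, 11), (10, 12), (1, 2), (2, 1), (9, 15), (14, 14), (17, 17), (18, 18), (17, 19), (2, 4), (20, 21), (22, 16), (22, 22), (22, 24), (2, 6), (13, 26), (27, 16), (28, 28), (29, 29), (30, 24), (31, 31), (27, 22), (25, 33), (34, 31), (27, 34), (31, 34), (31, 35), (31, 38), (36, 36), (36, 40), (37, 37), (42, 42), (34, 32), (41, 44), (45, 27), (46, 46), (34, 37), (43, 48), (47, 49), (50, 46), (50, 51), (3, 1), (53, 23), (54, 39), (55, 52), (56, 50)], 57),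
  ([0, 22, 2, 6, 13, 15, 3, 10, 14, 9, 7, 11, 20, 4, 8, 5, 16, 17, 21, 19, 12, 18, 1, 23], [(0, 0), (1, 1), (1, 4), (1, 5), (4, 4), (7, 7), (4, 8), (6, 6), (10, 10), (11, 11), (10, 12), (1, 2), (2, 4), (1, 14), (2, 14), (2, 1), (9, 18), (15, 15), (20, 20), (21, 21), (20, 22), (16, 16), (24, 24), (25, 25), (24, 26), (2, 16), (27, 28), (19, 29), (1, 17), (23, 31), (32, 19), (32, 32), (32, 34), (33, 33), (29, 32), (35, 37), (2, 6), (13, 39), (40, 38), (40, 30), (40, 19), (36, 43), (38, 44), (45, 45), (45, 46), (40, 44), (47, 48), (49, 49), (49, 40), (3, 1), (52, 42), (53, 41), (54, 51), (55, 50)], 56)]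

theorem l23_ok_16 : l23Chunk16.all l23Good = true := by decide +kernel

def l23Chunk17 : List (List ℕ × List (ℕ × ℕ) × ℕ) := [
  ([0, 13, 2, 12, 22, 21, 20, 8, 7, 9, 14, 11, 3, 1, 10, 18, 16, 17, 15, 19, 6, 5, 4, 23], [(0, 0), (1, 1), (1, 4), (1, 5), (1, 6), (1, 7), (1, 8), (9, 9), (10, 10), (11, 11), (10, 12), (13, 2), (14, 14), (14, 15), (14, 16), (14, 1), (14, 4), (1, 18), (14, 19), (15, 15), (22, 22), (22, 23), (17, 17), (25, 25), (25, 26), (21, 21), (21, 28), (28, 28), (29, 30), (1, 20), (31, 32), (33, 14), (14, 33), (33, 33), (14, 34), (33, 35), (36, 36), (39, 39), (39, 40), (33, 34), (24, 42), (43, 43), (14, 35), (41, 45), (46, 43), (43, 46), (46, 44), (48, 48), (48, 50), (49, 49), (46, 47), (51, 53), (54, 54), (55, 55), (33, 37), (27, 57), (52, 58), (59, 54), (59, 49), (59, 61), (59, 44), (44, 63), (56, 64), (3, 1), (66, 38), (67, 62), (68, 60), (69, 65)], 70),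
  ([0, 6, 2, 22, 12, 8, 1, 21, 5, 9, 18, 11, 4, 20, 15, 14, 16, 17, 10, 19, 13, 7, 3, 23], [(0, 0), (1, 1), (1, 4), (1, 5), (1, 6), (1, 7), (1, 8), (1, 9), (1, 10), (4, 4), (12, 12), (4, 13), (11, 11), (15, 15), (16, 16), (15, 17), (18, 2), (19, 19), (19, 20), (19, 1), (21, 21), (23, 23), (22, 22), (25, 25), (26, 5), (24, 27), (28, 28), (28, 29), (28, 19), (29, 29), (32, 32), (30, 30), (34, 34), (31, 31), (36, 36), (37, 21), (33, 38), (39, 28), (19, 4), (14, 41), (42, 19), (19, 42), (28, 42), (28, 43), (45, 45), (47, 47), (42, 20), (48, 49), (40, 50), (51, 28), (51, 29), (51, 30), (54, 54), (55, 55), (28, 53), (56, 57), (58, 39), (46, 46), (60, 60), (19, 44), (61, 62), (35, 63), (64, 39), (39, 65), (3, 1), (67, 45), (68, 52), (69, 59), (70, 66)], 71),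
  ([0, 10, 2, 21, 8, 12, 18, 22, 4, 9, 1, 11, 5, 14, 13, 20, 16, 17, 6, 19, 15, 3, 7, 23], [(0, 0), (1, 1), (1, 4), (4, 4), (6, 6), (4, 7), (5, 5), (9, 9), (10, 10), (9, 11), (2, 1), (8, 13), (2, 4), (12, 15), (14, 16), (16, 16), (16, 17), (14, 18), (16, 18), (14, 19), (16, 19), (16, 20), (16, 23), (16, 14), (26, 26), (26, 27), (28, 28), (28, 29), (16, 21), (22, 31), (30, 32), (33, 26), (26, 34), (33, 28), (33, 35), (26, 36), (26, 37), (26, 38), (33, 27), (27, 41), (37, 37), (43, 43), (40, 40), (45, 45), (26, 39), (44, 47), (25, 25), (49, 49), (49, 50), (14, 24), (51, 52), (46, 53), (54, 48), (42, 55), (54, 27), (54, 57), (54, 33), (3, 1), (60, 19), (61, 58), (62, 56), (63, 59)], 64),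
  ([0, 5, 2, 14, 18, 1, 8, 20, 6, 9, 12, 11, 10, 21, 3, 22, 16, 17, 4, 19, 7, 13, 15, 23], [(0, 0), (1, 1), (1, 4), (1, 5), (4, 4), (7, 7), (4, 8), (6, 6), (10, 10), (11, 11), (10, 12), (1, 2), (2, 14), (2, 1), (9, 16), (1, 15), (18, 17), (17, 18), (18, 19), (18, 20), (19, 19), (23, 23), (20, 20), (25, 25), (17, 19), (24, 27), (21, 21), (29, 29), (17, 21), (30, 31), (32, 28), (28, 33), (18, 22), (26, 35), (32, 36), (36, 28), (28, 38), (2, 6), (13, 40), (41, 28), (41, 33), (36, 42), (41, 37), (41, 44), (41, 20), (45, 45), (48, 48), (41, 34), (34, 50), (51, 39), (28, 43), (49, 53), (52, 54), (55, 41), (3, 1), (57, 47), (58, 46), (59, 56), (60, 55)], 61),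
  ([0, 18, 2, 7, 5, 4, 10, 3, 12, 9, 6, 11, 8, 15, 20, 13, 16, 17, 1, 19, 14, 22, 21, 23], [(0, 0), (1, 1), (1, 4), (1, 5), (1, 6), (1, 7), (6, 6), (9, 9), (10, 10), (9, 11), (8, 8), (13, 13), (14, 14), (13, 15), (16, 2), (17, 17), (17, 18), (17, 19), (18, 18), (21, 21), (21, 22), (17, 5), (12, 24), (23, 25), (26, 26), (26, 27), (26, 28), (26, 17), (17, 30), (26, 20), (27, 27), (31, 31), (34, 34), (34, 35), (26, 30), (36, 37), (33, 38), (39, 39), (39, 26), (39, 27), (26, 41), (39, 28), (26, 42), (44, 44), (46, 46), (45, 45), (48, 48), (26, 43), (47, 50), (51, 39), (51, 40), (52, 52), (39, 29), (49, 55), (54, 56), (3, 1), (58, 32), (59, 42), (60, 53), (61, 57)], 62)]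

theorem l23_ok_17 : l23Chunk17.all l23Good = true := by decide +kernel

def l23Chunk18 : List (List ℕ × List (ℕ × ℕ) × ℕ) := [
  ([0, 19, 6, 5, 12, 3, 2, 7, 8, 14, 20, 16, 4, 13, 9, 17, 11, 15, 18, 1, 10, 21, 22, 23], [(0, 0), (1, 1), (1, 4), (5, 5), (6, 6), (7, 7), (6, 8), (2, 1), (2, 4), (11, 11), (12, 12), (13, 13), (12, 14), (1, 10), (15, 16), (17, 17), (2, 5), (9, 19), (20, 17), (17, 20), (20, 18), (20, 22), (17, 24), (21, 21), (21, 26), (24, 24), (17, 23), (28, 29), (1, 11), (25, 31), (32, 30), (32, 32), (32, 34), (33, 33), (36, 36), (30, 32), (35, 38), (32, 20), (27, 40), (37, 41), (42, 30), (32, 43), (42, 44), (42, 39), (39, 46), (47, 47), (3, 1), (49, 17), (50, 45), (51, 42), (52, 48)], 53),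
  ([0, 16, 4, 9, 2, 14, 12, 7, 8, 3, 15, 19, 6, 13, 5, 10, 1, 20, 18, 11, 17, 21, 22, 23], [(0, 0), (1, 3), (1, 1), (1, 5), (1, 6), (5, 5), (8, 8), (9, 9), (8, 10), (7, 7), (12, 12), (13, 13), (12, 14), (4, 4), (16, 16), (17, 17), (16, 18), (15, 2), (20, 20), (20, 21), (20, 1), (20, 5), (23, 23), (25, 25), (1, 24), (26, 27), (28, 20), (28, 28), (20, 29), (30, 30), (32, 22), (33, 33), (31, 31), (35, 35), (28, 29), (36, 37), (34, 38), (2, 3), (19, 40), (41, 5), (11, 42), (43, 28), (43, 43), (28, 44), (28, 43), (45, 47), (48, 34), (39, 49), (3, 1), (51, 46), (52, 50), (53, 39)], 54),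
  ([0, 10, 5, 6, 14, 2, 3, 7, 8, 12, 1, 17, 9, 13, 4, 16, 15, 11, 18, 20, 19, 21, 22, 23], [(0, 0), (1, 1), (1, 4), (5, 5), (6, 6), (7, 7), (6, 8), (2, 1), (1, 2), (2, 4), (1, 11), (1, 13), (10, 10), (10, 15), (1, 10), (2, 17), (2, 5), (9, 19), (1, 12), (16, 21), (22, 20), (18, 22), (23, 23), (25, 25), (24, 24), (20, 22), (27, 28), (18, 29), (29, 29), (29, 30), (18, 31), (29, 32), (29, 33), (18, 34), (18, 35), (37, 37), (38, 38), (29, 36), (39, 40), (14, 14), (14, 42), (42, 42), (43, 44), (2, 13), (45, 46), (26, 47), (41, 48), (49, 49), (49, 18), (41, 51), (3, 1), (53, 20), (54, 30), (55, 52), (56, 50)], 57),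
  ([0, 6, 19, 10, 11, 20, 1, 7, 8, 15, 3, 4, 16, 13, 17, 9, 12, 14, 18, 2, 5, 21, 22, 23], [(0, 0), (1, 1), (1, 4), (1, 5), (1, 6), (1, 7), (1, 8), (1, 9), (1, 10), (11, 11), (12, 12), (13, 13), (12, 14), (15, 2), (16, 16), (16, 17), (16, 1), (1, 19), (16, 19), (17, 17), (21, 21), (23, 23), (24, 24), (23, 25), (1, 20), (26, 27), (28, 17), (28, 18), (16, 29), (16, 30), (16, 31), (16, 32), (16, 33), (16, 34), (28, 16), (22, 37), (38, 28), (39, 39), (39, 40), (28, 38), (38, 42), (28, 33), (35, 44), (41, 45), (46, 43), (46, 46), (43, 47), (46, 38), (28, 50), (46, 51), (49, 49), (50, 50), (54, 54), (38, 50), (55, 56), (53, 57), (58, 58), (3, 1), (60, 36), (61, 52), (62, 48), (63, 59)], 64),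
  ([0, 12, 11, 15, 19, 17, 16, 7, 8, 10, 9, 2, 1, 13, 20, 3, 6, 5, 18, 4, 14, 21, 22, 23], [(0, 0), (1, 1), (1, 4), (1, 5), (1, 6), (1, 7), (1, 8), (1, 9), (1, 10), (1, 11), (12, 12), (13, 13), (14, 14), (13, 15), (16, 2), (17, 17), (17, 1), (1, 19), (18, 18), (21, 21), (21, 22), (20, 20), (24, 24), (17, 19), (25, 26), (27, 17), (17, 27), (17, 28), (29, 29), (31, 31), (31, 32), (27, 18), (23, 34), (27, 29), (33, 36), (37, 35), (17, 30), (27, 39), (40, 35), (35, 40), (40, 38), (35, 41), (42, 42), (42, 45), (44, 44), (47, 47), (37, 41), (48, 49), (50, 37), (50, 50), (52, 52), (37, 42), (46, 54), (55, 51), (50, 56), (55, 50), (53, 58), (59, 59), (3, 1), (61, 17), (62, 43), (63, 57), (64, 60)], 65)]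

theorem l23_ok_18 : l23Chunk18.all l23Good = true := by decide +kernel

def l23Chunk19 : List (List ℕ × List (ℕ × ℕ) × ℕ) := [
  ([0, 20, 3, 2, 9, 6, 5, 7, 8, 4, 19, 15, 14, 13, 12, 11, 17, 16, 18, 10, 1, 21, 22, 23], [(0, 0), (1, 1), (1, 4), (1, 5), (5, 5), (7, 7), (8, 8), (7, 9), (1, 2), (2, 4), (2, 11), (12, 12), (12, 14), (14, 14), (15, 16), (13, 13), (18, 18), (19, 19), (18, 20), (21, 6), (22, 22), (22, 23), (24, 24), (24, 25), (2, 5), (10, 27), (28, 22), (22, 28), (22, 29), (28, 30), (28, 23), (26, 33), (34, 34), (34, 35), (34, 36), (37, 37), (38, 38), (31, 31), (31, 40), (32, 32), (32, 42), (28, 31), (41, 44), (39, 45), (46, 34), (1, 13), (17, 48), (43, 49), (50, 34), (34, 50), (50, 51), (52, 52), (54, 54), (50, 35), (55, 56), (57, 46), (58, 58), (50, 47), (47, 60), (59, 61), (62, 62), (3, 1), (64, 32), (65, 53), (66, 57), (67, 63)], 68),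
  ([0, 4, 16, 17, 1, 15, 11, 7, 8, 20, 14, 6, 19, 13, 10, 5, 2, 3, 18, 12, 9, 21, 22, 23], [(0, 0), (1, 1), (4, 4), (5, 5), (6, 6), (5, 7), (8, 2), (9, 9), (10, 10), (11, 11), (9, 1), (8, 13), (14, 9), (9, 14), (14, 14), (9, 15), (17, 17), (19, 19), (14, 15), (12, 21), (22, 22), (22, 23), (24, 24), (25, 25), (14, 16), (11, 27), (28, 22), (28, 29), (26, 30), (9, 17), (20, 32), (26, 33), (34, 24), (3, 1), (36, 18), (37, 35), (38, 31)], 39),
  ([0, 9, 17, 16, 20, 11, 15, 7, 8, 1, 12, 5, 10, 13, 19, 6, 3, 2, 18, 14, 4, 21, 22, 23], [(0, 0), (1, 1), (1, 4), (1, 5), (1, 6), (7, 7), (8, 8), (9, 9), (8, 10), (11, 2), (12, 12), (12, 1), (12, 4), (13, 13), (13, 16), (16, 16), (16, 18), (14, 14), (20, 20), (1, 15), (21, 22), (12, 23), (23, 23), (23, 24), (12, 26), (23, 12), (19, 28), (29, 29), (23, 13), (17, 31), (29, 32), (32, 32), (32, 30), (29, 33), (29, 35), (34, 34), (29, 34), (38, 39), (32, 36), (33, 41), (42, 40),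 (12, 24), (25, 44), (38, 45), (46, 42), (43, 47), (3, 1), (49, 27), (50, 37), (51, 46), (52, 48)], 53),
  ([0, 3, 20, 1, 17, 19, 10, 7, 8, 16, 6, 14, 15, 13, 11, 12, 9, 4, 18, 5, 2, 21, 22, 23], [(0, 0), (1, 1), (1, 4), (1, 5), (1, 6), (1, 7), (1, 8), (1, 9), (10, 10), (11, 11), (12, 12), (11, 13), (14, 2), (15, 15), (15, 16), (15, 1), (15, 4), (16, 16), (20, 20), (20, 21), (19, 19), (23, 23), (23, 24), (1, 18), (25, 26), (22, 27), (28, 28), (28, 15), (28, 16), (15, 30), (28, 31), (15, 32), (15, 33), (30, 30), (36, 36), (37, 17), (38, 28), (38, 38), (38, 39), (28, 40), (38, 40), (40, 40), (44, 44), (38, 29), (29, 46), (43, 43), (48, 48), (28, 42), (49, 50), (51, 47), (35, 35), (53, 53), (28, 34), (54, 55), (45, 56), (57, 47), (52, 58), (59, 59), (3, 1), (61, 15), (62, 41), (63, 51), (64, 60)], 65),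
  ([0, 11, 12, 14, 6, 9, 4, 7, 8, 5, 17, 1, 2, 13, 3, 20, 19, 10, 18, 16, 15, 21, 22, 23], [(0, 0), (1, 1), (1, 4), (5, 5), (6, 6), (7, 7), (6, 8), (2, 1), (1, 2), (2, 4), (10, 10), (10, 13), (13, 13), (14, 15), (11, 11), (11, 17), (17, 17), (18, 19), (1, 10), (21, 21), (21, 22), (22, 22), (24, 24), (2, 11), (20, 26), (27, 21), (21, 27), (21, 28), (21, 29), (27, 23), (21, 31), (27, 33), (27, 22), (25, 35), (32, 32), (37, 37), (21, 30), (38, 39), (34, 34), (41, 41), (2, 5), (9, 43), (42, 44), (45, 36), (45, 40), (45, 21), (48, 48), (48, 49), (1, 12), (16, 51), (50, 52), (40, 53), (53, 47), (53, 45), (40, 56), (54, 54), (58, 58), (53, 46), (59, 60), (61, 61), (57, 62), (3, 1), (64, 22), (65, 55), (66, 63)], 67)]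

theorem l23_ok_19 : l23Chunk19.all l23Good = true := by decide +kernel

def l23Chunk20 : List (List ℕ × List (ℕ × ℕ) × ℕ) := [
  ([0, 17, 9, 4, 3, 12, 14, 7, 8, 2, 11, 10, 5, 13, 6, 19, 20, 1, 18, 15, 16, 21, 22, 23], [(0, 0), (1, 1), (1, 4), (5, 5), (6, 6), (7, 7), (6, 8), (2, 1), (1, 2), (1, 10), (1, 11), (12, 12), (12, 14), (14, 14), (15, 16), (13, 13), (13, 18), (18, 18), (19, 20), (2, 5), (9, 22), (2, 12), (17, 24), (25, 23), (23, 25), (26, 26), (28, 28), (23, 26), (29, 30), (2, 13), (21, 32), (33, 23), (23, 34), (33, 27), (33, 31), (31, 37), (33, 25), (25, 39), (40, 33), (31, 41), (33, 42), (40, 43), (40, 31), (31, 45), (46, 38), (36, 36), (48, 48), (48, 49), (25, 35), (50, 51), (44, 52), (53, 40), (3, 1), (55, 35), (56, 54), (57, 47), (58, 53)], 59),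
  ([0, 15, 14, 12, 5, 4, 9, 7, 8, 6, 16, 20, 3, 13, 2, 1, 10, 19, 18, 17, 11, 21, 22, 23], [(0, 0), (1, 1), (2, 1), (1, 2), (2, 4), (5, 5), (8, 8), (9, 9), (8, 10), (7, 7), (7, 12), (1, 5), (13, 14), (15, 15), (1, 6), (11, 17), (18, 15), (15, 18), (15, 19), (18, 16), (16, 22), (23, 23), (23, 24), (23, 25), (24, 24), (21, 21), (28, 28), (28, 29), (18, 20), (30, 31), (32, 23), (23, 32), (32, 26), (23, 35), (34, 34), (32, 24), (27, 38), (39, 39), (32, 33), (37, 41), (42, 39), (43, 43), (3, 1), (45, 21), (46, 36), (47, 40), (48, 44)], 49),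
  ([0, 14, 15, 11, 10, 16, 17, 7, 8, 19, 4, 3, 20, 13, 1, 2, 5, 6, 18, 9, 12, 21, 22, 23], [(0, 0), (1, 1), (1, 4), (1, 5), (1, 2), (2, 4), (2, 7), (8, 8), (8, 10), (10, 10), (11, 12), (1, 7), (13, 14), (15, 15), (15, 16), (17, 17), (17, 18), (9, 9), (20, 20), (21, 21), (20, 22), (23, 6), (24, 15), (24, 24), (24, 26), (24, 25), (17, 28), (15, 26), (27, 30), (29, 31), (31, 32), (29, 33), (31, 33), (31, 34), (29, 35), (31, 37), (33, 33), (33, 39), (34, 34), (41, 41), (31, 36), (42, 43), (44, 29), (24, 17), (19, 46), (38, 47), (48, 32), (40, 49), (48, 50), (51, 45), (3, 1), (53, 27), (54, 37), (55, 52)], 56),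
  ([0, 5, 10, 19, 15, 1, 20, 7, 8, 11, 2, 9, 17, 13, 16, 4, 14, 12, 18, 3, 6, 21, 22, 23], [(0, 0), (1, 1), (1, 4), (1, 5), (1, 6), (5, 5), (8, 8), (9, 9), (8, 10), (2, 1), (2, 4), (1, 12), (1, 13), (1, 14), (2, 6), (1, 16), (12, 12), (19, 19), (20, 20), (19, 21), (1, 2), (22, 23), (2, 5), (11, 25), (26, 24), (24, 26), (24, 27), (17, 17), (30, 30), (31, 31), (30, 32), (1, 15), (33, 34), (35, 24), (36, 36), (36, 37), (38, 28), (39, 39), (39, 40), (41, 41), (41, 42), (18, 18), (44, 44), (45, 45), (44, 46), (2, 7), (47, 48), (29, 49), (50, 39), (39, 50), (50, 50), (50, 51), (39, 52), (50, 52), (50, 36), (50, 57), (53, 53), (39, 51), (59, 60), (61, 61), (55, 55), (63, 63), (50, 53), (43, 65), (66, 61), (66, 62), (66, 68), (69, 69), (50, 54), (64, 71), (70, 72), (73, 67), (3, 1), (75, 58), (76, 56), (77, 74)], 78),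
  ([0, 2, 1, 20, 16, 10, 19, 7, 8, 17, 5, 12, 11, 13, 15, 14, 4, 9, 18, 6, 3, 21, 22, 23], [(0, 0), (1, 1), (1, 4), (4, 4), (6, 6), (4, 7), (5, 5), (9, 9), (10, 10), (9, 11), (8, 2), (13, 13), (13, 14), (13, 4), (12, 16), (15, 17), (18, 18), (18, 13), (13, 20), (13, 21), (18, 22), (18, 23), (21, 21), (25, 25), (18, 20), (26, 27), (28, 18), (28, 28), (28, 19), (18, 29), (28, 29), (28, 31), (30, 30), (35, 35), (32, 32), (32, 37), (18, 30), (36, 39), (28, 30), (38, 41), (42, 42), (34, 34), (18, 33), (44, 45), (46, 40), (47, 43), (48, 48), (3, 1), (50, 24), (51, 31), (52, 46), (53, 49)], 54)]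

theorem l23_ok_20 : l23Chunk20.all l23Good = true := by decide +kernel

def l23Chunk21 : List (List ℕ × List (ℕ × ℕ) × ℕ) := [
  ([16, 21, 2, 6, 5, 4, 3, 10, 8, 9, 7, 19, 12, 15, 14, 13, 0, 17, 22, 11, 20, 1, 18, 23], [(0, 0), (3, 3), (4, 4), (5, 5), (4, 5), (6, 6), (7, 8), (1, 1), (1, 10), (1, 11), (10, 10), (13, 13), (14, 14), (13, 15), (2, 3), (9, 17), (16, 18), (19, 19), (19, 20), (19, 1), (19, 22), (21, 21), (21, 24), (23, 23), (26, 26), (27, 27), (26, 28), (29, 12), (30, 19), (30, 20), (19, 32), (30, 33), (32, 32), (35, 35), (19, 31), (36, 37), (30, 31), (21, 39), (40, 38), (38, 40), (38, 41), (38, 43), (41, 41), (45, 45), (42, 42), (47, 47), (38, 42), (46, 49), (40, 42), (48, 51), (52, 50), (44, 44), (30, 21), (25, 55), (54, 56), (57, 52), (53, 58), (59, 59), (3, 1), (61, 34), (62, 42), (63, 53), (64, 60)], 65),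
  ([3, 5, 2, 0, 21, 1, 16, 19, 8, 9, 11, 10, 12, 22, 14, 18, 6, 17, 15, 7, 20, 4, 13, 23], [(0, 0), (0, 3), (1, 1), (2, 4), (1, 6), (6, 1), (8, 8), (8, 9), (10, 10), (10, 11), (7, 7), (7, 13), (6, 5), (14, 15), (16, 8), (8, 16), (16, 16), (16, 9), (8, 18), (16, 21), (17, 17), (23, 23), (23, 24), (16, 19), (9, 26), (16, 10), (12, 28), (29, 27), (27, 29), (27, 30), (29, 30), (29, 31), (29, 32), (29, 33), (27, 34), (35, 37), (8, 20), (25, 39), (36, 40), (41, 38), (3, 1), (43, 22), (44, 31), (45, 42)], 46),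
  ([11, 18, 2, 10, 13, 15, 7, 6, 8, 9, 3, 0, 12, 4, 14, 5, 19, 17, 1, 16, 20, 22, 21, 23], [(0, 0), (3, 3), (4, 4), (5, 5), (4, 5), (6, 6), (7, 8), (1, 1), (1, 10), (11, 11), (12, 12), (13, 13), (12, 14), (2, 3), (9, 16), (15, 17), (18, 18), (18, 1), (18, 10), (18, 20), (19, 19), (19, 23), (22, 22), (25, 25), (22, 26), (1, 21), (27, 28), (24, 29), (30, 30), (30, 18), (30, 19), (18, 32), (34, 34), (35, 35), (30, 33), (36, 37), (38, 30), (38, 38), (30, 39), (38, 40), (38, 41), (30, 38), (42, 44), (45, 45), (43, 43), (18, 34), (47, 48), (45, 49), (49, 46), (49, 31), (51, 51), (49, 30), (42, 54), (53, 55), (56, 50), (3, 1), (58, 34), (59, 52), (60, 57)], 61),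
  ([13, 7, 2, 22, 11, 19, 18, 1, 8, 9, 21, 4, 12, 0, 14, 16, 15, 17, 6, 5, 20, 10, 3, 23], [(0, 0), (0, 3), (1, 1), (1, 5), (5, 5), (7, 7), (5, 8), (6, 6), (10, 10), (11, 11), (10, 12), (1, 2), (14, 14), (15, 15), (14, 16), (16, 16), (17, 18), (19, 4), (9, 20), (21, 21), (21, 22), (21, 5), (13, 24), (25, 21), (21, 25), (25, 25), (21, 26), (21, 27), (21, 29), (28, 28), (32, 32), (25, 22), (34, 34), (34, 35), (36, 36), (36, 37), (30, 30), (30, 39), (21, 28), (33, 41), (42, 34), (34, 42), (42, 35), (34, 43), (34, 45), (42, 45), (45, 45), (49, 49), (34, 44), (50, 51), (42, 44), (38, 53), (54, 52), (47, 47), (47, 56), (48, 48), (58, 58), (34, 46), (59, 60), (25, 23), (40, 62), (57, 63), (64, 42), (64, 61), (52, 66), (67, 67), (3, 1), (69, 31), (70, 65), (71, 55), (72, 68)], 73),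
  ([22, 19, 2, 13, 10, 7, 15, 5, 8, 9, 4, 21, 12, 3, 14, 6, 18, 17, 16, 1, 20, 11, 0, 23], [(0, 0), (1, 1), (0, 2), (1, 5), (5, 4), (1, 7), (7, 7), (9, 9), (9, 10), (1, 6), (11, 12), (13, 13), (8, 8), (15, 15), (15, 16), (5, 7), (17, 18), (19, 13), (13, 19), (19, 19), (13, 20), (13, 22), (13, 24), (13, 25), (23, 23), (27, 27), (27, 28), (19, 20), (29, 30), (31, 31), (19, 21), (14, 33), (34, 31), (34, 32), (32, 36), (37, 37), (3, 1), (39, 26), (40, 35), (41, 38)], 42)]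

theorem l23_ok_21 : l23Chunk21.all l23Good = true := by decide +kernel

def l23Chunk22 : List (List ℕ × List (ℕ × ℕ) × ℕ) := [
  ([19, 22, 2, 7, 15, 13, 10, 3, 8, 9, 6, 16, 12, 5, 14, 4, 11, 17, 21, 0, 20, 18, 1, 23], [(0, 0), (3, 3), (4, 4), (5, 5), (4, 5), (6, 6), (7, 8), (1, 1), (1, 10), (11, 11), (12, 12), (13, 13), (12, 14), (2, 3), (9, 16), (1, 17), (18, 18), (19, 19), (19, 20), (17, 10), (15, 22), (23, 23), (23, 24), (23, 25), (23, 26), (27, 27), (28, 28), (28, 29), (17, 18), (21, 31), (30, 32), (33, 23), (33, 24), (23, 34), (33, 34), (23, 35), (23, 38), (33, 33), (35, 35), (41, 41), (37, 37), (43, 43), (42, 26), (45, 33), (33, 45), (33, 46), (33, 47), (45, 47), (33, 48), (45, 49), (45, 51), (49, 49), (49, 54), (53, 53), (53, 56), (33, 52), (57, 58), (59, 40), (23, 36), (44, 61), (55, 62), (60, 63), (3, 1), (65, 39), (66, 50), (67, 59), (68, 64)], 69),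
  ([18, 11, 2, 15, 7, 10, 13, 4, 8, 9, 5, 1, 12, 6, 14, 3, 22, 17, 0, 21, 20, 19, 16, 23], [(0, 0), (3, 3), (4, 4), (5, 5), (4, 5), (6, 6), (7, 8), (1, 1), (1, 10), (1, 11), (1, 12), (1, 13), (1, 14), (10, 10), (16, 16), (10, 17), (15, 15), (19, 19), (20, 20), (19, 21), (2, 3), (9, 23), (22, 24), (25, 25), (26, 26), (25, 11), (18, 28), (29, 25), (29, 30), (25, 31), (29, 29), (27, 33), (34, 34), (34, 35), (36, 36), (36, 37), (29, 26), (39, 34), (34, 39), (39, 35), (34, 40), (42, 42), (44, 44), (43, 43), (46, 46), (34, 41), (45, 48), (39, 36), (47, 50), (51, 49), (39, 42), (38, 53), (52, 54), (55, 49), (51, 56), (3, 1), (58, 32), (59, 36), (60, 57)], 61),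
  ([21, 16, 2, 4, 3, 6, 5, 15, 8, 9, 13, 22, 12, 10, 14, 7, 1, 17, 19, 18, 20, 0, 11, 23], [(0, 0), (3, 3), (4, 4), (5, 5), (4, 5), (6, 6), (7, 8), (1, 1), (1, 10), (10, 10), (12, 12), (10, 13), (11, 11), (15, 15), (16, 16), (15, 17), (2, 3), (9, 19), (14, 20), (21, 21), (21, 1), (21, 23), (21, 11), (1, 24), (23, 26), (27, 21), (21, 27), (21, 28), (27, 29), (27, 22), (22, 32), (30, 30), (34, 34), (31, 31), (31, 36), (27, 30), (35, 38), (21, 31), (37, 40), (33, 41), (42, 33), (39, 43), (21, 25), (18, 45), (46, 21), (21, 47), (46, 39), (39, 49), (50, 46), (42, 50), (51, 52), (3, 1), (54, 48), (55, 44), (56, 42), (57, 53)], 58),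
  ([4, 6, 2, 21, 0, 16, 1, 18, 8, 9, 22, 13, 12, 11, 14, 19, 5, 17, 7, 15, 20, 3, 10, 23], [(0, 0), (1, 3), (1, 1), (1, 5), (2, 4), (7, 7), (7, 8), (7, 9), (7, 1), (8, 8), (12, 12), (11, 11), (14, 14), (15, 6), (16, 7), (7, 16), (16, 16), (16, 8), (17, 17), (21, 21), (21, 22), (18, 18), (24, 24), (24, 25), (16, 17), (26, 27), (28, 28), (29, 29), (16, 19), (13, 31), (29, 32), (33, 33), (33, 28), (7, 20), (23, 36), (37, 28), (28, 37), (37, 39), (38, 38), (41, 41), (33, 37), (42, 43), (44, 34), (33, 45), (46, 46), (37, 35), (30, 48), (47, 49), (3, 1), (51, 10), (52, 40), (53, 50)], 54),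
  ([6, 4, 2, 16, 1, 21, 0, 11, 8, 9, 19, 7, 12, 18, 14, 22, 3, 17, 13, 10, 20, 5, 15, 23], [(0, 0), (1, 3), (1, 1), (1, 5), (2, 0), (7, 7), (8, 8), (8, 9), (9, 9), (11, 11), (10, 12), (13, 4), (1, 14), (1, 15), (14, 14), (17, 17), (17, 18), (16, 16), (20, 20), (14, 6), (21, 22), (17, 23), (23, 23), (23, 18), (17, 24), (23, 26), (23, 28), (25, 25), (23, 17), (19, 31), (32, 32), (32, 33), (33, 33), (35, 35), (34, 34), (37, 37), (27, 27), (27, 39), (23, 24), (40, 41), (36, 42), (43, 32), (43, 33), (32, 44), (43, 34), (45, 45), (45, 48), (46, 46), (46, 50), (43, 46), (51, 52), (53, 43), (32, 47), (49, 55), (56, 43), (17, 25), (30, 58), (38, 59), (54, 60), (61, 61), (61, 34), (3, 1), (64, 29), (65, 63), (66, 57), (67, 62)], 68)]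

theorem l23_ok_22 : l23Chunk22.all l23Good = true := by decide +kernel

def l23Chunk23 : List (List ℕ × List (ℕ × ℕ) × ℕ) := [
  ([7, 13, 2, 19, 18, 22, 11, 0, 8, 9, 16, 6, 12, 1, 14, 21, 10, 17, 4, 3, 20, 15, 5, 23], [(0, 0), (3, 3), (4, 4), (5, 5), (4, 5), (6, 6), (7, 8), (1, 1), (2, 3), (9, 11), (12, 1), (1, 12), (12, 10), (1, 14), (15, 15), (17, 17), (18, 18), (17, 19), (1, 13), (20, 21), (22, 22), (23, 23), (16, 16), (25, 25), (26, 26), (25, 27), (12, 14), (28, 29), (30, 22), (30, 30), (22, 32), (32, 32), (34, 34), (34, 35), (22, 31), (36, 37), (30, 32), (24, 39), (40, 38), (3, 1), (42, 33), (43, 41)], 44),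
  ([10, 15, 2, 11, 22, 18, 19, 16, 8, 9, 0, 3, 12, 21, 14, 1, 7, 17, 5, 6, 20, 13, 4, 23], [(0, 0), (3, 3), (4, 4), (5, 5), (4, 5), (6, 6), (7, 8), (1, 1), (1, 10), (1, 11), (1, 12), (13, 13), (14, 14), (15, 15), (14, 16), (2, 3), (9, 18), (17, 19), (20, 1), (20, 10), (22, 22), (23, 23), (23, 24), (1, 21), (25, 26), (27, 20), (20, 27), (27, 27), (28, 28), (31, 31), (20, 29), (32, 33), (34, 34), (20, 30), (36, 34), (34, 36), (36, 36), (36, 35), (36, 38), (34, 39), (36, 39), (34, 41), (37, 37), (40, 40), (46, 46), (34, 37), (45, 48), (34, 38), (47, 50), (49, 51), (43, 43), (53, 53), (34, 42), (54, 55), (56, 52), (51, 57), (3, 1), (59, 27), (60, 44), (61, 58), (62, 49)], 63),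
  ([1, 0, 2, 5, 6, 3, 4, 13, 8, 9, 15, 18, 12, 7, 14, 10, 21, 17, 11, 22, 20, 16, 19, 23], [(0, 0), (3, 3), (3, 4), (4, 4), (6, 6), (5, 7), (1, 1), (9, 9), (10, 10), (9, 11), (8, 2), (13, 13), (13, 9), (13, 14), (13, 1), (17, 17), (18, 18), (16, 16), (20, 20), (21, 21), (20, 22), (1, 15), (23, 24), (17, 25), (25, 25), (25, 18), (27, 27), (29, 29), (28, 28), (25, 26), (19, 32), (17, 27), (30, 34), (35, 35), (13, 15), (12, 37), (31, 38), (36, 39), (40, 17), (19, 41), (42, 42), (40, 43), (42, 33), (33, 45), (35, 46), (3, 1), (48, 25), (49, 47), (50, 44)], 51),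
  ([5, 3, 2, 1, 16, 0, 21, 22, 8, 9, 18, 15, 12, 19, 14, 11, 4, 17, 10, 13, 20, 6, 7, 23], [(0, 0), (0, 3), (1, 1), (1, 5), (2, 0), (7, 7), (8, 8), (7, 9), (9, 9), (10, 11), (12, 4), (13, 1), (1, 13), (13, 5), (1, 15), (16, 16), (18, 18), (18, 19), (1, 14), (20, 21), (22, 22), (22, 23), (23, 23), (25, 25), (13, 14), (27, 27), (27, 22), (27, 23), (22, 30), (28, 28), (30, 30), (30, 33), (22, 29), (34, 35), (32, 36), (31, 31), (38, 38), (27, 30), (39, 40), (41, 41), (42, 42), (17, 17), (44, 44), (44, 45), (13, 6), (46, 47), (26, 48), (43, 49), (50, 24), (50, 37), (52, 52), (3, 1), (54, 51), (55, 37), (56, 53)], 57),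
  ([15, 10, 2, 18, 19, 11, 22, 21, 8, 9, 1, 5, 12, 16, 14, 0, 13, 17, 3, 4, 20, 7, 6, 23], [(0, 0), (3, 3), (4, 4), (5, 5), (4, 5), (6, 6), (7, 8), (1, 1), (1, 10), (1, 11), (12, 12), (13, 13), (14, 14), (13, 15), (2, 3), (9, 17), (16, 18), (19, 19), (19, 20), (19, 21), (19, 1), (1, 23), (20, 20), (24, 24), (24, 26), (26, 26), (27, 28), (19, 23), (29, 30), (31, 31), (31, 22), (32, 32), (32, 34), (19, 31), (35, 36), (37, 37), (37, 38), (39, 39), (40, 40), (31, 20), (25, 42), (43, 37), (37, 43), (43, 43), (43, 38), (37, 45), (43, 48), (37, 49), (47, 47), (51, 51), (37, 44), (52, 53), (37, 46), (46, 55), (54, 56), (57, 57), (43, 39), (41, 59), (58, 60), (61, 61), (3, 1), (63, 33), (64, 50), (65, 57), (66, 62)], 67)]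

theorem l23_ok_23 : l23Chunk23.all l23Good = true := by decide +kernel

def l23Chunk24 : List (List ℕ × List (ℕ × ℕ) × ℕ) := [
  ([0, 22, 16, 18, 4, 12, 21, 10, 8, 19, 7, 11, 5, 13, 14, 20, 2, 17, 3, 9, 15, 6, 1, 23], [(0, 0), (1, 1), (1, 4), (1, 5), (4, 4), (7, 7), (8, 8), (7, 9), (5, 5), (11, 11), (12, 12), (11, 13), (2, 1), (1, 2), (1, 15), (1, 16), (15, 15), (19, 19), (15, 20), (2, 4), (10, 22), (18, 18), (24, 24), (24, 25), (21, 6), (23, 27), (27, 27), (27, 28), (23, 29), (23, 30), (27, 30), (27, 31), (23, 33), (23, 34), (32, 32), (33, 33), (38, 38), (27, 34), (35, 40), (41, 23), (2, 5), (14, 43), (37, 44), (23, 45), (46, 46), (46, 27), (48, 48), (49, 49), (2, 17), (26, 51), (39, 52), (41, 53), (54, 47), (54, 27), (50, 56), (57, 23), (42, 58), (59, 59), (60, 60), (61, 55), (3, 1), (63, 36), (64, 41), (65, 47), (66, 62)], 67),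
  ([0, 12, 18, 16, 4, 22, 9, 20, 8, 6, 15, 11, 1, 13, 14, 10, 3, 17, 2, 21, 7, 19, 5, 23], [(0, 0), (3, 3), (3, 4), (4, 4), (6, 6), (5, 7), (1, 1), (1, 9), (1, 10), (1, 11), (1, 12), (1, 13), (1, 14), (1, 15), (1, 16), (10, 10), (18, 18), (19, 19), (18, 20), (17, 17), (22, 22), (23, 23), (22, 24), (2, 0), (25, 2), (27, 27), (27, 28), (27, 29), (27, 1), (1, 31), (1, 32), (1, 33), (29, 29), (35, 35), (30, 30), (37, 37), (27, 9), (21, 39), (40, 27), (40, 29), (36, 42), (43, 40), (44, 44), (34, 34), (46, 46), (1, 26), (8, 48), (47, 49), (38, 50), (51, 51), (51, 41), (43, 51), (52, 54), (51, 44), (45, 56), (57, 55), (43, 58), (59, 59), (3, 1), (61, 53), (62, 51), (63, 60)], 64),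
  ([0, 7, 9, 21, 4, 15, 18, 1, 8, 2, 22, 11, 20, 13, 14, 5, 19, 17, 6, 16, 12, 3, 10, 23], [(0, 0), (1, 1), (1, 4), (4, 4), (6, 6), (7, 7), (6, 8), (5, 5), (10, 10), (11, 11), (10, 12), (2, 1), (1, 2), (1, 14), (1, 16), (15, 15), (18, 18), (19, 19), (18, 20), (2, 4), (9, 22), (2, 15), (21, 24), (2, 5), (13, 26), (27, 25), (23, 27), (25, 27), (23, 28), (25, 28), (25, 29), (30, 30), (30, 34), (31, 31), (36, 36), (27, 29), (32, 38), (39, 23), (39, 39), (40, 40), (23, 39), (41, 43), (23, 30), (35, 45), (46, 44), (17, 17), (48, 48), (2, 17), (49, 50), (37, 51), (39, 52), (39, 53), (52, 23), (42, 55), (47, 56), (57, 57), (57, 46), (46, 59), (3, 1), (61, 33), (62, 54), (63, 60), (64, 58)], 65),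
  ([0, 21, 15, 7, 4, 9, 22, 3, 8, 5, 18, 11, 19, 13, 14, 2, 20, 17, 10, 12, 16, 1, 6, 23], [(0, 0), (1, 1), (4, 4), (5, 5), (6, 6), (5, 7), (2, 1), (1, 2), (2, 10), (9, 9), (9, 12), (12, 12), (13, 14), (2, 4), (8, 16), (1, 10), (15, 18), (17, 19), (19, 19), (19, 20), (17, 21), (17, 22), (19, 22), (19, 23), (19, 24), (19, 26), (17, 28), (27, 27), (27, 30), (17, 25), (25, 32), (17, 26), (31, 34), (35, 35), (29, 29), (37, 37), (37, 38), (1, 11), (39, 40), (41, 33), (35, 41), (41, 41), (41, 43), (41, 19), (17, 46), (44, 44), (42, 42), (49, 49), (50, 36), (51, 51), (17, 41), (48, 53), (33, 41), (48, 55), (56, 54), (51, 57), (3, 1), (59, 47), (60, 45), (61, 58), (62, 52)], 63),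
  ([0, 19, 10, 20, 4, 6, 5, 16, 8, 22, 2, 11, 21, 13, 14, 18, 7, 17, 15, 1, 3, 12, 9, 23], [(0, 0), (1, 1), (1, 4), (1, 5), (4, 4), (7, 7), (8, 8), (7, 9), (5, 5), (11, 11), (12, 12), (11, 13), (6, 6), (15, 15), (16, 16), (15, 17), (1, 2), (1, 19), (2, 4), (10, 21), (2, 5), (14, 23), (22, 24), (2, 20), (18, 26), (27, 24), (22, 27), (24, 27), (27, 27), (27, 29), (22, 31), (27, 32), (28, 28), (35, 35), (30, 30), (37, 37), (27, 25), (38, 39), (40, 40), (40, 22), (22, 42), (42, 42), (22, 28), (36, 45), (22, 46), (40, 47), (47, 41), (48, 48), (33, 33), (51, 51), (24, 31), (52, 53), (44, 54), (50, 55), (56, 43), (3, 1), (58, 34), (59, 57), (60, 49), (61, 56)], 62)]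

theorem l23_ok_24 : l23Chunk24.all l23Good = true := by decide +kernel

def l23Chunk25 : List (List ℕ × List (ℕ × ℕ) × ℕ) := [
  ([0, 10, 19, 6, 4, 20, 3, 22, 8, 16, 1, 11, 15, 13, 14, 12, 9, 17, 21, 2, 5, 18, 7, 23], [(0, 0), (1, 1), (1, 4), (4, 4), (6, 6), (7, 7), (6, 8), (5, 5), (10, 10), (11, 11), (10, 12), (1, 2), (1, 14), (2, 14), (2, 4), (9, 17), (15, 15), (19, 19), (19, 20), (2, 5), (13, 22), (18, 23), (23, 24), (2, 15), (21, 26), (25, 27), (28, 18), (18, 28), (18, 29), (31, 31), (1, 16), (2, 33), (34, 34), (18, 35), (35, 35), (35, 37), (18, 34), (38, 39), (40, 18), (40, 30), (18, 40), (40, 43), (28, 40), (40, 45), (46, 44), (28, 41), (32, 48), (49, 49), (44, 50), (3, 1), (52, 36), (53, 42), (54, 51), (55, 47)], 56),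
  ([0, 9, 7, 15, 4, 21, 12, 2, 8, 1, 16, 11, 6, 13, 14, 3, 10, 17, 20, 22, 18, 5, 19, 23], [(0, 0), (1, 1), (1, 4), (1, 5), (1, 6), (7, 7), (8, 8), (9, 9), (8, 10), (11, 2), (12, 12), (12, 13), (12, 1), (12, 4), (1, 15), (12, 15), (12, 5), (17, 17), (17, 20), (20, 20), (21, 22), (19, 19), (24, 24), (24, 25), (1, 16), (26, 27), (12, 28), (28, 13), (12, 29), (12, 30), (28, 32), (28, 12), (34, 34), (31, 31), (28, 29), (36, 37), (38, 34), (34, 38), (38, 38), (38, 35), (38, 39), (38, 40), (38, 41), (34, 44), (42, 42), (43, 43), (34, 40), (48, 49), (34, 41), (47, 51), (52, 50), (46, 46), (54, 54), (33, 33), (12, 18), (23, 57), (56, 58), (55, 59), (53, 60), (61, 61), (3, 1), (63, 14), (64, 45), (65, 53), (66, 62)], 67),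
  ([0, 16, 22, 12, 4, 18, 15, 19, 8, 10, 9, 11, 3, 13, 14, 6, 1, 17, 5, 7, 21, 20, 2, 23], [(0, 0), (1, 1), (1, 4), (1, 5), (4, 4), (7, 7), (4, 8), (6, 6), (10, 10), (11, 11), (10, 12), (13, 2), (14, 1), (14, 14), (14, 16), (14, 15), (9, 18), (14, 19), (14, 20), (19, 20), (19, 21), (14, 22), (14, 23), (14, 24), (19, 24), (19, 25), (14, 26), (19, 14), (17, 30), (31, 16), (32, 32), (33, 33), (16, 32), (34, 35), (26, 26), (37, 37), (37, 38), (27, 27), (40, 40), (19, 26), (39, 42), (43, 16), (43, 31), (16, 44), (31, 45), (14, 28), (41, 48), (47, 49), (50, 43), (50, 32), (52, 52), (53, 53), (54, 46), (55, 36), (56, 56), (57, 51), (58, 58), (3, 1), (60, 29), (61, 52), (62, 36), (63, 59)], 64),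
  ([0, 3, 5, 1, 4, 2, 10, 21, 8, 15, 6, 11, 16, 13, 14, 9, 12, 17, 22, 20, 19, 7, 18, 23], [(0, 0), (1, 1), (1, 4), (1, 5), (1, 6), (1, 7), (1, 8), (1, 9), (10, 10), (11, 11), (12, 12), (11, 13), (14, 2), (15, 15), (15, 4), (15, 5), (18, 18), (19, 19), (1, 17), (20, 21), (22, 15), (15, 22), (22, 22), (15, 25), (15, 26), (25, 25), (22, 23), (16, 29), (30, 30), (15, 24), (28, 32), (33, 30), (30, 33), (33, 31), (30, 34), (33, 35), (34, 34), (39, 39), (35, 35), (41, 41), (36, 36), (38, 38), (44, 44), (30, 36), (45, 46), (30, 37), (43, 48), (49, 47), (26, 26), (26, 51), (22, 25), (52, 53), (42, 54), (55, 47), (55, 31), (55, 33), (40, 58), (50, 59), (60, 60), (60, 56), (3, 1), (63, 27), (64, 57), (65, 62), (66, 61)], 67),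
  ([0, 5, 3, 2, 4, 1, 19, 15, 8, 21, 20, 11, 22, 13, 14, 7, 18, 17, 16, 6, 10, 9, 12, 23], [(0, 0), (1, 1), (1, 4), (4, 4), (6, 6), (7, 7), (6, 8), (5, 5), (10, 10), (11, 11), (10, 12), (2, 1), (1, 2), (1, 14), (1, 15), (1, 16), (2, 4), (9, 19), (17, 17), (21, 21), (21, 22), (2, 15), (23, 24), (20, 25), (25, 25), (25, 26), (27, 27), (29, 29), (28, 28), (20, 27), (31, 32), (33, 20), (20, 34), (2, 5), (13, 36), (30, 37), (38, 33), (33, 39), (40, 40), (1, 18), (25, 42), (20, 43), (42, 42), (45, 45), (45, 46), (20, 42), (47, 48), (41, 49), (35, 50), (3, 1), (52, 44), (53, 39), (54, 51)], 55)]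

theorem l23_ok_25 : l23Chunk25.all l23Good = true := by decide +kernel

def l23Chunk26 : List (List ℕ × List (ℕ × ℕ) × ℕ) := [
  ([0, 15, 21, 9, 4, 7, 16, 5, 8, 3, 12, 11, 10, 13, 14, 1, 6, 17, 19, 18, 22, 2, 20, 23], [(0, 0), (1, 1), (1, 4), (4, 4), (6, 6), (7, 7), (6, 8), (5, 5), (10, 10), (11, 11), (10, 12), (2, 1), (1, 14), (2, 4), (9, 16), (2, 5), (13, 18), (17, 19), (1, 15), (2, 21), (22, 19), (17, 22), (19, 22), (22, 20), (17, 23), (22, 22), (23, 23), (29, 29), (25, 25), (31, 31), (32, 28), (33, 17), (33, 33), (33, 34), (33, 35), (35, 35), (38, 38), (17, 35), (39, 40), (37, 37), (42, 42), (26, 26), (44, 44), (44, 45), (19, 23), (30, 47), (43, 48), (49, 41), (19, 24), (46, 51), (39, 52), (53, 49), (53, 33), (55, 55), (56, 36), (50, 57), (58, 58), (3, 1), (60, 27), (61, 35), (62, 54), (63, 59)], 64),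
  ([0, 20, 6, 19, 4, 10, 2, 12, 8, 18, 5, 11, 7, 13, 14, 22, 21, 17, 9, 3, 1, 16, 15, 23], [(0, 0), (1, 1), (1, 4), (4, 4), (6, 6), (7, 7), (6, 8), (5, 5), (10, 10), (11, 11), (10, 12), (1, 2), (14, 14), (15, 15), (2, 4), (9, 17), (2, 14), (16, 19), (18, 20), (20, 21), (18, 22), (23, 23), (24, 24), (2, 5), (13, 26), (25, 27), (28, 18), (18, 28), (28, 28), (18, 29), (28, 29), (28, 30), (18, 31), (18, 33), (28, 35), (28, 21), (32, 32), (39, 39), (28, 31), (40, 41), (36, 36), (43, 43), (28, 34), (44, 45), (46, 42), (37, 37), (48, 48), (38, 38), (50, 50), (50, 51), (18, 38), (52, 53), (49, 54), (46, 55), (55, 46), (47, 57), (58, 58), (3, 1), (60, 20), (61, 37), (62, 56), (63, 59)], 64),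
  ([0, 2, 1, 5, 4, 3, 20, 9, 8, 7, 19, 11, 18, 13, 14, 21, 22, 17, 12, 10, 6, 15, 16, 23], [(0, 0), (1, 1), (4, 4), (5, 5), (4, 6), (7, 2), (8, 8), (8, 9), (8, 10), (9, 9), (12, 12), (12, 13), (10, 10), (15, 15), (15, 16), (8, 4), (7, 18), (19, 8), (8, 20), (19, 9), (14, 22), (23, 19), (24, 24), (24, 25), (21, 21), (27, 27), (27, 28), (19, 10), (17, 30), (31, 19), (19, 32), (31, 24), (26, 34), (35, 33), (19, 21), (29, 37), (19, 38), (36, 39), (40, 35), (33, 41), (3, 1), (43, 11), (44, 31), (45, 42), (46, 40)], 47),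
  ([0, 18, 12, 22, 4, 16, 7, 6, 8, 20, 21, 11, 2, 13, 14, 19, 5, 17, 1, 15, 9, 10, 3, 23], [(0, 0), (1, 1), (1, 4), (1, 5), (1, 6), (1, 7), (8, 8), (9, 9), (10, 10), (9, 11), (12, 2), (13, 13), (13, 14), (13, 1), (14, 14), (16, 16), (18, 18), (19, 6), (20, 13), (20, 14), (21, 21), (23, 23), (24, 15), (25, 25), (25, 26), (26, 26), (28, 28), (20, 22), (17, 30), (29, 31), (32, 25), (32, 26), (25, 33), (32, 27), (25, 34), (25, 35), (36, 36), (39, 39), (37, 37), (41, 41), (32, 34), (42, 43), (44, 44), (25, 38), (40, 46), (44, 47), (32, 48), (3, 1), (50, 14), (51, 36), (52, 49), (53, 45)], 54),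
  ([0, 6, 20, 10, 4, 19, 1, 18, 8, 12, 3, 11, 9, 13, 14, 16, 15, 17, 7, 5, 2, 22, 21, 23], [(0, 0), (1, 1), (1, 4), (1, 5), (1, 6), (1, 7), (1, 8), (1, 9), (1, 10), (11, 11), (12, 12), (13, 13), (12, 14), (15, 2), (16, 16), (16, 17), (16, 18), (16, 4), (19, 19), (21, 21), (21, 22), (20, 20), (24, 24), (24, 25), (26, 6), (27, 16), (27, 17), (16, 28), (27, 18), (31, 31), (32, 32), (16, 29), (33, 34), (35, 35), (27, 19), (23, 37), (38, 27), (39, 39), (40, 40), (38, 35), (36, 42), (35, 38), (38, 44), (45, 43), (46, 46), (27, 39), (41, 48), (47, 49), (50, 50), (50, 43), (43, 52), (3, 1), (54, 30), (55, 35), (56, 53), (57, 51)], 58)]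

theorem l23_ok_26 : l23Chunk26.all l23Good = true := by decide +kernel

def l23Chunk27 : List (List ℕ × List (ℕ × ℕ) × ℕ) := [
  ([0, 9, 3, 2, 17, 21, 6, 15, 14, 1, 18, 11, 12, 13, 8, 7, 20, 4, 10, 19, 16, 5, 22, 23], [(0, 0), (1, 1), (1, 4), (1, 5), (1, 6), (7, 7), (8, 8), (9, 9), (8, 10), (11, 2), (12, 12), (12, 13), (12, 1), (13, 13), (15, 15), (17, 17), (17, 18), (19, 5), (20, 12), (12, 20), (12, 21), (22, 22), (22, 24), (20, 13), (16, 26), (27, 27), (23, 23), (23, 29), (20, 21), (25, 31), (32, 27), (27, 32), (32, 32), (35, 35), (27, 34), (33, 37), (38, 28), (20, 14), (30, 40), (36, 41), (28, 42), (43, 39), (28, 44), (43, 33), (32, 46), (3, 1), (48, 13), (49, 47), (50, 45)], 51),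
  ([0, 2, 1, 9, 16, 15, 6, 21, 18, 3, 14, 11, 12, 13, 10, 5, 4, 20, 8, 19, 17, 7, 22, 23], [(0, 0), (3, 3), (4, 4), (5, 5), (4, 5), (6, 6), (7, 8), (1, 1), (1, 10), (10, 10), (12, 12), (10, 13), (11, 11), (15, 15), (16, 16), (15, 17), (14, 2), (19, 19), (19, 20), (19, 1), (20, 20), (23, 23), (21, 21), (25, 25), (19, 10), (18, 27), (28, 19), (19, 28), (28, 28), (24, 31), (28, 20), (26, 33), (32, 34), (2, 0), (9, 36), (1, 37), (19, 37), (37, 37), (38, 38), (38, 41), (41, 41), (42, 43), (39, 39), (45, 45), (46, 46), (45, 47), (44, 40), (29, 49), (34, 50), (50, 51), (50, 34), (35, 53), (54, 32), (52, 52), (56, 56), (37, 22), (48, 58), (30, 59), (57, 60), (61, 54), (54, 62), (61, 35), (50, 64), (61, 30), (61, 55), (32, 67), (68, 68), (3, 1), (70, 66), (71, 65), (72, 63), (73, 69)], 74),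
  ([0, 8, 18, 10, 21, 17, 6, 16, 1, 14, 3, 11, 12, 13, 9, 20, 7, 5, 2, 19, 15, 4, 22, 23], [(0, 0), (1, 1), (1, 4), (5, 5), (6, 6), (7, 7), (6, 8), (9, 2), (10, 10), (10, 11), (10, 1), (12, 12), (12, 14), (13, 13), (16, 16), (17, 17), (16, 18), (19, 5), (10, 20), (20, 20), (20, 11), (10, 23), (20, 24), (22, 22), (20, 10), (11, 27), (28, 28), (29, 29), (10, 21), (26, 31), (32, 28), (28, 32), (32, 29), (28, 33), (34, 34), (37, 37), (36, 36), (39, 39), (32, 34), (38, 41), (32, 36), (40, 43), (44, 42), (20, 23), (15, 46), (47, 32), (30, 48), (45, 49), (50, 45), (42, 51), (3, 1), (53, 25), (54, 35), (55, 52)], 56),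
  ([0, 15, 5, 21, 10, 2, 6, 9, 20, 7, 4, 11, 12, 13, 16, 1, 14, 18, 17, 19, 8, 3, 22, 23], [(0, 0), (1, 1), (1, 4), (2, 1), (1, 2), (2, 4), (1, 7), (2, 5), (6, 6), (6, 11), (11, 11), (12, 13), (8, 8), (8, 15), (15, 15), (16, 17), (1, 6), (18, 19), (10, 10), (21, 21), (10, 22), (1, 8), (23, 24), (1, 9), (14, 26), (27, 25), (20, 27), (25, 27), (20, 28), (27, 30), (25, 32), (27, 27), (29, 29), (20, 34), (31, 31), (31, 37), (25, 28), (38, 39), (40, 34), (34, 41), (20, 42), (25, 29), (35, 44), (45, 34), (46, 46), (47, 47), (34, 46), (48, 49), (50, 43), (3, 1), (52, 33), (53, 36), (54, 51)], 55),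
  ([0, 5, 15, 7, 14, 1, 6, 3, 17, 21, 16, 11, 12, 13, 4, 2, 10, 8, 20, 19, 18, 9, 22, 23], [(0, 0), (1, 1), (1, 4), (1, 5), (2, 1), (1, 2), (2, 4), (1, 7), (2, 8), (9, 9), (12, 12), (13, 13), (12, 14), (11, 11), (16, 16), (17, 17), (16, 18), (19, 6), (20, 20), (20, 21), (21, 21), (23, 23), (22, 22), (25, 25), (1, 9), (2, 27), (20, 28), (28, 20), (30, 30), (30, 31), (28, 29), (24, 33), (32, 34), (35, 30), (30, 36), (35, 31), (31, 38), (39, 35), (1, 10), (15, 41), (26, 42), (43, 30), (43, 31), (30, 44), (30, 46), (45, 45), (48, 48), (49, 37), (50, 40), (39, 51), (3, 1), (53, 20), (54, 47), (55, 52)], 56)]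

theorem l23_ok_27 : l23Chunk27.all l23Good = true := by decide +kernel

def l23Chunk28 : List (List ℕ × List (ℕ × ℕ) × ℕ) := [
  ([0, 14, 10, 18, 5, 4, 6, 20, 9, 8, 2, 11, 12, 13, 1, 16, 15, 21, 3, 19, 7, 17, 22, 23], [(0, 0), (1, 1), (1, 4), (1, 5), (1, 6), (2, 1), (1, 2), (2, 5), (8, 8), (11, 11), (8, 12), (9, 9), (14, 14), (9, 15), (2, 4), (16, 17), (18, 18), (18, 19), (18, 20), (21, 21), (22, 22), (1, 9), (13, 24), (18, 25), (25, 25), (25, 19), (18, 26), (18, 27), (29, 29), (30, 30), (25, 27), (31, 33), (34, 34), (35, 35), (25, 28), (23, 37), (36, 38), (39, 34), (35, 40), (41, 39), (10, 10), (43, 43), (43, 44), (45, 7), (32, 46), (47, 47), (3, 1), (49, 25), (50, 48), (51, 42)], 52),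
  ([0, 21, 7, 15, 8, 9, 6, 2, 4, 5, 20, 11, 12, 13, 17, 3, 18, 14, 16, 19, 10, 1, 22, 23], [(0, 0), (1, 1), (1, 4), (5, 5), (6, 6), (7, 7), (6, 8), (2, 1), (1, 2), (1, 11), (10, 10), (13, 13), (11, 11), (15, 15), (2, 4), (9, 17), (18, 18), (2, 11), (16, 20), (21, 18), (18, 21), (21, 19), (18, 22), (21, 23), (24, 24), (26, 26), (28, 28), (18, 24), (29, 30), (18, 25), (27, 32), (1, 12), (14, 34), (21, 35), (33, 36), (36, 36), (36, 37), (31, 38), (36, 40), (36, 41), (39, 39), (33, 38), (43, 44), (31, 45), (46, 33), (3, 1), (48, 22), (49, 42), (50, 47), (51, 46)], 52),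
  ([0, 17, 20, 16, 9, 8, 6, 10, 5, 4, 7, 11, 12, 13, 21, 18, 3, 1, 15, 19, 2, 14, 22, 23], [(0, 0), (2, 1), (1, 2), (1, 5), (5, 5), (5, 7), (7, 7), (8, 9), (1, 4), (2, 11), (12, 12), (6, 6), (6, 14), (14, 14), (15, 16), (2, 5), (10, 18), (12, 19), (20, 20), (21, 21), (21, 22), (19, 20), (23, 24), (2, 6), (17, 26), (25, 27), (28, 13), (28, 12), (28, 19), (19, 30), (28, 20), (29, 29), (29, 34), (33, 33), (33, 36), (19, 31), (37, 38), (35, 39), (28, 40), (41, 41), (3, 1), (43, 32), (44, 13), (45, 28), (46, 42)], 47),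
  ([0, 20, 17, 4, 3, 18, 6, 14, 15, 16, 21, 11, 12, 13, 7, 8, 9, 2, 5, 19, 1, 10, 22, 23], [(0, 0), (1, 1), (1, 4), (1, 5), (1, 6), (7, 7), (8, 8), (9, 9), (8, 10), (2, 1), (1, 12), (12, 12), (14, 14), (1, 2), (15, 16), (17, 17), (13, 13), (19, 19), (20, 20), (19, 21), (2, 13), (22, 23), (24, 18), (17, 25), (24, 17), (18, 27), (24, 28), (28, 29), (24, 30), (31, 31), (32, 32), (2, 6), (11, 34), (26, 35), (33, 36), (37, 37), (37, 28), (24, 39), (37, 17), (17, 41), (17, 42), (40, 40), (40, 44), (37, 30), (45, 46), (47, 37), (3, 1), (49, 43), (50, 40), (51, 38), (52, 48)], 53),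
  ([0, 3, 9, 1, 20, 7, 6, 5, 10, 2, 8, 11, 12, 13, 18, 21, 17, 16, 14, 19, 4, 15, 22, 23], [(0, 0), (1, 1), (1, 4), (1, 5), (1, 6), (1, 7), (1, 8), (1, 9), (5, 5), (11, 11), (12, 12), (11, 13), (10, 10), (15, 15), (16, 16), (15, 17), (18, 2), (19, 19), (19, 1), (19, 21), (14, 22), (19, 23), (23, 23), (25, 25), (24, 24), (27, 27), (27, 28), (26, 26), (26, 30), (23, 20), (29, 32), (33, 33), (34, 34), (19, 24), (31, 36), (35, 37), (38, 33), (38, 34), (33, 39), (38, 39), (33, 40), (33, 41), (33, 42), (38, 44), (43, 43), (38, 41), (47, 48), (49, 38), (50, 50), (46, 46), (46, 52), (33, 45), (53, 54), (3, 1), (56, 23), (57, 46), (58, 55), (59, 51)], 60)]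

theorem l23_ok_28 : l23Chunk28.all l23Good = true := by decide +kernel

def l23Chunk29 : List (List ℕ × List (ℕ × ℕ) × ℕ) := [
  ([0, 10, 14, 8, 15, 16, 6, 17, 3, 18, 1, 11, 12, 13, 2, 4, 5, 7, 9, 19, 21, 20, 22, 23], [(0, 0), (1, 1), (1, 4), (1, 5), (6, 6), (7, 7), (8, 8), (7, 9), (2, 1), (1, 11), (1, 12), (2, 13), (14, 14), (14, 15), (16, 16), (17, 17), (2, 12), (10, 19), (14, 20), (14, 21), (14, 22), (14, 23), (20, 24), (14, 25), (20, 21), (27, 27), (27, 16), (27, 28), (14, 28), (30, 31), (27, 29), (18, 33), (34, 32), (3, 1), (36, 26), (37, 14), (38, 35)], 39),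
  ([0, 18, 8, 14, 7, 20, 6, 4, 2, 10, 9, 11, 12, 13, 3, 17, 21, 15, 1, 19, 5, 16, 22, 23], [(0, 0), (1, 1), (1, 4), (1, 5), (1, 6), (1, 7), (8, 8), (9, 9), (10, 10), (9, 11), (12, 2), (13, 13), (13, 14), (13, 15), (13, 1), (13, 4), (13, 17), (16, 16), (20, 20), (19, 19), (22, 22), (19, 23), (1, 18), (24, 25), (26, 13), (13, 26), (26, 26), (26, 14), (13, 28), (29, 29), (32, 32), (13, 27), (32, 34), (35, 35), (13, 30), (33, 37), (38, 35), (35, 39), (40, 40), (26, 30), (21, 42), (41, 43), (44, 44), (44, 36), (36, 46), (45, 47), (48, 44), (3, 1), (50, 31), (51, 38), (52, 49), (53, 48)], 54),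
  ([0, 4, 16, 20, 1, 14, 6, 18, 21, 17, 15, 11, 12, 13, 5, 10, 2, 9, 7, 19, 3, 8, 22, 23], [(0, 0), (1, 1), (4, 4), (5, 5), (6, 6), (5, 7), (8, 2), (9, 9), (9, 10), (11, 11), (12, 12), (12, 13), (9, 1), (8, 15), (14, 16), (17, 17), (17, 9), (17, 10), (17, 11), (17, 21), (20, 20), (23, 23), (23, 24), (9, 19), (25, 26), (27, 17), (17, 27), (27, 27), (27, 18), (17, 28), (31, 31), (33, 33), (32, 32), (35, 35), (17, 29), (34, 37), (27, 30), (36, 39), (40, 38), (3, 1), (42, 22), (43, 30), (44, 41)], 45),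
  ([0, 16, 4, 17, 2, 10, 6, 8, 7, 20, 5, 11, 12, 13, 15, 14, 1, 3, 21, 19, 9, 18, 22, 23], [(0, 0), (1, 1), (1, 4), (1, 5), (6, 6), (7, 7), (8, 8), (7, 9), (10, 2), (11, 11), (11, 12), (11, 13), (11, 1), (11, 4), (12, 12), (17, 17), (17, 18), (15, 15), (15, 20), (20, 20), (21, 22), (1, 16), (23, 24), (25, 11), (11, 25), (25, 25), (25, 26), (25, 29), (11, 30), (28, 28), (32, 32), (11, 26), (32, 34), (35, 35), (36, 36), (37, 37), (25, 27), (19, 39), (35, 40), (40, 36), (40, 41), (35, 43), (35, 41), (42, 45), (44, 44), (47, 47), (33, 14), (48, 49), (50, 40), (50, 51), (35, 52), (50, 35), (38, 54), (55, 46), (50, 55), (56, 57), (58, 58), (3, 1), (60, 31), (61, 53), (62, 55), (63, 59)], 64),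
  ([0, 7, 21, 5, 18, 3, 6, 1, 16, 15, 17, 11, 12, 13, 20, 9, 8, 10, 4, 19, 14, 2, 22, 23], [(0, 0), (1, 1), (1, 4), (1, 5), (6, 6), (7, 7), (8, 8), (7, 9), (2, 1), (1, 11), (12, 12), (13, 13), (13, 14), (2, 5), (10, 16), (17, 17), (17, 18), (17, 19), (17, 20), (17, 21), (20, 20), (23, 23), (23, 24), (2, 12), (15, 26), (27, 17), (27, 18), (17, 28), (17, 29), (27, 30), (32, 32), (33, 33), (33, 34), (27, 20), (25, 36), (27, 37), (38, 38), (17, 31), (35, 40), (37, 41), (41, 42), (27, 43), (41, 37), (39, 45), (46, 46), (27, 47), (3, 1), (49, 22), (50, 44), (51, 48)], 52)]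

theorem l23_ok_29 : l23Chunk29.all l23Good = true := by decide +kernel

def l23Chunk30 : List (List ℕ × List (ℕ × ℕ) × ℕ) := [
  ([0, 3, 6, 1, 4, 10, 2, 16, 17, 9, 5, 11, 21, 14, 13, 15, 7, 8, 18, 20, 19, 12, 22, 23], [(0, 0), (1, 1), (1, 4), (1, 5), (1, 6), (1, 7), (1, 8), (1, 9), (4, 4), (11, 11), (4, 12), (10, 10), (14, 14), (15, 15), (14, 16), (17, 2), (18, 18), (19, 19), (20, 20), (18, 1), (13, 22), (18, 23), (23, 23), (23, 24), (23, 25), (23, 27), (25, 25), (29, 29), (18, 26), (30, 31), (21, 32), (33, 33), (33, 18), (33, 19), (18, 35), (18, 36), (33, 36), (33, 38), (33, 40), (35, 35), (39, 39), (39, 43), (18, 37), (44, 45), (33, 46), (46, 34), (18, 38), (42, 49), (50, 46), (51, 51), (52, 48), (3, 1), (54, 28), (55, 41), (56, 47), (57, 53)], 58),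
  ([0, 8, 12, 17, 4, 7, 21, 5, 1, 9, 16, 11, 2, 20, 19, 15, 10, 3, 18, 14, 13, 6, 22, 23], [(0, 0), (1, 1), (1, 4), (5, 5), (6, 6), (7, 7), (6, 8), (9, 2), (10, 10), (10, 11), (10, 1), (1, 13), (11, 11), (15, 15), (14, 14), (17, 17), (18, 18), (17, 19), (10, 5), (20, 21), (10, 22), (22, 22), (10, 24), (24, 25), (26, 26), (26, 27), (26, 28), (27, 27), (30, 30), (22, 12), (16, 32), (33, 33), (33, 34), (35, 35), (36, 36), (37, 29), (33, 28), (31, 39), (40, 38), (40, 41), (3, 1), (43, 23), (44, 34), (45, 42)], 46),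
  ([0, 2, 1, 6, 4, 19, 3, 14, 12, 9, 20, 11, 8, 16, 7, 15, 13, 21, 18, 5, 10, 17, 22, 23], [(0, 0), (3, 3), (4, 4), (5, 5), (4, 5), (6, 6), (7, 8), (1, 1), (10, 10), (11, 11), (10, 12), (12, 12), (11, 14), (13, 2), (16, 16), (16, 10), (13, 18), (19, 17), (16, 20), (16, 19), (19, 22), (23, 23), (19, 21), (21, 25), (24, 26), (2, 0), (9, 28), (29, 1), (15, 30), (31, 16), (16, 32), (31, 19), (19, 34), (27, 35), (35, 35), (35, 36), (27, 38), (23, 35), (37, 40), (41, 27), (27, 42), (3, 1), (44, 33), (45, 39), (46, 43)], 47),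
  ([0, 5, 19, 10, 4, 1, 20, 8, 7, 9, 3, 11, 14, 21, 12, 15, 17, 16, 18, 2, 6, 13, 22, 23], [(0, 0), (1, 1), (1, 4), (1, 5), (1, 6), (4, 4), (8, 8), (9, 9), (8, 10), (7, 7), (12, 12), (13, 13), (12, 14), (2, 1), (1, 2), (1, 16), (1, 17), (2, 5), (1, 19), (2, 4), (11, 22), (20, 20), (24, 24), (25, 25), (24, 26), (1, 18), (27, 28), (29, 29), (29, 30), (21, 21), (32, 32), (33, 33), (32, 34), (2, 6), (35, 36), (37, 23), (37, 29), (37, 38), (37, 39), (37, 41), (38, 38), (38, 43), (41, 41), (41, 45), (2, 7), (15, 47), (48, 29), (31, 49), (48, 37), (44, 51), (48, 40), (46, 53), (54, 50), (52, 54), (54, 54), (54, 57), (54, 52), (59, 48), (50, 54), (58, 61), (62, 48), (50, 55), (56, 64), (60, 65), (66, 66), (3, 1), (68, 42), (69, 57), (70, 63), (71, 67)], 72),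
  ([0, 7, 14, 16, 4, 8, 13, 1, 5, 9, 17, 11, 19, 6, 2, 15, 3, 10, 18, 12, 21, 20, 22, 23], [(0, 0), (1, 1), (1, 4), (4, 4), (6, 6), (7, 7), (6, 8), (2, 1), (1, 10), (10, 10), (12, 12), (13, 13), (12, 14), (1, 2), (15, 16), (17, 17), (2, 4), (9, 19), (20, 17), (20, 18), (17, 21), (17, 22), (20, 23), (17, 20), (20, 26), (23, 23), (28, 28), (20, 24), (24, 30), (31, 27), (11, 11), (11, 33), (2, 5), (34, 35), (29, 36), (37, 27), (27, 37), (27, 38), (37, 17), (31, 37), (39, 42), (40, 40), (44, 44), (31, 38), (45, 46), (41, 41), (48, 48), (48, 49), (17, 41), (50, 51), (52, 27), (52, 31), (32, 54), (55, 47), (53, 39), (43, 57), (58, 56), (3, 1), (60, 25), (61, 52), (62, 59)], 63)]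

theorem l23_ok_30 : l23Chunk30.all l23Good = true := by decide +kernel

def l23Chunk31 : List (List ℕ × List (ℕ × ℕ) × ℕ) := [
  ([0, 6, 3, 2, 4, 20, 1, 13, 21, 9, 19, 11, 17, 7, 16, 15, 14, 12, 18, 10, 5, 8, 22, 23], [(0, 0), (1, 1), (1, 4), (1, 5), (1, 6), (1, 7), (1, 8), (1, 9), (1, 10), (11, 11), (12, 12), (13, 13), (12, 14), (15, 2), (16, 16), (16, 17), (16, 1), (1, 19), (16, 20), (20, 17), (16, 21), (20, 21), (20, 22), (20, 16), (26, 26), (27, 27), (23, 23), (29, 29), (20, 18), (30, 31), (26, 32), (32, 27), (26, 33), (32, 26), (28, 36), (33, 33), (38, 38), (25, 25), (40, 40), (16, 24), (41, 42), (43, 26), (26, 43), (44, 44), (46, 46), (45, 45), (48, 48), (32, 43), (49, 50), (51, 37), (47, 34), (53, 37), (53, 52), (43, 44), (39, 56), (54, 57), (58, 58), (3, 1), (60, 17), (61, 35), (62, 55), (63, 59)], 64),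
  ([0, 16, 13, 7, 4, 17, 14, 3, 10, 9, 8, 11, 20, 2, 6, 15, 1, 5, 18, 21, 12, 19, 22, 23], [(0, 0), (1, 1), (1, 4), (1, 5), (6, 6), (7, 7), (8, 8), (7, 9), (10, 2), (11, 11), (11, 1), (12, 12), (14, 14), (14, 15), (13, 13), (17, 17), (17, 18), (19, 5), (16, 20), (21, 21), (21, 11), (11, 23), (24, 24), (25, 25), (25, 26), (21, 23), (27, 28), (21, 29), (29, 22), (21, 30), (29, 21), (30, 30), (32, 32), (35, 35), (29, 30), (36, 37), (38, 33), (33, 39), (29, 31), (34, 41), (40, 42), (3, 1), (44, 24), (45, 30), (46, 43)], 47),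
  ([0, 14, 7, 13, 4, 12, 16, 2, 19, 9, 21, 11, 5, 3, 1, 15, 6, 20, 18, 8, 17, 10, 22, 23], [(0, 0), (1, 1), (4, 4), (5, 5), (6, 6), (5, 7), (2, 1), (1, 2), (1, 10), (2, 10), (1, 11), (1, 13), (2, 4), (8, 15), (1, 9), (2, 17), (18, 16), (16, 18), (19, 19), (21, 21), (20, 20), (23, 23), (16, 19), (22, 25), (1, 12), (27, 26), (26, 28), (27, 29), (30, 30), (31, 31), (27, 18), (24, 33), (32, 34), (35, 27), (35, 26), (37, 37), (14, 14), (14, 39), (39, 39), (40, 41), (2, 13), (42, 43), (22, 44), (38, 45), (46, 26), (35, 47), (3, 1), (49, 16), (50, 48), (51, 36)], 52),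
  ([0, 19, 5, 20, 4, 2, 10, 12, 14, 9, 6, 11, 7, 17, 8, 15, 21, 13, 18, 1, 3, 16, 22, 23], [(0, 0), (1, 1), (1, 4), (4, 4), (6, 6), (7, 7), (6, 8), (1, 2), (1, 10), (2, 5), (10, 10), (13, 13), (10, 14), (2, 4), (9, 16), (2, 10), (15, 18), (19, 17), (17, 19), (19, 21), (12, 12), (12, 23), (23, 23), (24, 25), (1, 11), (26, 27), (28, 17), (17, 29), (28, 20), (17, 31), (32, 22), (32, 33), (3, 1), (35, 30), (36, 34)], 37),
  ([0, 17, 21, 8, 4, 16, 12, 10, 3, 9, 7, 11, 6, 19, 20, 15, 5, 1, 18, 13, 14, 2, 22, 23], [(0, 0), (1, 1), (4, 4), (5, 5), (6, 6), (5, 7), (2, 1), (1, 2), (1, 10), (9, 9), (12, 12), (12, 13), (10, 10), (15, 15), (15, 16), (2, 4), (8, 18), (2, 10), (17, 20), (19, 21), (22, 22), (1, 11), (14, 24), (25, 19), (19, 25), (22, 27), (25, 28), (25, 29), (25, 26), (31, 23), (3, 1), (33, 30), (34, 32)], 35)]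

theorem l23_ok_31 : l23Chunk31.all l23Good = true := by decide +kernel

def l23Chunk32 : List (List ℕ × List (ℕ × ℕ) × ℕ) := [
  ([0, 21, 17, 12, 4, 13, 8, 20, 6, 9, 14, 11, 3, 5, 10, 15, 19, 2, 18, 16, 7, 1, 22, 23], [(0, 0), (1, 1), (1, 4), (1, 5), (4, 4), (7, 7), (8, 8), (7, 9), (2, 1), (1, 2), (1, 11), (2, 12), (2, 4), (10, 15), (13, 13), (17, 17), (14, 14), (19, 19), (20, 20), (19, 21), (22, 6), (23, 16), (16, 23), (23, 23), (16, 24), (16, 26), (23, 27), (23, 28), (23, 25), (30, 30), (32, 32), (32, 33), (16, 29), (34, 35), (36, 31), (36, 36), (36, 37), (31, 38), (2, 13), (18, 41), (42, 23), (42, 24), (44, 44), (45, 45), (23, 43), (46, 47), (48, 48), (48, 37), (48, 36), (38, 51), (49, 49), (53, 39), (52, 54), (52, 55), (56, 56), (50, 50), (50, 58), (59, 40), (57, 60), (61, 52), (54, 62), (3, 1), (64, 24), (65, 31), (66, 63)], 67),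
  ([0, 12, 8, 21, 4, 14, 17, 19, 2, 9, 13, 11, 1, 10, 5, 15, 20, 6, 18, 7, 16, 3, 22, 23], [(0, 0), (1, 1), (1, 4), (1, 5), (1, 6), (1, 7), (1, 8), (1, 9), (1, 10), (1, 11), (5, 5), (13, 13), (14, 14), (13, 15), (12, 12), (17, 17), (18, 18), (17, 19), (20, 2), (21, 21), (21, 22), (21, 1), (23, 23), (23, 25), (24, 24), (27, 27), (21, 4), (16, 29), (26, 30), (31, 31), (31, 21), (22, 33), (32, 34), (28, 6), (21, 36), (31, 37), (21, 38), (36, 36), (22, 40), (41, 31), (31, 41), (35, 41), (41, 42), (41, 45), (41, 41), (43, 43), (44, 44), (49, 49), (48, 47), (51, 35), (51, 52), (53, 53), (31, 43), (50, 55), (51, 56), (56, 57), (56, 52), (54, 59), (60, 60), (3, 1), (62, 39), (63, 46), (64, 58), (65, 61)], 66),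
  ([0, 13, 16, 14, 4, 21, 7, 6, 20, 9, 12, 11, 10, 1, 3, 15, 2, 19, 18, 17, 8, 5, 22, 23], [(0, 0), (1, 1), (1, 4), (1, 5), (1, 6), (1, 7), (1, 8), (9, 9), (10, 10), (11, 11), (10, 12), (13, 2), (14, 14), (14, 15), (14, 1), (14, 4), (1, 17), (14, 18), (20, 20), (21, 21), (1, 19), (22, 23), (14, 24), (24, 24), (14, 25), (24, 25), (24, 26), (14, 27), (24, 28), (14, 29), (24, 32), (26, 26), (24, 14), (35, 35), (35, 36), (37, 37), (38, 38), (34, 34), (34, 40), (41, 16), (39, 42), (43, 35), (44, 44), (45, 45), (46, 37), (43, 47), (47, 47), (43, 49), (50, 50), (31, 31), (52, 52), (52, 53), (14, 30), (54, 55), (35, 56), (56, 56), (56, 57), (43, 56), (58, 60), (51, 61), (62, 48), (3, 1), (64, 33), (65, 59), (66, 63), (67, 62)], 68),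
  ([0, 20, 10, 19, 4, 6, 5, 21, 13, 9, 2, 11, 16, 8, 17, 15, 12, 14, 18, 3, 1, 7, 22, 23], [(0, 0), (1, 1), (4, 4), (5, 5), (6, 6), (5, 7), (2, 1), (1, 2), (1, 10), (1, 11), (2, 4), (8, 13), (1, 9), (2, 15), (16, 14), (14, 16), (16, 16), (16, 17), (16, 18), (17, 17), (22, 22), (18, 18), (24, 24), (14, 17), (23, 26), (20, 20), (28, 28), (14, 20), (29, 30), (16, 21), (25, 32), (31, 33), (12, 12), (35, 35), (35, 36), (2, 12), (37, 38), (39, 34), (39, 19), (14, 41), (39, 27), (27, 43), (44, 31), (3, 1), (46, 42), (47, 40), (48, 45)], 49),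
  ([0, 10, 20, 5, 4, 3, 19, 17, 16, 9, 1, 11, 13, 12, 21, 15, 8, 7, 18, 6, 2, 14, 22, 23], [(0, 0), (1, 1), (1, 4), (1, 5), (4, 4), (7, 7), (8, 8), (7, 9), (6, 6), (11, 11), (12, 12), (11, 13), (2, 1), (15, 15), (16, 16), (16, 17), (1, 2), (18, 19), (20, 20), (21, 21), (2, 4), (10, 23), (24, 20), (25, 25), (26, 26), (26, 27), (24, 21), (22, 29), (20, 25), (28, 31), (32, 30), (32, 32), (32, 33), (2, 5), (14, 36), (37, 20), (24, 37), (37, 39), (37, 24), (30, 41), (42, 42), (43, 43), (20, 38), (24, 45), (46, 46), (47, 47), (48, 48), (49, 35), (44, 50), (51, 43), (3, 1), (53, 40), (54, 34), (55, 52)], 56)]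

theorem l23_ok_32 : l23Chunk32.all l23Good = true := by decide +kernel

/-- all the certificates, in chunks. -/
def l23Chunks : List (List (List ℕ × List (ℕ × ℕ) × ℕ)) := [l23Chunk0, l23Chunk1, l23Chunk2, l23Chunk3, l23Chunk4, l23Chunk5, l23Chunk6, l23Chunk7, l23Chunk8, l23Chunk9, l23Chunk10, l23Chunk11, l23Chunk12, l23Chunk13, l23Chunk14, l23Chunk15, l23Chunk16, l23Chunk17, l23Chunk18, l23Chunk19, l23Chunk20, l23Chunk21, l23Chunk22, l23Chunk23, l23Chunk24, l23Chunk25, l23Chunk26, l23Chunk27, l23Chunk28, l23Chunk29, l23Chunk30, l23Chunk31, l23Chunk32]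

theorem l23_ok_all : ∀ l ∈ l23Chunks, l.all l23Good = true := by
  intro l hl
  simp only [l23Chunks, List.mem_cons, List.not_mem_nil, or_false] at hl
  rcases hl with rfl | rfl | rfl | rfl | rfl | rfl | rfl | rfl | rfl | rfl | rfl | rfl | rfl | rfl | rfl | rfl | rfl | rfl | rfl | rfl | rfl | rfl | rfl | rfl | rfl | rfl | rfl | rfl | rfl | rfl | rfl | rfl | rfl
  · exact l23_ok_0
  · exact l23_ok_1
  · exact l23_ok_2
  · exact l23_ok_3
  · exact l23_ok_4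
  · exact l23_ok_5
  · exact l23_ok_6
  · exact l23_ok_7
  · exact l23_ok_8
  · exact l23_ok_9
  · exact l23_ok_10
  · exact l23_ok_11
  · exact l23_ok_12
  · exact l23_ok_13
  · exact l23_ok_14
  · exact l23_ok_15
  · exact l23_ok_16
  · exact l23_ok_17
  · exact l23_ok_18
  · exact l23_ok_19
  · exact l23_ok_20
  · exact l23_ok_21
  · exact l23_ok_22
  · exact l23_ok_23
  · exact l23_ok_24
  · exact l23_ok_25
  · exact l23_ok_26
  · exact l23_ok_27
  · exact l23_ok_28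
  · exact l23_ok_29
  · exact l23_ok_30
  · exact l23_ok_31
  · exact l23_ok_32

/-- the involution tables with a certificate. -/
def l23Ys : List (List ℕ) := l23Chunks.flatten.map (fun c => c.1)

theorem l23_cover : o23Cands.all (fun y => y == idT || l23Ys.contains y) = true := by
  decide +kernel

theorem l23_gg : mulT l23GT l23GT = idT := by decide +kernel

theorem l23_gng : mulT (mulT l23GT o24NT) l23GT = powT o24NT 10 := by decide +kernel

theorem l23_n11 : powT o24NT 11 = idT := by decide +kernel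

theorem l23_nan : mulT o24NT o24AT = mulT (powT o24AT 2) o24NT := by decide +kernel

theorem l23_br_ok : (List.range 22).all (fun i =>
    mulT (mulT l23GT (powT o24AT (i + 1))) l23GT ==
      mulT (mulT (mulT (powT o24AT (l23Br.getD i (0, 0, 0)).1)
        (powT o24NT (l23Br.getD i (0, 0, 0)).2.1)) l23GT)
        (powT o24AT (l23Br.getD i (0, 0, 0)).2.2)) = true := by
  decide +kernel

end Cfsg.Agent.Helper9.L23
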